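import Mathlib
import Cfsg.Agent.LeechMat.Elements
import Cfsg.Agent.Leech.Basic
import Cfsg.Agent.Leech.ModTwoLeech
import Cfsg.Agent.Monster.PauliBits
set_option linter.all false

/-!
The map `psi` from the rank 24 lattice modulo 2 to the Pauli group on 12 qubits modulo its centre.

`vX k`, `vZ k` are lattice vectors corresponding to the Pauli elements `X_k`, `Z_k`;
`psi v = (a, b)` with `a_k = (v, vZ k)/8`, `b_k = (v, vX k)/8` modulo 2.
-/

set_option autoImplicit false

namespace Cfsg.Agent.MonsterX.Psi

open Cfsg Cfsg.Agent.LeechMat.Core Cfsg.Agent.LeechMat.Code Cfsg.Agent.LeechMat.Elements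
open Cfsg.Agent.Monster.PauliBasic Cfsg.Agent.Monster.PauliClif Cfsg.Agent.Monster.PauliGates

/-- Packed vectors of the `X_k`. -/
def xs : List ℕ :=
  [0x8425284a1084254842108521074a4e,
   0x8425294a1294250842128421084210,
   0x83a5274a12742509425284a1074a52,
   0x841ce94a0e7425284a1274212939ce,
   0x8425084a1094a52942108421084212,
   0x849d093a128421074210842108424e,
   0x842928425294a50842148421083a0e,
   0x84a529421094212942108421284210,
   0x74250942508425284a5294a1274a52,
   0x74a52842109421284a529424e94a52,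
   0x8421294a5094a12842109421084210,
   0x6c6318c6318c6318c6318c6318c631]

/-- Packed vectors of the `Z_k`. -/
def zs : List ℕ :=
  [0x8429085210a4290842108421084210,
   0x852108421084290a42108421085210,
   0x642108421084210842908421084210,
   0x642108421084210852108421084210,
   0x842948521084290842108421084210,
   0x842108421084210842108421064290,
   0x842108421084210842108421065210,
   0x842108421084210832108421484210,
   0x642108421084210842108429084210,
   0x842108421084210841908521084210,
   0x84210842108421083210a421084210,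
   0x842108421084210842108421084218]

theorem isLeech_xs : ∀ k : Fin 12, isLeech (xs.getD k 0) = true := by decide +kernel

theorem isLeech_zs : ∀ k : Fin 12, isLeech (zs.getD k 0) = true := by decide +kernel

/-- The lattice vector of `X_k`. -/
def vX (k : Fin 12) : leechLattice := ⟨vec (xs.getD k 0), isLeech_sound (isLeech_xs k)⟩

/-- The lattice vector of `Z_k`. -/
def vZ (k : Fin 12) : leechLattice := ⟨vec (zs.getD k 0), isLeech_sound (isLeech_zs k)⟩

/-- The bilinear form `(v, w)/8` modulo 2. -/
def bl (v w : leechLattice) : ZMod 2 := ((dotInt (v : GolayPt → ℤ) (w : GolayPt → ℤ) / 8 : ℤ) : ZMod 2)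

theorem eight_dvd (v w : leechLattice) :
    (8 : ℤ) ∣ dotInt (v : GolayPt → ℤ) (w : GolayPt → ℤ) :=
  Cfsg.Agent.Leech.Basic.eight_dvd_dotInt v.2 w.2

theorem bl_add_left (v v' w : leechLattice) : bl (v + v') w = bl v w + bl v' w := by
  unfold bl
  rw [AddSubgroup.coe_add, dotInt_add_left, Int.add_ediv_of_dvd_left (eight_dvd v w)]
  push_cast; rfl

theorem bl_comm (v w : leechLattice) : bl v w = bl w v := by
  unfold bl; rw [dotInt_comm]

theorem bl_add_right (v w w' : leechLattice) : bl v (w + w') = bl v w + bl v w' := by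
  rw [bl_comm, bl_add_left, bl_comm w, bl_comm w']

theorem bl_zero_left (w : leechLattice) : bl 0 w = 0 := by
  have := bl_add_left 0 0 w
  rw [add_zero] at this
  simpa using this

theorem bl_two_left (v w : leechLattice) : bl (2 • v) w = 0 := by
  rw [two_smul, bl_add_left]; exact zmod2_add_self _

theorem bl_smul (A : Co0) (v w : leechLattice) : bl (A • v) (A • w) = bl v w := by
  unfold bl; rw [co0_dotInt]

/-- The map to the Pauli group modulo its centre. -/
def psi : leechLattice →+ B 12 × B 12 where
  toFun v := (fun k => bl v (vZ k), fun k => bl v (vX k))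
  map_zero' := by
    apply Prod.ext <;> funext k <;> exact bl_zero_left _
  map_add' v w := by
    apply Prod.ext <;> funext k <;> exact bl_add_left _ _ _

theorem psi_fst (v : leechLattice) (k : Fin 12) : (psi v).1 k = bl v (vZ k) := rfl
theorem psi_snd (v : leechLattice) (k : Fin 12) : (psi v).2 k = bl v (vX k) := rfl

/-- `(v, w)/8` modulo 2 for packed vectors. -/
def blc (a b : ℕ) : ℤ := dotc a b / 8 % 2

theorem bl_of_blc {v w : leechLattice} {a b : ℕ} (hv : (v : GolayPt → ℤ) = vec a)
    (hw : (w : GolayPt → ℤ) = vec b) {t : ℤ} (h : blc a b = t) : bl v w = ((t : ℤ) : ZMod 2) := by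
  unfold bl
  rw [hv, hw, ← dotc_eq, ← h, blc, ZMod.intCast_eq_intCast_iff]
  exact (Int.mod_modEq _ _).symm

theorem gram_XX : ∀ j k : Fin 12, blc (xs.getD j 0) (xs.getD k 0) = 0 := by decide +kernel
theorem gram_ZZ : ∀ j k : Fin 12, blc (zs.getD j 0) (zs.getD k 0) = 0 := by decide +kernel
theorem gram_XZ : ∀ j k : Fin 12, blc (xs.getD j 0) (zs.getD k 0) = if j = k then 1 else 0 := by
  decide +kernel

theorem bl_XX (j k : Fin 12) : bl (vX j) (vX k) = 0 := by
  rw [bl_of_blc rfl rfl (gram_XX j k)]; rfl

theorem bl_ZZ (j k : Fin 12) : bl (vZ j) (vZ k) = 0 := by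
  rw [bl_of_blc rfl rfl (gram_ZZ j k)]; rfl

theorem bl_XZ (j k : Fin 12) : bl (vX j) (vZ k) = if j = k then 1 else 0 := by
  rw [bl_of_blc rfl rfl (gram_XZ j k)]
  split_ifs <;> rfl

theorem psi_vX (k : Fin 12) : psi (vX k) = (dl k, 0) := by
  apply Prod.ext
  · funext j
    rw [psi_fst, bl_XZ]
    by_cases h : k = j
    · subst h; simp
    · rw [if_neg h]
      show (0 : ZMod 2) = dl k j
      rw [dl_ne (Ne.symm h)]
  · funext j
    rw [psi_snd, bl_XX]; rfl

theorem psi_vZ (k : Fin 12) : psi (vZ k) = (0, dl k) := by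
  apply Prod.ext
  · funext j
    rw [psi_fst, bl_ZZ]; rfl
  · funext j
    rw [psi_snd, bl_comm, bl_XZ]
    by_cases h : j = k
    · subst h; simp
    · rw [if_neg h]
      show (0 : ZMod 2) = dl k j
      rw [dl_ne h]

/-- A lattice vector with given image. -/
def lift (p : B 12 × B 12) : leechLattice :=
  ∑ k, (p.1 k).val • vX k + ∑ k, (p.2 k).val • vZ k

theorem val_smul (x : ZMod 2) (y : B 12) : x.val • y = x • y := by
  rcases zmod2_cases x with rfl | rfl
  · simp
  · simp [ZMod.val_one]

theorem sum_dl (v : B 12) : ∑ k, v k • dl k = v := by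
  funext j
  rw [Finset.sum_apply, Finset.sum_eq_single j]
  · simp
  · intro k _ hk
    simp [dl_ne (Ne.symm hk)]
  · intro h; exact absurd (Finset.mem_univ _) h

theorem psi_lift (p : B 12 × B 12) : psi (lift p) = p := by
  unfold lift
  rw [map_add, map_sum, map_sum]
  simp only [map_nsmul, psi_vX, psi_vZ]
  apply Prod.ext
  · rw [Prod.fst_add, Prod.fst_sum, Prod.fst_sum]
    simp only [Prod.smul_fst, smul_zero, Finset.sum_const_zero, add_zero, val_smul]
    exact sum_dl _
  · rw [Prod.snd_add, Prod.snd_sum, Prod.snd_sum]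
    simp only [Prod.smul_snd, smul_zero, Finset.sum_const_zero, zero_add, val_smul]
    exact sum_dl _

theorem psi_surjective : Function.Surjective psi := fun p => ⟨lift p, psi_lift p⟩

theorem psi_two (v : leechLattice) : psi (2 • v) = 0 := by
  rw [two_smul, map_add]
  exact Prod.ext (add_self _) (add_self _)

instance : Module.Free ℤ leechLattice :=
  inferInstanceAs (Module.Free ℤ (Cfsg.Agent.Leech.ModTwoLeech.lat))

instance : Module.Finite ℤ leechLattice :=
  inferInstanceAs (Module.Finite ℤ (Cfsg.Agent.Leech.ModTwoLeech.lat))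

theorem finrank_le : Module.finrank ℤ leechLattice ≤ 24 := by
  have := Submodule.finrank_le Cfsg.Agent.Leech.ModTwoLeech.lat
  rw [Module.finrank_fintype_fun_eq_card] at this
  exact this.trans_eq (by simp)

theorem psi_eq_zero {v : leechLattice} (h : psi v = 0) : ∃ w, v = 2 • w := by
  set H := (nsmulAddMonoidHom (α := leechLattice) 2).range with hH
  have hcard : Nat.card (leechLattice ⧸ H) ≤ 2 ^ 24 := by
    rw [hH, Cfsg.Agent.Leech.ModTwo.card_quot]
    exact Nat.pow_le_pow_right (by norm_num) finrank_le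
  have hpos : Nat.card (leechLattice ⧸ H) ≠ 0 := by
    rw [hH, Cfsg.Agent.Leech.ModTwo.card_quot]; positivity
  have hfin : Finite (leechLattice ⧸ H) := Nat.finite_of_card_ne_zero hpos
  have hle : H ≤ psi.ker := by
    rintro x ⟨y, rfl⟩
    exact psi_two y
  let f : leechLattice ⧸ H →+ B 12 × B 12 := QuotientAddGroup.lift H psi hle
  have hf : Function.Surjective f := by
    intro p
    obtain ⟨v, hv⟩ := psi_surjective p
    exact ⟨QuotientAddGroup.mk v, hv⟩
  have hc2 : Nat.card (B 12 × B 12) = 2 ^ 24 := by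
    simp [Nat.card_eq_fintype_card, Fintype.card_prod, ZMod.card]
  have hinj : Function.Injective f := by
    have hbij : Function.Bijective f := by
      have hle' : Nat.card (B 12 × B 12) ≤ Nat.card (leechLattice ⧸ H) :=
        Nat.card_le_card_of_surjective f hf
      have heq : Nat.card (leechLattice ⧸ H) = Nat.card (B 12 × B 12) :=
        le_antisymm (hcard.trans hc2.ge) hle'
      exact (Nat.bijective_iff_surjective_and_card f).2 ⟨hf, heq⟩
    exact hbij.1
  have h0 : (QuotientAddGroup.mk v : leechLattice ⧸ H) = 0 := by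
    apply hinj
    rw [map_zero]
    exact h
  rw [QuotientAddGroup.eq_zero_iff] at h0
  obtain ⟨w, hw⟩ := h0
  exact ⟨w, hw.symm⟩

theorem psi_eq_iff {v w : leechLattice} : psi v = psi w ↔ ∃ u, v - w = 2 • u := by
  rw [← sub_eq_zero, ← map_sub]
  constructor
  · exact psi_eq_zero
  · rintro ⟨u, hu⟩
    rw [hu, psi_two]

/-- Minimal vectors with the same image are equal up to sign. -/
theorem eq_or_neg {v w : leechLattice} (hv : sqNorm (v : GolayPt → ℤ) = 32)
    (hw : sqNorm (w : GolayPt → ℤ) = 32) (h : psi v = psi w) : v = w ∨ v = -w := by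
  obtain ⟨u, hu⟩ := psi_eq_iff.1 h
  set b : LinearMap.BilinForm ℤ Cfsg.Agent.Leech.ModTwoLeech.lat :=
    Cfsg.Agent.Leech.ModTwoLeech.dotForm.restrict Cfsg.Agent.Leech.ModTwoLeech.lat with hb
  have hbs : ∀ x : Cfsg.Agent.Leech.ModTwoLeech.lat, b x x = sqNorm (x : GolayPt → ℤ) :=
    fun x => Cfsg.Agent.Leech.ModTwoLeech.dotForm_self _
  rcases Cfsg.Agent.Leech.ModTwo.congr_cases (L := Cfsg.Agent.Leech.ModTwoLeech.lat) 8 b
      (fun x y => Cfsg.Agent.Leech.ModTwoLeech.dotForm_symm _ _)
      (fun x hx => by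
        rw [hbs]
        exact Cfsg.Agent.Leech.Basic.le_sqNorm x.2 fun h => hx (Subtype.ext h))
      (x := v) (y := w) (z := u)
      (((hbs v).trans hv).trans_le (by norm_num)) (((hbs w).trans hw).trans_le (by norm_num)) hu
    with h1 | h1 | h1
  · exact Or.inl h1
  · exact Or.inr h1
  · have h2 := ((hbs v).trans hv).symm.trans h1.1
    norm_num at h2

/-- The symplectic form. -/
theorem bl_eq_form (v w : leechLattice) :
    bl v w = (psi v).2 ⬝ᵥ (psi w).1 + (psi w).2 ⬝ᵥ (psi v).1 := by
  have hlin : ∀ (v w : leechLattice), psi v = psi w → ∀ u, bl v u = bl w u := by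
    intro v w h u
    obtain ⟨x, hx⟩ := psi_eq_iff.1 h
    have : v = w + 2 • x := by rw [← hx]; abel
    rw [this, bl_add_left, bl_two_left, add_zero]
  have hsm : ∀ (n : ℕ) (x y : leechLattice), bl (n • x) y = (n : ZMod 2) * bl x y := by
    intro n x y
    induction n with
    | zero => simp [bl_zero_left]
    | succ n ih => rw [succ_nsmul, bl_add_left, ih]; push_cast; ring
  have hsum : ∀ (f : Fin 12 → leechLattice) (y : leechLattice),
      bl (∑ k, f k) y = ∑ k, bl (f k) y := by
    intro f y
    exact map_sum ({ toFun := fun x => bl x y, map_zero' := bl_zero_left y,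
                     map_add' := fun a b => bl_add_left a b y } : leechLattice →+ ZMod 2) f _
  have hval : ∀ x : ZMod 2, ((x.val : ℕ) : ZMod 2) = x := by decide
  rw [hlin v (lift (psi v)) (psi_lift _).symm]
  unfold lift
  rw [bl_add_left, hsum, hsum]
  simp only [hsm, hval, bl_comm (vX _) w, bl_comm (vZ _) w]
  rw [add_comm]
  congr 1
  unfold dotProduct
  apply Finset.sum_congr rfl
  intro k _
  rw [psi_snd w, mul_comm]

end Cfsg.Agent.MonsterX.Psi
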