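import Cfsg.Agent.MonsterX.ProgEqBase_m3
import Cfsg.Agent.Prune
set_option linter.all false

-- part: MonsterX/ProgEqX0_mg
section
set_option linter.all false

-- part: MonsterX/ProgEqX0
section
set_option autoImplicit false
set_option Elab.async false
set_option maxRecDepth 100000

namespace Cfsg.Agent.MonsterX.ProgEqX0

open Cfsg.Agent.MonsterX.ProgEqBase

theorem tau_x0_L : chkL [0, 40] [40, 24] = true := by decide +kernel
theorem tau_x0_A : chkT [0, 40] [40, 24] tsA = true := by decide +kernel
theorem tau_x0_B : chkT [0, 40] [40, 24] tsB = true := by decide +kernel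
theorem tau_x0_C : chkT [0, 40] [40, 24] tsC = true := by decide +kernel
theorem tau_x0_D : chkT [0, 40] [40, 24] tsD = true := by decide +kernel

/-- `τ x_c = y_c τ` for the basis code word number 0. -/
theorem tau_x0 : SEq [0, 40] [40, 24] := seq_of tau_x0_L tau_x0_A tau_x0_B tau_x0_C tau_x0_D

theorem tau_x1_L : chkL [1, 40] [40, 25] = true := by decide +kernel
theorem tau_x1_A : chkT [1, 40] [40, 25] tsA = true := by decide +kernel
theorem tau_x1_B : chkT [1, 40] [40, 25] tsB = true := by decide +kernel
theorem tau_x1_C : chkT [1, 40] [40, 25] tsC = true := by decide +kernel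
theorem tau_x1_D : chkT [1, 40] [40, 25] tsD = true := by decide +kernel

/-- `τ x_c = y_c τ` for the basis code word number 1. -/
theorem tau_x1 : SEq [1, 40] [40, 25] := seq_of tau_x1_L tau_x1_A tau_x1_B tau_x1_C tau_x1_D

theorem tau_x2_L : chkL [2, 40] [40, 26] = true := by decide +kernel
theorem tau_x2_A : chkT [2, 40] [40, 26] tsA = true := by decide +kernel
theorem tau_x2_B : chkT [2, 40] [40, 26] tsB = true := by decide +kernel
theorem tau_x2_C : chkT [2, 40] [40, 26] tsC = true := by decide +kernel
theorem tau_x2_D : chkT [2, 40] [40, 26] tsD = true := by decide +kernel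

/-- `τ x_c = y_c τ` for the basis code word number 2. -/
theorem tau_x2 : SEq [2, 40] [40, 26] := seq_of tau_x2_L tau_x2_A tau_x2_B tau_x2_C tau_x2_D

theorem tau_x3_L : chkL [3, 40] [40, 27] = true := by decide +kernel
theorem tau_x3_A : chkT [3, 40] [40, 27] tsA = true := by decide +kernel
theorem tau_x3_B : chkT [3, 40] [40, 27] tsB = true := by decide +kernel
theorem tau_x3_C : chkT [3, 40] [40, 27] tsC = true := by decide +kernel
theorem tau_x3_D : chkT [3, 40] [40, 27] tsD = true := by decide +kernel

/-- `τ x_c = y_c τ` for the basis code word number 3. -/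
theorem tau_x3 : SEq [3, 40] [40, 27] := seq_of tau_x3_L tau_x3_A tau_x3_B tau_x3_C tau_x3_D

theorem tau_x4_L : chkL [4, 40] [40, 28] = true := by decide +kernel
theorem tau_x4_A : chkT [4, 40] [40, 28] tsA = true := by decide +kernel
theorem tau_x4_B : chkT [4, 40] [40, 28] tsB = true := by decide +kernel
theorem tau_x4_C : chkT [4, 40] [40, 28] tsC = true := by decide +kernel
theorem tau_x4_D : chkT [4, 40] [40, 28] tsD = true := by decide +kernel

/-- `τ x_c = y_c τ` for the basis code word number 4. -/
theorem tau_x4 : SEq [4, 40] [40, 28] := seq_of tau_x4_L tau_x4_A tau_x4_B tau_x4_C tau_x4_D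

theorem tau_x5_L : chkL [5, 40] [40, 29] = true := by decide +kernel
theorem tau_x5_A : chkT [5, 40] [40, 29] tsA = true := by decide +kernel
theorem tau_x5_B : chkT [5, 40] [40, 29] tsB = true := by decide +kernel
theorem tau_x5_C : chkT [5, 40] [40, 29] tsC = true := by decide +kernel
theorem tau_x5_D : chkT [5, 40] [40, 29] tsD = true := by decide +kernel

/-- `τ x_c = y_c τ` for the basis code word number 5. -/
theorem tau_x5 : SEq [5, 40] [40, 29] := seq_of tau_x5_L tau_x5_A tau_x5_B tau_x5_C tau_x5_D

end Cfsg.Agent.MonsterX.ProgEqX0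
end

-- part: MonsterX/ProgEqX1
section
set_option autoImplicit false
set_option Elab.async false
set_option maxRecDepth 100000

namespace Cfsg.Agent.MonsterX.ProgEqX1

open Cfsg.Agent.MonsterX.ProgEqBase

theorem tau_x6_L : chkL [6, 40] [40, 30] = true := by decide +kernel
theorem tau_x6_A : chkT [6, 40] [40, 30] tsA = true := by decide +kernel
theorem tau_x6_B : chkT [6, 40] [40, 30] tsB = true := by decide +kernel
theorem tau_x6_C : chkT [6, 40] [40, 30] tsC = true := by decide +kernel
theorem tau_x6_D : chkT [6, 40] [40, 30] tsD = true := by decide +kernel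

/-- `τ x_c = y_c τ` for the basis code word number 6. -/
theorem tau_x6 : SEq [6, 40] [40, 30] := seq_of tau_x6_L tau_x6_A tau_x6_B tau_x6_C tau_x6_D

theorem tau_x7_L : chkL [7, 40] [40, 31] = true := by decide +kernel
theorem tau_x7_A : chkT [7, 40] [40, 31] tsA = true := by decide +kernel
theorem tau_x7_B : chkT [7, 40] [40, 31] tsB = true := by decide +kernel
theorem tau_x7_C : chkT [7, 40] [40, 31] tsC = true := by decide +kernel
theorem tau_x7_D : chkT [7, 40] [40, 31] tsD = true := by decide +kernel

/-- `τ x_c = y_c τ` for the basis code word number 7. -/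
theorem tau_x7 : SEq [7, 40] [40, 31] := seq_of tau_x7_L tau_x7_A tau_x7_B tau_x7_C tau_x7_D

theorem tau_x8_L : chkL [8, 40] [40, 32] = true := by decide +kernel
theorem tau_x8_A : chkT [8, 40] [40, 32] tsA = true := by decide +kernel
theorem tau_x8_B : chkT [8, 40] [40, 32] tsB = true := by decide +kernel
theorem tau_x8_C : chkT [8, 40] [40, 32] tsC = true := by decide +kernel
theorem tau_x8_D : chkT [8, 40] [40, 32] tsD = true := by decide +kernel

/-- `τ x_c = y_c τ` for the basis code word number 8. -/
theorem tau_x8 : SEq [8, 40] [40, 32] := seq_of tau_x8_L tau_x8_A tau_x8_B tau_x8_C tau_x8_D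

theorem tau_x9_L : chkL [9, 40] [40, 33] = true := by decide +kernel
theorem tau_x9_A : chkT [9, 40] [40, 33] tsA = true := by decide +kernel
theorem tau_x9_B : chkT [9, 40] [40, 33] tsB = true := by decide +kernel
theorem tau_x9_C : chkT [9, 40] [40, 33] tsC = true := by decide +kernel
theorem tau_x9_D : chkT [9, 40] [40, 33] tsD = true := by decide +kernel

/-- `τ x_c = y_c τ` for the basis code word number 9. -/
theorem tau_x9 : SEq [9, 40] [40, 33] := seq_of tau_x9_L tau_x9_A tau_x9_B tau_x9_C tau_x9_D

theorem tau_x10_L : chkL [10, 40] [40, 34] = true := by decide +kernel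
theorem tau_x10_A : chkT [10, 40] [40, 34] tsA = true := by decide +kernel
theorem tau_x10_B : chkT [10, 40] [40, 34] tsB = true := by decide +kernel
theorem tau_x10_C : chkT [10, 40] [40, 34] tsC = true := by decide +kernel
theorem tau_x10_D : chkT [10, 40] [40, 34] tsD = true := by decide +kernel

/-- `τ x_c = y_c τ` for the basis code word number 10. -/
theorem tau_x10 : SEq [10, 40] [40, 34] := seq_of tau_x10_L tau_x10_A tau_x10_B tau_x10_C tau_x10_D

theorem tau_x11_L : chkL [11, 40] [40, 35] = true := by decide +kernel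
theorem tau_x11_A : chkT [11, 40] [40, 35] tsA = true := by decide +kernel
theorem tau_x11_B : chkT [11, 40] [40, 35] tsB = true := by decide +kernel
theorem tau_x11_C : chkT [11, 40] [40, 35] tsC = true := by decide +kernel
theorem tau_x11_D : chkT [11, 40] [40, 35] tsD = true := by decide +kernel

/-- `τ x_c = y_c τ` for the basis code word number 11. -/
theorem tau_x11 : SEq [11, 40] [40, 35] := seq_of tau_x11_L tau_x11_A tau_x11_B tau_x11_C tau_x11_D

end Cfsg.Agent.MonsterX.ProgEqX1
end

-- part: MonsterX/ProgEqD0
section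
set_option autoImplicit false
set_option Elab.async false
set_option maxRecDepth 100000

namespace Cfsg.Agent.MonsterX.ProgEqD0

open Cfsg.Agent.MonsterX.ProgEqBase

theorem tau_d1_L : chkL [13, 40] [40, 13] = true := by decide +kernel
theorem tau_d1_A : chkT [13, 40] [40, 13] tsA = true := by decide +kernel
theorem tau_d1_B : chkT [13, 40] [40, 13] tsB = true := by decide +kernel
theorem tau_d1_C : chkT [13, 40] [40, 13] tsC = true := by decide +kernel
theorem tau_d1_D : chkT [13, 40] [40, 13] tsD = true := by decide +kernel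

/-- `τ` commutes with the even `x_δ` number 1. -/
theorem tau_d1 : SEq [13, 40] [40, 13] := seq_of tau_d1_L tau_d1_A tau_d1_B tau_d1_C tau_d1_D

theorem tau_d2_L : chkL [14, 40] [40, 14] = true := by decide +kernel
theorem tau_d2_A : chkT [14, 40] [40, 14] tsA = true := by decide +kernel
theorem tau_d2_B : chkT [14, 40] [40, 14] tsB = true := by decide +kernel
theorem tau_d2_C : chkT [14, 40] [40, 14] tsC = true := by decide +kernel
theorem tau_d2_D : chkT [14, 40] [40, 14] tsD = true := by decide +kernel

/-- `τ` commutes with the even `x_δ` number 2. -/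
theorem tau_d2 : SEq [14, 40] [40, 14] := seq_of tau_d2_L tau_d2_A tau_d2_B tau_d2_C tau_d2_D

theorem tau_d3_L : chkL [15, 40] [40, 15] = true := by decide +kernel
theorem tau_d3_A : chkT [15, 40] [40, 15] tsA = true := by decide +kernel
theorem tau_d3_B : chkT [15, 40] [40, 15] tsB = true := by decide +kernel
theorem tau_d3_C : chkT [15, 40] [40, 15] tsC = true := by decide +kernel
theorem tau_d3_D : chkT [15, 40] [40, 15] tsD = true := by decide +kernel

/-- `τ` commutes with the even `x_δ` number 3. -/
theorem tau_d3 : SEq [15, 40] [40, 15] := seq_of tau_d3_L tau_d3_A tau_d3_B tau_d3_C tau_d3_D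

theorem tau_d4_L : chkL [16, 40] [40, 16] = true := by decide +kernel
theorem tau_d4_A : chkT [16, 40] [40, 16] tsA = true := by decide +kernel
theorem tau_d4_B : chkT [16, 40] [40, 16] tsB = true := by decide +kernel
theorem tau_d4_C : chkT [16, 40] [40, 16] tsC = true := by decide +kernel
theorem tau_d4_D : chkT [16, 40] [40, 16] tsD = true := by decide +kernel

/-- `τ` commutes with the even `x_δ` number 4. -/
theorem tau_d4 : SEq [16, 40] [40, 16] := seq_of tau_d4_L tau_d4_A tau_d4_B tau_d4_C tau_d4_D

theorem tau_d5_L : chkL [17, 40] [40, 17] = true := by decide +kernel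
theorem tau_d5_A : chkT [17, 40] [40, 17] tsA = true := by decide +kernel
theorem tau_d5_B : chkT [17, 40] [40, 17] tsB = true := by decide +kernel
theorem tau_d5_C : chkT [17, 40] [40, 17] tsC = true := by decide +kernel
theorem tau_d5_D : chkT [17, 40] [40, 17] tsD = true := by decide +kernel

/-- `τ` commutes with the even `x_δ` number 5. -/
theorem tau_d5 : SEq [17, 40] [40, 17] := seq_of tau_d5_L tau_d5_A tau_d5_B tau_d5_C tau_d5_D

theorem tau_d6_L : chkL [18, 40] [40, 18] = true := by decide +kernel
theorem tau_d6_A : chkT [18, 40] [40, 18] tsA = true := by decide +kernel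
theorem tau_d6_B : chkT [18, 40] [40, 18] tsB = true := by decide +kernel
theorem tau_d6_C : chkT [18, 40] [40, 18] tsC = true := by decide +kernel
theorem tau_d6_D : chkT [18, 40] [40, 18] tsD = true := by decide +kernel

/-- `τ` commutes with the even `x_δ` number 6. -/
theorem tau_d6 : SEq [18, 40] [40, 18] := seq_of tau_d6_L tau_d6_A tau_d6_B tau_d6_C tau_d6_D

end Cfsg.Agent.MonsterX.ProgEqD0
end

-- part: MonsterX/ProgEqD1
section
set_option autoImplicit false
set_option Elab.async false
set_option maxRecDepth 100000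

namespace Cfsg.Agent.MonsterX.ProgEqD1

open Cfsg.Agent.MonsterX.ProgEqBase

theorem tau_d7_L : chkL [19, 40] [40, 19] = true := by decide +kernel
theorem tau_d7_A : chkT [19, 40] [40, 19] tsA = true := by decide +kernel
theorem tau_d7_B : chkT [19, 40] [40, 19] tsB = true := by decide +kernel
theorem tau_d7_C : chkT [19, 40] [40, 19] tsC = true := by decide +kernel
theorem tau_d7_D : chkT [19, 40] [40, 19] tsD = true := by decide +kernel

/-- `τ` commutes with the even `x_δ` number 7. -/
theorem tau_d7 : SEq [19, 40] [40, 19] := seq_of tau_d7_L tau_d7_A tau_d7_B tau_d7_C tau_d7_D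

theorem tau_d8_L : chkL [20, 40] [40, 20] = true := by decide +kernel
theorem tau_d8_A : chkT [20, 40] [40, 20] tsA = true := by decide +kernel
theorem tau_d8_B : chkT [20, 40] [40, 20] tsB = true := by decide +kernel
theorem tau_d8_C : chkT [20, 40] [40, 20] tsC = true := by decide +kernel
theorem tau_d8_D : chkT [20, 40] [40, 20] tsD = true := by decide +kernel

/-- `τ` commutes with the even `x_δ` number 8. -/
theorem tau_d8 : SEq [20, 40] [40, 20] := seq_of tau_d8_L tau_d8_A tau_d8_B tau_d8_C tau_d8_D

theorem tau_d9_L : chkL [21, 40] [40, 21] = true := by decide +kernel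
theorem tau_d9_A : chkT [21, 40] [40, 21] tsA = true := by decide +kernel
theorem tau_d9_B : chkT [21, 40] [40, 21] tsB = true := by decide +kernel
theorem tau_d9_C : chkT [21, 40] [40, 21] tsC = true := by decide +kernel
theorem tau_d9_D : chkT [21, 40] [40, 21] tsD = true := by decide +kernel

/-- `τ` commutes with the even `x_δ` number 9. -/
theorem tau_d9 : SEq [21, 40] [40, 21] := seq_of tau_d9_L tau_d9_A tau_d9_B tau_d9_C tau_d9_D

theorem tau_d10_L : chkL [22, 40] [40, 22] = true := by decide +kernel
theorem tau_d10_A : chkT [22, 40] [40, 22] tsA = true := by decide +kernel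
theorem tau_d10_B : chkT [22, 40] [40, 22] tsB = true := by decide +kernel
theorem tau_d10_C : chkT [22, 40] [40, 22] tsC = true := by decide +kernel
theorem tau_d10_D : chkT [22, 40] [40, 22] tsD = true := by decide +kernel

/-- `τ` commutes with the even `x_δ` number 10. -/
theorem tau_d10 : SEq [22, 40] [40, 22] := seq_of tau_d10_L tau_d10_A tau_d10_B tau_d10_C tau_d10_D

theorem tau_d11_L : chkL [23, 40] [40, 23] = true := by decide +kernel
theorem tau_d11_A : chkT [23, 40] [40, 23] tsA = true := by decide +kernel
theorem tau_d11_B : chkT [23, 40] [40, 23] tsB = true := by decide +kernel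
theorem tau_d11_C : chkT [23, 40] [40, 23] tsC = true := by decide +kernel
theorem tau_d11_D : chkT [23, 40] [40, 23] tsD = true := by decide +kernel

/-- `τ` commutes with the even `x_δ` number 11. -/
theorem tau_d11 : SEq [23, 40] [40, 23] := seq_of tau_d11_L tau_d11_A tau_d11_B tau_d11_C tau_d11_D

end Cfsg.Agent.MonsterX.ProgEqD1
end

-- part: MonsterX/ProgEqP
section
set_option autoImplicit false
set_option Elab.async false
set_option maxRecDepth 100000

namespace Cfsg.Agent.MonsterX.ProgEqP

open Cfsg.Agent.MonsterX.ProgEqBase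

theorem tau_pa_L : chkL [36, 40] [40, 36] = true := by decide +kernel
theorem tau_pa_A : chkT [36, 40] [40, 36] tsA = true := by decide +kernel
theorem tau_pa_B : chkT [36, 40] [40, 36] tsB = true := by decide +kernel
theorem tau_pa_C : chkT [36, 40] [40, 36] tsC = true := by decide +kernel
theorem tau_pa_D : chkT [36, 40] [40, 36] tsD = true := by decide +kernel

/-- `τ` commutes with `pa`. -/
theorem tau_pa : SEq [36, 40] [40, 36] := seq_of tau_pa_L tau_pa_A tau_pa_B tau_pa_C tau_pa_D

theorem tau_pd_L : chkL [37, 40] [40, 37] = true := by decide +kernel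
theorem tau_pd_A : chkT [37, 40] [40, 37] tsA = true := by decide +kernel
theorem tau_pd_B : chkT [37, 40] [40, 37] tsB = true := by decide +kernel
theorem tau_pd_C : chkT [37, 40] [40, 37] tsC = true := by decide +kernel
theorem tau_pd_D : chkT [37, 40] [40, 37] tsD = true := by decide +kernel

/-- `τ` commutes with `pd`. -/
theorem tau_pd : SEq [37, 40] [40, 37] := seq_of tau_pd_L tau_pd_A tau_pd_B tau_pd_C tau_pd_D

theorem tau_pg_L : chkL [38, 40] [40, 38] = true := by decide +kernel
theorem tau_pg_A : chkT [38, 40] [40, 38] tsA = true := by decide +kernel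
theorem tau_pg_B : chkT [38, 40] [40, 38] tsB = true := by decide +kernel
theorem tau_pg_C : chkT [38, 40] [40, 38] tsC = true := by decide +kernel
theorem tau_pg_D : chkT [38, 40] [40, 38] tsD = true := by decide +kernel

/-- `τ` commutes with `pg`. -/
theorem tau_pg : SEq [38, 40] [40, 38] := seq_of tau_pg_L tau_pg_A tau_pg_B tau_pg_C tau_pg_D

end Cfsg.Agent.MonsterX.ProgEqP
end

-- part: MonsterX/ProgEqXiBase
section
set_option autoImplicit false
set_option maxRecDepth 100000

namespace Cfsg.Agent.MonsterX.ProgEqXiBase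

open Cfsg.Agent.Lib.PermNet Cfsg.Agent.Monster.VecEngine Cfsg.Agent.Monster Cfsg.Agent.Monster.VecSpace
open Cfsg.Agent.MonsterX.ProgBase Cfsg.Agent.MonsterX.ProgTable Cfsg.Agent.MonsterX.VecRel
open Cfsg.Agent.MonsterX.Space Cfsg.Agent.MonsterX.SymRel Cfsg.Agent.MonsterX.ProgEqBase

/-- The lanes with their own label: everything below `2^17` except the first square. -/
noncomputable def own : ℕ := Nat.xor (Nat.sub (Nat.pow 2 131072) 1) (sq (Nat.sub (Nat.pow 2 1024) 1))

/-- The lanes from `2^17`. -/
noncomputable def mW : ℕ := Nat.sub (Nat.pow 2 262144) (Nat.pow 2 131072)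

noncomputable def lx2 : ℕ := 0xfffffffffffffffffffffffffffffffff0000000f0000000f0000000f0000000f0fffffff0fffffff0fffffff0fffffff0f00000f0f00000f0f00000f0f00000f0f0fffff0f0fffff0f0fffff0f0fffff0f0f000f0f0f000f0f0f000f0f0f000f0f0f0fff0f0f0fff0f0f0fff0f0f0fff0f0f0f0f0f0f0f0f0f0f0f0f0f0f0f0

noncomputable def lx3 : ℕ := 0xffffffffffffffffffffffffffffffffffffffffffffffffffffffffffffffffff000000ff000000ff000000ff000000ff000000ff000000ff000000ff000000ff00ffffff00ffffff00ffffff00ffffff00ffffff00ffffff00ffffff00ffffff00ff00ff00ff00ff00ff00ff00ff00ff00ff00ff00ff00ff00ff00ff00ff00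

noncomputable def lx4 : ℕ := 0xffffffffffffffffffffffffffffffffffffffffffffffffffffffffffffffffffffffffffffffffffffffffffffffffffffffffffffffffffffffffffffffffffff0000ffff0000ffff0000ffff0000ffff0000ffff0000ffff0000ffff0000ffff0000ffff0000ffff0000ffff0000ffff0000ffff0000ffff0000ffff0000

noncomputable def lx7 : ℕ := 0xf0f0f0f0f0f0f0f0f0f0f0f0f0f0f0f000f0f0f000f0f0f000f0f0f000f0f0f0fff0f0f0fff0f0f0fff0f0f0fff0f0f00000f0f00000f0f00000f0f00000f0f0fffff0f0fffff0f0fffff0f0fffff0f0000000f0000000f0000000f0000000f0fffffff0fffffff0fffffff0fffffff000000000000000000000000000000000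

noncomputable def lx8 : ℕ := 0xff00ff00ff00ff00ff00ff00ff00ff00ff00ff00ff00ff00ff00ff00ff00ff000000ff000000ff000000ff000000ff000000ff000000ff000000ff000000ff00ffffff00ffffff00ffffff00ffffff00ffffff00ffffff00ffffff00ffffff000000000000000000000000000000000000000000000000000000000000000000

noncomputable def lx9 : ℕ := 0xffff0000ffff0000ffff0000ffff0000ffff0000ffff0000ffff0000ffff0000ffff0000ffff0000ffff0000ffff0000ffff0000ffff0000ffff0000ffff000000000000000000000000000000000000000000000000000000000000000000000000000000000000000000000000000000000000000000000000000000000000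

noncomputable def lx12 : ℕ := Nat.sub (Nat.pow 2 1024) 1

/-- Label bit `b` for a bit inside of the blocks. -/
noncomputable def lo (b l : ℕ) : ℕ := Nat.lor (Nat.land (plane 18 b) own) (sq l)

/-- Label bit `b` for the other bits. -/
noncomputable def hi (b l : ℕ) : ℕ := Nat.lor (Nat.land (plane 18 b) (Nat.lor mW own)) (sq l)

/-- The labels. -/
noncomputable def lab : Pl :=
  .cons (lo 0 0) (.cons (lo 1 0) (.cons (hi 2 lx2) (.cons (hi 3 lx3) (.cons (hi 4 lx4) (.cons (lo 5 0)
  (.cons (lo 6 0) (.cons (lo 7 lx7) (.cons (lo 8 lx8) (.cons (hi 9 lx9) (.cons (hi 10 0) (.cons (hi 11 0)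
  (.cons (hi 12 lx12) (.cons (hi 13 lx12) (.cons (hi 14 lx12) (.cons (hi 15 lx12) (.cons (hi 16 0) (.cons (hi 17 0)
  (.sgn 0))))))))))))))))))

/-- First test mask of the spin part. -/
noncomputable def w0 : ℕ :=
  Nat.shiftLeft (Nat.mul 0x111111 (Nat.div (Nat.sub (Nat.pow 2 131072) 1) (Nat.sub (Nat.pow 2 512) 1))) 131072

/-- First test mask of the matrix. -/
noncomputable def m0 : ℕ := sq (Nat.mul 0x111111 (Nat.div (Nat.sub (Nat.pow 2 768) 1) (Nat.sub (Nat.pow 2 128) 1)))

/-- First lane of the `k`-th test in a block. -/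
def off (k : ℕ) : ℕ := Nat.add (Nat.mod k 4) (Nat.mul 32 (Nat.div k 4))

/-- Test masks `k, …, k + n - 1` from the mask `m` of the first. -/
noncomputable def tsX (m : ℕ) (k n : ℕ) : List Tst :=
  Nat.rec (motive := fun _ => ℕ → List Tst) (fun _ => [])
    (fun _ ih k => ⟨Nat.land (Nat.shiftLeft m (off k)) upM, h1⟩ :: ih (Nat.succ k)) n k

noncomputable def wm : ℕ := Nat.lor w0 m0

noncomputable def ts0 : List Tst := ⟨Nat.land (Nat.lor wm own) upM, h1⟩ :: tsX wm 1 7
noncomputable def ts1 : List Tst := tsX wm 8 8
noncomputable def ts2 : List Tst := tsX w0 16 8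
noncomputable def ts3 : List Tst := tsX w0 24 8
noncomputable def ts4 : List Tst := tsX w0 32 8
noncomputable def ts5 : List Tst := tsX w0 40 8
noncomputable def ts6 : List Tst := tsX w0 48 8
noncomputable def ts7 : List Tst := tsX w0 56 8

theorem tests_ok : tests 18 lab upM (ts0 ++ ts1 ++ ts2 ++ ts3 ++ ts4 ++ ts5 ++ ts6 ++ ts7) 0 = true := by
  decide +kernel

theorem labSym_ok : labSym lab = true := by decide +kernel

/-- The labels of two words agree. -/
noncomputable def chkL (w₁ w₂ : List ℕ) : Bool := sameLab U (ws w₁) (ws w₂) lab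

/-- OPERATOR IDENTITY from kernel checks. -/
theorem seq_of {w₁ w₂ : List ℕ} (hL : chkL w₁ w₂ = true) (g0 : chkT w₁ w₂ ts0 = true) (g1 : chkT w₁ w₂ ts1 = true)
    (g2 : chkT w₁ w₂ ts2 = true) (g3 : chkT w₁ w₂ ts3 = true) (g4 : chkT w₁ w₂ ts4 = true)
    (g5 : chkT w₁ w₂ ts5 = true) (g6 : chkT w₁ w₂ ts6 = true) (g7 : chkT w₁ w₂ ts7 = true) : SEq w₁ w₂ :=
  fun f hf => SymRel.semUL_eq (ws_good w₁) (ws_good w₂) tests_ok labSym_ok hL
    (testS_append (testS_append (testS_append (testS_append (testS_append (testS_append (testS_append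
      g0 g1) g2) g3) g4) g5) g6) g7) f hf

end Cfsg.Agent.MonsterX.ProgEqXiBase
end

-- part: MonsterX/ProgEqXi
section
set_option autoImplicit false
set_option Elab.async false
set_option maxRecDepth 100000

namespace Cfsg.Agent.MonsterX.ProgEqXi

open Cfsg.Agent.MonsterX.ProgEqBase Cfsg.Agent.MonsterX.ProgEqXiBase

theorem xi_xi_L : ProgEqXiBase.chkL [39, 39] [] = true := by decide +kernel
theorem xi_xi_0 : chkT [39, 39] [] ts0 = true := by decide +kernel
theorem xi_xi_1 : chkT [39, 39] [] ts1 = true := by decide +kernel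
theorem xi_xi_2 : chkT [39, 39] [] ts2 = true := by decide +kernel
theorem xi_xi_3 : chkT [39, 39] [] ts3 = true := by decide +kernel
theorem xi_xi_4 : chkT [39, 39] [] ts4 = true := by decide +kernel
theorem xi_xi_5 : chkT [39, 39] [] ts5 = true := by decide +kernel
theorem xi_xi_6 : chkT [39, 39] [] ts6 = true := by decide +kernel
theorem xi_xi_7 : chkT [39, 39] [] ts7 = true := by decide +kernel

/-- `ξ² = 1`. -/
theorem xi_xi : SEq [39, 39] [] :=
  ProgEqXiBase.seq_of xi_xi_L xi_xi_0 xi_xi_1 xi_xi_2 xi_xi_3 xi_xi_4 xi_xi_5 xi_xi_6 xi_xi_7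

end Cfsg.Agent.MonsterX.ProgEqXi
end

-- part: MonsterX/ProgEqY0
section
set_option autoImplicit false
set_option Elab.async false
set_option maxRecDepth 100000

namespace Cfsg.Agent.MonsterX.ProgEqY0

open Cfsg.Agent.MonsterX.ProgEqBase

theorem tau_y0_L : chkL [24, 40, 24, 0] [40] = true := by decide +kernel
theorem tau_y0_A : chkT [24, 40, 24, 0] [40] tsA = true := by decide +kernel
theorem tau_y0_B : chkT [24, 40, 24, 0] [40] tsB = true := by decide +kernel
theorem tau_y0_C : chkT [24, 40, 24, 0] [40] tsC = true := by decide +kernel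
theorem tau_y0_D : chkT [24, 40, 24, 0] [40] tsD = true := by decide +kernel

/-- `x_c y_c τ y_c = τ`, i.e. `τ y_c τ⁻¹ = (x_c y_c)⁻¹`, for the basis code word number 0. -/
theorem tau_y0 : SEq [24, 40, 24, 0] [40] := seq_of tau_y0_L tau_y0_A tau_y0_B tau_y0_C tau_y0_D

theorem tau_y1_L : chkL [25, 40, 25, 1] [40] = true := by decide +kernel
theorem tau_y1_A : chkT [25, 40, 25, 1] [40] tsA = true := by decide +kernel
theorem tau_y1_B : chkT [25, 40, 25, 1] [40] tsB = true := by decide +kernel
theorem tau_y1_C : chkT [25, 40, 25, 1] [40] tsC = true := by decide +kernel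
theorem tau_y1_D : chkT [25, 40, 25, 1] [40] tsD = true := by decide +kernel

/-- `x_c y_c τ y_c = τ`, i.e. `τ y_c τ⁻¹ = (x_c y_c)⁻¹`, for the basis code word number 1. -/
theorem tau_y1 : SEq [25, 40, 25, 1] [40] := seq_of tau_y1_L tau_y1_A tau_y1_B tau_y1_C tau_y1_D

theorem tau_y2_L : chkL [26, 40, 26, 2] [40] = true := by decide +kernel
theorem tau_y2_A : chkT [26, 40, 26, 2] [40] tsA = true := by decide +kernel
theorem tau_y2_B : chkT [26, 40, 26, 2] [40] tsB = true := by decide +kernel
theorem tau_y2_C : chkT [26, 40, 26, 2] [40] tsC = true := by decide +kernel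
theorem tau_y2_D : chkT [26, 40, 26, 2] [40] tsD = true := by decide +kernel

/-- `x_c y_c τ y_c = τ`, i.e. `τ y_c τ⁻¹ = (x_c y_c)⁻¹`, for the basis code word number 2. -/
theorem tau_y2 : SEq [26, 40, 26, 2] [40] := seq_of tau_y2_L tau_y2_A tau_y2_B tau_y2_C tau_y2_D

theorem tau_y3_L : chkL [27, 40, 27, 3] [40] = true := by decide +kernel
theorem tau_y3_A : chkT [27, 40, 27, 3] [40] tsA = true := by decide +kernel
theorem tau_y3_B : chkT [27, 40, 27, 3] [40] tsB = true := by decide +kernel
theorem tau_y3_C : chkT [27, 40, 27, 3] [40] tsC = true := by decide +kernel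
theorem tau_y3_D : chkT [27, 40, 27, 3] [40] tsD = true := by decide +kernel

/-- `x_c y_c τ y_c = τ`, i.e. `τ y_c τ⁻¹ = (x_c y_c)⁻¹`, for the basis code word number 3. -/
theorem tau_y3 : SEq [27, 40, 27, 3] [40] := seq_of tau_y3_L tau_y3_A tau_y3_B tau_y3_C tau_y3_D

end Cfsg.Agent.MonsterX.ProgEqY0
end
end

-- part: MonsterX/ConcMono
section
set_option linter.all false
open scoped Cfsg.Agent.FastGrp

/-!
# Monomial relations between the letters

`sq_letter`: the letters `0..35` are involutions; relations with `e = E 12` (odd `x_delta`) and `x_Ω = E 0`.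
All identities are kernel checks (`same`).
-/

set_option autoImplicit false
set_option maxRecDepth 100000

namespace Cfsg.Agent.MonsterX.ConcMono

open Cfsg.Agent.Monster.VecEngine Cfsg.Agent.Monster.VecSpace Cfsg.Agent.MonsterX.ProgBase Cfsg.Agent.MonsterX.Space
open Cfsg.Agent.MonsterX.ProgM.Base Cfsg.Agent.MonsterX.Conc Cfsg.Agent.MonsterX.GensT

/-- MONOMIAL IDENTITIES: kernel check that two words in the monomial letters are equal. -/
theorem W_eq_of_same {w₁ w₂ : List ℕ} (h : same (w₁.map ProgTable.prog) (w₂.map ProgTable.prog) = true) :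
    W w₁ = W w₂ :=
  same_sound (progs_goodT w₁) (progs_goodT w₂) h

theorem sq0 : W [0, 0] = W [] := W_eq_of_same (by decide +kernel)

theorem sq1 : W [1, 1] = W [] := W_eq_of_same (by decide +kernel)

theorem sq2 : W [2, 2] = W [] := W_eq_of_same (by decide +kernel)

theorem sq3 : W [3, 3] = W [] := W_eq_of_same (by decide +kernel)

theorem sq4 : W [4, 4] = W [] := W_eq_of_same (by decide +kernel)

theorem sq5 : W [5, 5] = W [] := W_eq_of_same (by decide +kernel)

theorem sq6 : W [6, 6] = W [] := W_eq_of_same (by decide +kernel)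

theorem sq7 : W [7, 7] = W [] := W_eq_of_same (by decide +kernel)

theorem sq8 : W [8, 8] = W [] := W_eq_of_same (by decide +kernel)

theorem sq9 : W [9, 9] = W [] := W_eq_of_same (by decide +kernel)

theorem sq10 : W [10, 10] = W [] := W_eq_of_same (by decide +kernel)

theorem sq11 : W [11, 11] = W [] := W_eq_of_same (by decide +kernel)

theorem sq12 : W [12, 12] = W [] := W_eq_of_same (by decide +kernel)

theorem sq13 : W [13, 13] = W [] := W_eq_of_same (by decide +kernel)

theorem sq14 : W [14, 14] = W [] := W_eq_of_same (by decide +kernel)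

theorem sq15 : W [15, 15] = W [] := W_eq_of_same (by decide +kernel)

theorem sq16 : W [16, 16] = W [] := W_eq_of_same (by decide +kernel)

theorem sq17 : W [17, 17] = W [] := W_eq_of_same (by decide +kernel)

theorem sq18 : W [18, 18] = W [] := W_eq_of_same (by decide +kernel)

theorem sq19 : W [19, 19] = W [] := W_eq_of_same (by decide +kernel)

theorem sq20 : W [20, 20] = W [] := W_eq_of_same (by decide +kernel)

theorem sq21 : W [21, 21] = W [] := W_eq_of_same (by decide +kernel)

theorem sq22 : W [22, 22] = W [] := W_eq_of_same (by decide +kernel)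

theorem sq23 : W [23, 23] = W [] := W_eq_of_same (by decide +kernel)

theorem sq24 : W [24, 24] = W [] := W_eq_of_same (by decide +kernel)

theorem sq25 : W [25, 25] = W [] := W_eq_of_same (by decide +kernel)

theorem sq26 : W [26, 26] = W [] := W_eq_of_same (by decide +kernel)

theorem sq27 : W [27, 27] = W [] := W_eq_of_same (by decide +kernel)

theorem sq28 : W [28, 28] = W [] := W_eq_of_same (by decide +kernel)

theorem sq29 : W [29, 29] = W [] := W_eq_of_same (by decide +kernel)

theorem sq30 : W [30, 30] = W [] := W_eq_of_same (by decide +kernel)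

theorem sq31 : W [31, 31] = W [] := W_eq_of_same (by decide +kernel)

theorem sq32 : W [32, 32] = W [] := W_eq_of_same (by decide +kernel)

theorem sq33 : W [33, 33] = W [] := W_eq_of_same (by decide +kernel)

theorem sq34 : W [34, 34] = W [] := W_eq_of_same (by decide +kernel)

theorem sq35 : W [35, 35] = W [] := W_eq_of_same (by decide +kernel)

/-- The letters `0..35` are involutions. -/
theorem sq_letter {n : ℕ} (h : n < 36) : E n * E n = 1 := by
  have key : W [n, n] = W [] := by
    interval_cases n
    · exact sq0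
    · exact sq1
    · exact sq2
    · exact sq3
    · exact sq4
    · exact sq5
    · exact sq6
    · exact sq7
    · exact sq8
    · exact sq9
    · exact sq10
    · exact sq11
    · exact sq12
    · exact sq13
    · exact sq14
    · exact sq15
    · exact sq16
    · exact sq17
    · exact sq18
    · exact sq19
    · exact sq20
    · exact sq21
    · exact sq22
    · exact sq23
    · exact sq24
    · exact sq25
    · exact sq26
    · exact sq27
    · exact sq28
    · exact sq29
    · exact sq30
    · exact sq31
    · exact sq32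
    · exact sq33
    · exact sq34
    · exact sq35
  rw [W_cons, W_single, W_nil] at key
  exact key

theorem omega1 : W [0, 1] = W [1, 0] := W_eq_of_same (by decide +kernel)

theorem omega2 : W [0, 2] = W [2, 0] := W_eq_of_same (by decide +kernel)

theorem omega3 : W [0, 3] = W [3, 0] := W_eq_of_same (by decide +kernel)

theorem omega4 : W [0, 4] = W [4, 0] := W_eq_of_same (by decide +kernel)

theorem omega5 : W [0, 5] = W [5, 0] := W_eq_of_same (by decide +kernel)

theorem omega6 : W [0, 6] = W [6, 0] := W_eq_of_same (by decide +kernel)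

theorem omega7 : W [0, 7] = W [7, 0] := W_eq_of_same (by decide +kernel)

theorem omega8 : W [0, 8] = W [8, 0] := W_eq_of_same (by decide +kernel)

theorem omega9 : W [0, 9] = W [9, 0] := W_eq_of_same (by decide +kernel)

theorem omega10 : W [0, 10] = W [10, 0] := W_eq_of_same (by decide +kernel)

theorem omega11 : W [0, 11] = W [11, 0] := W_eq_of_same (by decide +kernel)

theorem omega13 : W [0, 13] = W [13, 0] := W_eq_of_same (by decide +kernel)

theorem omega14 : W [0, 14] = W [14, 0] := W_eq_of_same (by decide +kernel)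

theorem omega15 : W [0, 15] = W [15, 0] := W_eq_of_same (by decide +kernel)

theorem omega16 : W [0, 16] = W [16, 0] := W_eq_of_same (by decide +kernel)

theorem omega17 : W [0, 17] = W [17, 0] := W_eq_of_same (by decide +kernel)

theorem omega18 : W [0, 18] = W [18, 0] := W_eq_of_same (by decide +kernel)

theorem omega19 : W [0, 19] = W [19, 0] := W_eq_of_same (by decide +kernel)

theorem omega20 : W [0, 20] = W [20, 0] := W_eq_of_same (by decide +kernel)

theorem omega21 : W [0, 21] = W [21, 0] := W_eq_of_same (by decide +kernel)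

theorem omega22 : W [0, 22] = W [22, 0] := W_eq_of_same (by decide +kernel)

theorem omega23 : W [0, 23] = W [23, 0] := W_eq_of_same (by decide +kernel)

theorem omega24 : W [0, 24] = W [24, 0] := W_eq_of_same (by decide +kernel)

theorem omega25 : W [0, 25] = W [25, 0] := W_eq_of_same (by decide +kernel)

theorem omega26 : W [0, 26] = W [26, 0] := W_eq_of_same (by decide +kernel)

theorem omega27 : W [0, 27] = W [27, 0] := W_eq_of_same (by decide +kernel)

theorem omega28 : W [0, 28] = W [28, 0] := W_eq_of_same (by decide +kernel)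

theorem omega29 : W [0, 29] = W [29, 0] := W_eq_of_same (by decide +kernel)

theorem omega30 : W [0, 30] = W [30, 0] := W_eq_of_same (by decide +kernel)

theorem omega31 : W [0, 31] = W [31, 0] := W_eq_of_same (by decide +kernel)

theorem omega32 : W [0, 32] = W [32, 0] := W_eq_of_same (by decide +kernel)

theorem omega33 : W [0, 33] = W [33, 0] := W_eq_of_same (by decide +kernel)

theorem omega34 : W [0, 34] = W [34, 0] := W_eq_of_same (by decide +kernel)

theorem omega35 : W [0, 35] = W [35, 0] := W_eq_of_same (by decide +kernel)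

theorem omega36 : W [0, 36] = W [36, 0] := W_eq_of_same (by decide +kernel)

theorem omega37 : W [0, 37] = W [37, 0] := W_eq_of_same (by decide +kernel)

theorem omega38 : W [0, 38] = W [38, 0] := W_eq_of_same (by decide +kernel)

theorem omega12 : W [0, 12] = W [12, 0, 45] := W_eq_of_same (by decide +kernel)

theorem e1 : W [12, 1, 12] = W [1] := W_eq_of_same (by decide +kernel)

theorem e2 : W [12, 2, 12] = W [2] := W_eq_of_same (by decide +kernel)

theorem e3 : W [12, 3, 12] = W [3] := W_eq_of_same (by decide +kernel)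

theorem e4 : W [12, 4, 12] = W [4] := W_eq_of_same (by decide +kernel)

theorem e5 : W [12, 5, 12] = W [5] := W_eq_of_same (by decide +kernel)

theorem e6 : W [12, 6, 12] = W [6] := W_eq_of_same (by decide +kernel)

theorem e7 : W [12, 7, 12] = W [7] := W_eq_of_same (by decide +kernel)

theorem e8 : W [12, 8, 12] = W [8] := W_eq_of_same (by decide +kernel)

theorem e9 : W [12, 9, 12] = W [9] := W_eq_of_same (by decide +kernel)

theorem e10 : W [12, 10, 12] = W [10] := W_eq_of_same (by decide +kernel)

theorem e11 : W [12, 11, 12] = W [11] := W_eq_of_same (by decide +kernel)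

theorem e13 : W [12, 13, 12] = W [13] := W_eq_of_same (by decide +kernel)

theorem e14 : W [12, 14, 12] = W [14] := W_eq_of_same (by decide +kernel)

theorem e15 : W [12, 15, 12] = W [15] := W_eq_of_same (by decide +kernel)

theorem e16 : W [12, 16, 12] = W [16] := W_eq_of_same (by decide +kernel)

theorem e17 : W [12, 17, 12] = W [17] := W_eq_of_same (by decide +kernel)

theorem e18 : W [12, 18, 12] = W [18] := W_eq_of_same (by decide +kernel)

theorem e19 : W [12, 19, 12] = W [19] := W_eq_of_same (by decide +kernel)

theorem e20 : W [12, 20, 12] = W [20] := W_eq_of_same (by decide +kernel)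

theorem e21 : W [12, 21, 12] = W [21] := W_eq_of_same (by decide +kernel)

theorem e22 : W [12, 22, 12] = W [22] := W_eq_of_same (by decide +kernel)

theorem e23 : W [12, 23, 12] = W [23] := W_eq_of_same (by decide +kernel)

theorem e36 : W [12, 36, 12] = W [36] := W_eq_of_same (by decide +kernel)

theorem e37 : W [12, 37, 12] = W [37] := W_eq_of_same (by decide +kernel)

theorem e0 : W [12, 0, 12] = W [0, 45] := W_eq_of_same (by decide +kernel)

theorem e24 : W [12, 24, 12] = W [24, 45] := W_eq_of_same (by decide +kernel)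

theorem e25 : W [12, 25, 12] = W [25, 1] := W_eq_of_same (by decide +kernel)

theorem e26 : W [12, 26, 12] = W [26, 2] := W_eq_of_same (by decide +kernel)

theorem e27 : W [12, 27, 12] = W [27, 3] := W_eq_of_same (by decide +kernel)

theorem e28 : W [12, 28, 12] = W [28, 4] := W_eq_of_same (by decide +kernel)

theorem e29 : W [12, 29, 12] = W [29, 5] := W_eq_of_same (by decide +kernel)

theorem e30 : W [12, 30, 12] = W [30, 6] := W_eq_of_same (by decide +kernel)

theorem e31 : W [12, 31, 12] = W [31, 7] := W_eq_of_same (by decide +kernel)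

theorem e32 : W [12, 32, 12] = W [32, 8] := W_eq_of_same (by decide +kernel)

theorem e33 : W [12, 33, 12] = W [33, 9] := W_eq_of_same (by decide +kernel)

theorem e34 : W [12, 34, 12] = W [34, 10] := W_eq_of_same (by decide +kernel)

theorem e35 : W [12, 35, 12] = W [35, 11] := W_eq_of_same (by decide +kernel)

theorem e38 : W [12, 38, 12] = W [13, 38] := W_eq_of_same (by decide +kernel)

theorem z_eq' : W [45] = W [1, 13, 1, 13] := W_eq_of_same (by decide +kernel)

theorem z_comm {n : ℕ} (h : n < 39) : W [45, n] = W [n, 45] := by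
  interval_cases n <;> exact W_eq_of_same (by decide +kernel)


end Cfsg.Agent.MonsterX.ConcMono
end
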