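import Cfsg.Agent.MonsterX.CertTab_m3
set_option linter.all false

-- part: MonsterX/CertTauI8_mg
section
set_option linter.all false

-- part: MonsterX/CertTauI8
section
/-!
The `τ`-identities of the rows `80`-`89` (kernel computation).
-/

set_option autoImplicit false
set_option Elab.async false
set_option maxRecDepth 100000

namespace Cfsg.Agent.MonsterX.CertTauI8

open Cfsg.Agent.MonsterX.CertVec Cfsg.Agent.MonsterX.CertTab

theorem tau_80 : tauOK 80 = true := by decide +kernel

theorem tau_81 : tauOK 81 = true := by decide +kernel

theorem tau_82 : tauOK 82 = true := by decide +kernel

theorem tau_83 : tauOK 83 = true := by decide +kernel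

theorem tau_84 : tauOK 84 = true := by decide +kernel

theorem tau_85 : tauOK 85 = true := by decide +kernel

theorem tau_86 : tauOK 86 = true := by decide +kernel

theorem tau_87 : tauOK 87 = true := by decide +kernel

theorem tau_88 : tauOK 88 = true := by decide +kernel

theorem tau_89 : tauOK 89 = true := by decide +kernel

end Cfsg.Agent.MonsterX.CertTauI8
end

-- part: MonsterX/CertInvI3
section
/-!
The three counts of the representatives `108`-`143` (kernel computation).
-/

set_option autoImplicit false
set_option Elab.async false
set_option maxRecDepth 100000

namespace Cfsg.Agent.MonsterX.CertInvI3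

open Cfsg.Agent.MonsterX.CertVec Cfsg.Agent.MonsterX.CertTab

theorem inv_108 : allN invOK 108 3 = true := by decide +kernel

theorem inv_111 : allN invOK 111 3 = true := by decide +kernel

theorem inv_114 : allN invOK 114 3 = true := by decide +kernel

theorem inv_117 : allN invOK 117 3 = true := by decide +kernel

theorem inv_120 : allN invOK 120 3 = true := by decide +kernel

theorem inv_123 : allN invOK 123 3 = true := by decide +kernel

theorem inv_126 : allN invOK 126 3 = true := by decide +kernel

theorem inv_129 : allN invOK 129 3 = true := by decide +kernel

theorem inv_132 : allN invOK 132 3 = true := by decide +kernel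

theorem inv_135 : allN invOK 135 3 = true := by decide +kernel

theorem inv_138 : allN invOK 138 3 = true := by decide +kernel

theorem inv_141 : allN invOK 141 3 = true := by decide +kernel

end Cfsg.Agent.MonsterX.CertInvI3
end
end

-- part: MonsterX/CertTauI11_mg
section
set_option linter.all false

-- part: MonsterX/CertTauI11
section
/-!
The `τ`-identities of the rows `110`-`119` (kernel computation).
-/

set_option autoImplicit false
set_option Elab.async false
set_option maxRecDepth 100000

namespace Cfsg.Agent.MonsterX.CertTauI11

open Cfsg.Agent.MonsterX.CertVec Cfsg.Agent.MonsterX.CertTab

theorem tau_110 : tauOK 110 = true := by decide +kernel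

theorem tau_111 : tauOK 111 = true := by decide +kernel

theorem tau_112 : tauOK 112 = true := by decide +kernel

theorem tau_113 : tauOK 113 = true := by decide +kernel

theorem tau_114 : tauOK 114 = true := by decide +kernel

theorem tau_115 : tauOK 115 = true := by decide +kernel

theorem tau_116 : tauOK 116 = true := by decide +kernel

theorem tau_117 : tauOK 117 = true := by decide +kernel

theorem tau_118 : tauOK 118 = true := by decide +kernel

theorem tau_119 : tauOK 119 = true := by decide +kernel

end Cfsg.Agent.MonsterX.CertTauI11
end

-- part: MonsterX/CertInvI4
section
/-!
The three counts of the representatives `144`-`179` (kernel computation).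
-/

set_option autoImplicit false
set_option Elab.async false
set_option maxRecDepth 100000

namespace Cfsg.Agent.MonsterX.CertInvI4

open Cfsg.Agent.MonsterX.CertVec Cfsg.Agent.MonsterX.CertTab

theorem inv_144 : allN invOK 144 3 = true := by decide +kernel

theorem inv_147 : allN invOK 147 3 = true := by decide +kernel

theorem inv_150 : allN invOK 150 3 = true := by decide +kernel

theorem inv_153 : allN invOK 153 3 = true := by decide +kernel

theorem inv_156 : allN invOK 156 3 = true := by decide +kernel

theorem inv_159 : allN invOK 159 3 = true := by decide +kernel

theorem inv_162 : allN invOK 162 3 = true := by decide +kernel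

theorem inv_165 : allN invOK 165 3 = true := by decide +kernel

theorem inv_168 : allN invOK 168 3 = true := by decide +kernel

theorem inv_171 : allN invOK 171 3 = true := by decide +kernel

theorem inv_174 : allN invOK 174 3 = true := by decide +kernel

theorem inv_177 : allN invOK 177 3 = true := by decide +kernel

end Cfsg.Agent.MonsterX.CertInvI4
end
end
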