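import Cfsg.Agent.MonsterX.CertTab_m3
import Cfsg.Agent.MonsterX.Frames.J8D_m3
import Cfsg.Agent.MonsterX.OrdC8_m3
import Cfsg.Agent.MonsterX.CertTauI9_mg_m3
import Cfsg.Agent.MonsterX.LaneCount_m3
import Cfsg.Agent.MonsterX.CertTauI4_mg_m3
import Cfsg.Agent.MonsterX.CertTauI8_mg_m3
import Cfsg.Agent.MonsterX.ProgEqBase_m3
import Cfsg.Agent.MonsterX.Frames.J0_mg_m3
import Cfsg.Agent.MonsterX.CertS1_mg_m3
import Cfsg.Agent.MonsterX.CertOrb
import Cfsg.Agent.S0400
import Cfsg.Agent.S1574
import Cfsg.Agent.MonsterX.KLift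
import Cfsg.Agent.SporadicA.Co0Mono
import Cfsg.Agent.SporadicA.Co1Simple
import Cfsg.Agent.SporadicA.M24Trans
import Cfsg.Agent.SporadicStructure.Co0Base
import Cfsg.Agent.Monster.PauliClif
import Cfsg.Agent.MonsterX.FrameStab
import Cfsg.Agent.MonsterX.KDone
import Cfsg.Agent.Prune
set_option linter.all false

section
prune_inst 0x7fbffffbfff8ffffffff7e7fffffdffdfbbbbfffe6dff9fbffebeffffbffff6f8be5fbafebe490fedef6e23c18fa7b53fb7eefffe26fdc7ffffdfff45ffbffcfffffb50871ff9cbe0fbc0fff93f17f886f3fffffffffffffffffffffffffffffffbfffffffff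

-- part: MonsterX/CertTauI6_mg
section
set_option linter.all false
open scoped Cfsg.Agent.FastGrp

-- part: MonsterX/CertTauI6
section
/-!
The `τ`-identities of the rows `60`-`69` (kernel computation).
-/

set_option autoImplicit false
set_option Elab.async false
set_option maxRecDepth 100000

namespace Cfsg.Agent.MonsterX.CertTauI6

open Cfsg.Agent.MonsterX.CertVec Cfsg.Agent.MonsterX.CertTab

theorem tau_60 : tauOK 60 = true := by decide +kernel

theorem tau_61 : tauOK 61 = true := by decide +kernel

theorem tau_62 : tauOK 62 = true := by decide +kernel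

theorem tau_63 : tauOK 63 = true := by decide +kernel

theorem tau_64 : tauOK 64 = true := by decide +kernel

theorem tau_65 : tauOK 65 = true := by decide +kernel

theorem tau_66 : tauOK 66 = true := by decide +kernel

theorem tau_67 : tauOK 67 = true := by decide +kernel

theorem tau_68 : tauOK 68 = true := by decide +kernel

theorem tau_69 : tauOK 69 = true := by decide +kernel

end Cfsg.Agent.MonsterX.CertTauI6
end

-- part: MonsterX/CertInvI6
section
/-!
The three counts of the representatives `216`-`250` (kernel computation).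
-/

set_option autoImplicit false
set_option Elab.async false
set_option maxRecDepth 100000

namespace Cfsg.Agent.MonsterX.CertInvI6

open Cfsg.Agent.MonsterX.CertVec Cfsg.Agent.MonsterX.CertTab

theorem inv_216 : allN invOK 216 3 = true := by decide +kernel

theorem inv_219 : allN invOK 219 3 = true := by decide +kernel

theorem inv_222 : allN invOK 222 3 = true := by decide +kernel

theorem inv_225 : allN invOK 225 3 = true := by decide +kernel

theorem inv_228 : allN invOK 228 3 = true := by decide +kernel

theorem inv_231 : allN invOK 231 3 = true := by decide +kernel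

theorem inv_234 : allN invOK 234 3 = true := by decide +kernel

theorem inv_237 : allN invOK 237 3 = true := by decide +kernel

theorem inv_240 : allN invOK 240 3 = true := by decide +kernel

theorem inv_243 : allN invOK 243 3 = true := by decide +kernel

theorem inv_246 : allN invOK 246 3 = true := by decide +kernel

theorem inv_249 : allN invOK 249 2 = true := by decide +kernel

end Cfsg.Agent.MonsterX.CertInvI6
end

-- part: MonsterX/CertOrbNZero
section
/-!
# Orbit tables from `N₀`-orbits

`c t` are representatives of the `⟨D, τ⟩`-orbits; `cls t ε`, `ε : Fin 3`, is the index of the `D`-orbit of `τ^ε c t`.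
Two identities per `t`: `τ c t` and `τ⁻¹ c t` lie in the `D`-orbits with indices `cls t 1`, `cls t 2`.
-/

set_option autoImplicit false

namespace Cfsg.Agent.MonsterX.CertOrbNZero

open Cfsg.Agent.MonsterX.CertOrb Cfsg.Agent.MonsterX.CertOrbModel Cfsg.Agent.MonsterX.Model

section

variable {G V : Type*} [Group G] [MulAction G V]

theorem orbit_eq_of_mem {D : Subgroup G} {x y : V} (h : x ∈ MulAction.orbit D y) :
    MulAction.orbit D x = MulAction.orbit D y := MulAction.orbit_eq_iff.2 h

theorem Refines.congr {ρ κ : Type*} {K D : Subgroup G} {b : κ → V} {v v' : ρ → V} {jof : ρ → κ}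
    (h : Refines K D b v jof) (hv : ∀ r, v' r ∈ MulAction.orbit D (v r)) : Refines K D b v' jof where
  le := h.le
  rep r := h.mem_K (hv r)
  cov j x hx := by
    obtain ⟨r, hr, h1⟩ := h.cov j x hx
    exact ⟨r, hr, by rw [orbit_eq_of_mem (hv r)]; exact h1⟩

/-- The data of the `N₀`-orbits. -/
structure NZero (D : Subgroup G) (τ : G) {ρ θ : Type*} (v : ρ → V) (c : θ → V) (cls : θ → Fin 3 → ρ) :
    Prop where
  cube : τ * τ * τ = 1
  c0 : ∀ t, c t ∈ MulAction.orbit D (v (cls t 0))
  c1 : ∀ t, τ • c t ∈ MulAction.orbit D (v (cls t 1))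
  c2 : ∀ t, τ⁻¹ • c t ∈ MulAction.orbit D (v (cls t 2))

variable {D : Subgroup G} {τ : G} {ρ θ : Type*} {v : ρ → V} {c : θ → V} {cls : θ → Fin 3 → ρ}

/-- The point `τ^ε c t`. -/
def pt (τ : G) (c : θ → V) (p : θ × Fin 3) : V :=
  match p.2 with
  | 0 => c p.1
  | 1 => τ • c p.1
  | 2 => τ⁻¹ • c p.1

theorem NZero.mem (h : NZero D τ v c cls) (p : θ × Fin 3) :
    pt τ c p ∈ MulAction.orbit D (v (cls p.1 p.2)) := by
  obtain ⟨t, e⟩ := p
  fin_cases e
  · exact h.c0 t
  · exact h.c1 t
  · exact h.c2 t

theorem NZero.tau_pt (h : NZero D τ v c cls) (p : θ × Fin 3) : τ • pt τ c p = pt τ c (p.1, p.2 + 1) := by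
  obtain ⟨t, e⟩ := p
  have h2 : τ * τ = τ⁻¹ := eq_inv_of_mul_eq_one_left h.cube
  fin_cases e
  · rfl
  · change τ • τ • c t = τ⁻¹ • c t
    rw [← mul_smul, h2]
  · change τ • τ⁻¹ • c t = c t
    rw [smul_inv_smul]

theorem NZero.tau_inv_pt (h : NZero D τ v c cls) (p : θ × Fin 3) :
    τ⁻¹ • pt τ c p = pt τ c (p.1, p.2 + 2) := by
  rw [inv_smul_eq_iff, h.tau_pt]
  congr 1
  obtain ⟨t, e⟩ := p
  fin_cases e <;> rfl

/-- New representatives of the `D`-orbits. -/
def rep (τ : G) (c : θ → V) (pick : ρ → θ × Fin 3) (r : ρ) : V := pt τ c (pick r)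

theorem NZero.rep_mem (h : NZero D τ v c cls) {pick : ρ → θ × Fin 3}
    (hp : ∀ r, cls (pick r).1 (pick r).2 = r) (r : ρ) : rep τ c pick r ∈ MulAction.orbit D (v r) := by
  have := h.mem (pick r)
  rw [hp] at this
  exact this

theorem NZero.htp (h : NZero D τ v c cls) {pick : ρ → θ × Fin 3}
    (hp : ∀ r, cls (pick r).1 (pick r).2 = r) (r : ρ) :
    τ • rep τ c pick r ∈ MulAction.orbit D (rep τ c pick (cls (pick r).1 ((pick r).2 + 1))) := by
  rw [orbit_eq_of_mem (h.rep_mem hp _), rep, h.tau_pt]
  exact h.mem ((pick r).1, (pick r).2 + 1)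

theorem NZero.htm (h : NZero D τ v c cls) {pick : ρ → θ × Fin 3}
    (hp : ∀ r, cls (pick r).1 (pick r).2 = r) (r : ρ) :
    τ⁻¹ • rep τ c pick r ∈ MulAction.orbit D (rep τ c pick (cls (pick r).1 ((pick r).2 + 2))) := by
  rw [orbit_eq_of_mem (h.rep_mem hp _), rep, h.tau_inv_pt]
  exact h.mem ((pick r).1, (pick r).2 + 2)

end

variable {W : Type} [AddCommGroup W] [Module ℚ W]

/-- The orbit table from the `N₀`-orbits. -/
theorem orbTable {M : MData W} {ρ θ : Type*} {D D₀ : Subgroup (W ≃ₗ[ℚ] W)} {e : W ≃ₗ[ℚ] W} {v : ρ → W}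
    {jof : ρ → M.J} {c : θ → W} {cls : θ → Fin 3 → ρ} {pick : ρ → θ × Fin 3}
    (ht : TauData D D₀ M.τ e) (href : Refines M.C D M.d v jof) (hne : ∀ j, ∃ r, jof r = j)
    (hdisj : ∀ r s, v r ∈ MulAction.orbit D (v s) → r = s) (h : NZero D M.τ v c cls)
    (hp : ∀ r, cls (pick r).1 (pick r).2 = r) :
    OrbTable M D D₀ e (rep M.τ c pick) jof (fun r => cls (pick r).1 ((pick r).2 + 1))
      (fun r => cls (pick r).1 ((pick r).2 + 2)) where
  tau := ht
  ref := Refines.congr href fun r => h.rep_mem hp r
  ne := hne
  disj r s hrs := by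
    refine hdisj r s ?_
    rw [orbit_eq_of_mem (h.rep_mem hp s)] at hrs
    exact mem_orbit_self_of (h.rep_mem hp r) hrs
  htp := h.htp hp
  htm := h.htm hp

/-- The lengths of the `D`-orbits do not depend on the representatives. -/
theorem card_rep {D : Subgroup (W ≃ₗ[ℚ] W)} {τ : W ≃ₗ[ℚ] W} {ρ θ : Type*} {v : ρ → W} {c : θ → W}
    {cls : θ → Fin 3 → ρ} {pick : ρ → θ × Fin 3} (h : NZero D τ v c cls)
    (hp : ∀ r, cls (pick r).1 (pick r).2 = r) (r : ρ) :
    Nat.card (MulAction.orbit D (rep τ c pick r)) = Nat.card (MulAction.orbit D (v r)) := by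
  rw [orbit_eq_of_mem (h.rep_mem hp r)]

end Cfsg.Agent.MonsterX.CertOrbNZero
end

private theorem dce_a1e343eab5dd : _root_.True := by
  try have : _root_.True := by simp only [_root_.Cfsg.Agent.MonsterX.CertOrbNZero.rep.eq_1]
  exact _root_.True.intro
end

-- part: MonsterX/CertGlue
section
set_option linter.all false
open scoped Cfsg.Agent.FastGrp

-- part: MonsterX/CertTauI0
section
/-!
The `τ`-identities of the rows `0`-`9` (kernel computation).
-/

set_option autoImplicit false
set_option Elab.async false
set_option maxRecDepth 100000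

namespace Cfsg.Agent.MonsterX.CertTauI0

open Cfsg.Agent.MonsterX.CertVec Cfsg.Agent.MonsterX.CertTab

theorem tau_0 : tauOK 0 = true := by decide +kernel

theorem tau_1 : tauOK 1 = true := by decide +kernel

theorem tau_2 : tauOK 2 = true := by decide +kernel

theorem tau_3 : tauOK 3 = true := by decide +kernel

theorem tau_4 : tauOK 4 = true := by decide +kernel

theorem tau_5 : tauOK 5 = true := by decide +kernel

theorem tau_6 : tauOK 6 = true := by decide +kernel

theorem tau_7 : tauOK 7 = true := by decide +kernel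

theorem tau_8 : tauOK 8 = true := by decide +kernel

theorem tau_9 : tauOK 9 = true := by decide +kernel

end Cfsg.Agent.MonsterX.CertTauI0
end

-- part: MonsterX/CertTauI12
section
/-!
The `τ`-identities of the rows `120`-`122` (kernel computation).
-/

set_option autoImplicit false
set_option Elab.async false
set_option maxRecDepth 100000

namespace Cfsg.Agent.MonsterX.CertTauI12

open Cfsg.Agent.MonsterX.CertVec Cfsg.Agent.MonsterX.CertTab

theorem tau_120 : tauOK 120 = true := by decide +kernel

theorem tau_121 : tauOK 121 = true := by decide +kernel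

theorem tau_122 : tauOK 122 = true := by decide +kernel

end Cfsg.Agent.MonsterX.CertTauI12
end

-- part: MonsterX/CertInvI0
section
/-!
The three counts of the representatives `0`-`35` (kernel computation).
-/

set_option autoImplicit false
set_option Elab.async false
set_option maxRecDepth 100000

namespace Cfsg.Agent.MonsterX.CertInvI0

open Cfsg.Agent.MonsterX.CertVec Cfsg.Agent.MonsterX.CertTab

theorem inv_0 : allN invOK 0 3 = true := by decide +kernel

theorem inv_3 : allN invOK 3 3 = true := by decide +kernel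

theorem inv_6 : allN invOK 6 3 = true := by decide +kernel

theorem inv_9 : allN invOK 9 3 = true := by decide +kernel

theorem inv_12 : allN invOK 12 3 = true := by decide +kernel

theorem inv_15 : allN invOK 15 3 = true := by decide +kernel

theorem inv_18 : allN invOK 18 3 = true := by decide +kernel

theorem inv_21 : allN invOK 21 3 = true := by decide +kernel

theorem inv_24 : allN invOK 24 3 = true := by decide +kernel

theorem inv_27 : allN invOK 27 3 = true := by decide +kernel

theorem inv_30 : allN invOK 30 3 = true := by decide +kernel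

theorem inv_33 : allN invOK 33 3 = true := by decide +kernel

end Cfsg.Agent.MonsterX.CertInvI0
end

-- part: MonsterX/CertAll
section
/-!
All certificates of the tables of `CertTab` in one place.

* `tau_all`, `inv_all`, `stab_all`: the kernel checks; `tau_id`, `inv_id`, `stab_id`: the identities;
* `isD_n1`, `isD_n2`: the words `n₁`, `n₂` consist of monomial letters; `isC_kw`, `isC_lw`, `isC_bw`...;
* `inv_inj`, `rep_inj`: the counts of the 251 representatives are different, so no element of the counting group maps one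
  representative to another one;
* `pk`, `cls`, `cls_pk`: every index occurs in the table.
-/

set_option autoImplicit false
set_option Elab.async false
set_option maxRecDepth 100000

namespace Cfsg.Agent.MonsterX.CertAll

open Cfsg.Agent.Monster.VecEngine Cfsg.Agent.Monster.VecSpace Cfsg.Agent.MonsterX.ProgBase Cfsg.Agent.MonsterX.ProgTable
  Cfsg.Agent.MonsterX.CertVec Cfsg.Agent.MonsterX.CertBase Cfsg.Agent.MonsterX.CertB Cfsg.Agent.MonsterX.CertTab

theorem step {P : ℕ → Prop} (a n : ℕ) (h : ∀ t, t < a → P t) (hn : ∀ k, k < n → P (a + k)) :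
    ∀ t, t < a + n → P t := by
  intro t ht
  by_cases h1 : t < a
  · exact h t h1
  · have := hn (t - a) (by omega)
    rwa [show a + (t - a) = t by omega] at this

theorem step1 {P : ℕ → Prop} (a : ℕ) (h : ∀ t, t < a → P t) (hn : P a) : ∀ t, t < a + 1 → P t :=
  step a 1 h fun k hk => by
    obtain rfl : k = 0 := by omega
    exact hn

theorem zero {P : ℕ → Prop} : ∀ t, t < 0 → P t := fun _ h => absurd h (Nat.not_lt_zero _)

theorem tauB0 : ∀ t, t < 10 → tauOK t = true :=
  step1 9 (step1 8 (step1 7 (step1 6 (step1 5 (step1 4 (step1 3 (step1 2 (step1 1 (step1 0 zero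
    CertTauI0.tau_0) CertTauI0.tau_1) CertTauI0.tau_2) CertTauI0.tau_3) CertTauI0.tau_4) CertTauI0.tau_5)
    CertTauI0.tau_6) CertTauI0.tau_7) CertTauI0.tau_8) CertTauI0.tau_9

theorem tauB1 : ∀ t, t < 20 → tauOK t = true :=
  step1 19 (step1 18 (step1 17 (step1 16 (step1 15 (step1 14 (step1 13 (step1 12 (step1 11 (step1 10 tauB0
    CertTauI1.tau_10) CertTauI1.tau_11) CertTauI1.tau_12) CertTauI1.tau_13) CertTauI1.tau_14)
    CertTauI1.tau_15) CertTauI1.tau_16) CertTauI1.tau_17) CertTauI1.tau_18) CertTauI1.tau_19

theorem tauB2 : ∀ t, t < 30 → tauOK t = true :=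
  step1 29 (step1 28 (step1 27 (step1 26 (step1 25 (step1 24 (step1 23 (step1 22 (step1 21 (step1 20 tauB1
    CertTauI2.tau_20) CertTauI2.tau_21) CertTauI2.tau_22) CertTauI2.tau_23) CertTauI2.tau_24)
    CertTauI2.tau_25) CertTauI2.tau_26) CertTauI2.tau_27) CertTauI2.tau_28) CertTauI2.tau_29

theorem tauB3 : ∀ t, t < 40 → tauOK t = true :=
  step1 39 (step1 38 (step1 37 (step1 36 (step1 35 (step1 34 (step1 33 (step1 32 (step1 31 (step1 30 tauB2
    CertTauI3.tau_30) CertTauI3.tau_31) CertTauI3.tau_32) CertTauI3.tau_33) CertTauI3.tau_34)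
    CertTauI3.tau_35) CertTauI3.tau_36) CertTauI3.tau_37) CertTauI3.tau_38) CertTauI3.tau_39

theorem tauB4 : ∀ t, t < 50 → tauOK t = true :=
  step1 49 (step1 48 (step1 47 (step1 46 (step1 45 (step1 44 (step1 43 (step1 42 (step1 41 (step1 40 tauB3
    CertTauI4.tau_40) CertTauI4.tau_41) CertTauI4.tau_42) CertTauI4.tau_43) CertTauI4.tau_44)
    CertTauI4.tau_45) CertTauI4.tau_46) CertTauI4.tau_47) CertTauI4.tau_48) CertTauI4.tau_49

theorem tauB5 : ∀ t, t < 60 → tauOK t = true :=
  step1 59 (step1 58 (step1 57 (step1 56 (step1 55 (step1 54 (step1 53 (step1 52 (step1 51 (step1 50 tauB4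
    CertTauI5.tau_50) CertTauI5.tau_51) CertTauI5.tau_52) CertTauI5.tau_53) CertTauI5.tau_54)
    CertTauI5.tau_55) CertTauI5.tau_56) CertTauI5.tau_57) CertTauI5.tau_58) CertTauI5.tau_59

theorem tauB6 : ∀ t, t < 70 → tauOK t = true :=
  step1 69 (step1 68 (step1 67 (step1 66 (step1 65 (step1 64 (step1 63 (step1 62 (step1 61 (step1 60 tauB5
    CertTauI6.tau_60) CertTauI6.tau_61) CertTauI6.tau_62) CertTauI6.tau_63) CertTauI6.tau_64)
    CertTauI6.tau_65) CertTauI6.tau_66) CertTauI6.tau_67) CertTauI6.tau_68) CertTauI6.tau_69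

theorem tauB7 : ∀ t, t < 80 → tauOK t = true :=
  step1 79 (step1 78 (step1 77 (step1 76 (step1 75 (step1 74 (step1 73 (step1 72 (step1 71 (step1 70 tauB6
    CertTauI7.tau_70) CertTauI7.tau_71) CertTauI7.tau_72) CertTauI7.tau_73) CertTauI7.tau_74)
    CertTauI7.tau_75) CertTauI7.tau_76) CertTauI7.tau_77) CertTauI7.tau_78) CertTauI7.tau_79

theorem tauB8 : ∀ t, t < 90 → tauOK t = true :=
  step1 89 (step1 88 (step1 87 (step1 86 (step1 85 (step1 84 (step1 83 (step1 82 (step1 81 (step1 80 tauB7
    CertTauI8.tau_80) CertTauI8.tau_81) CertTauI8.tau_82) CertTauI8.tau_83) CertTauI8.tau_84)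
    CertTauI8.tau_85) CertTauI8.tau_86) CertTauI8.tau_87) CertTauI8.tau_88) CertTauI8.tau_89

theorem tauB9 : ∀ t, t < 100 → tauOK t = true :=
  step1 99 (step1 98 (step1 97 (step1 96 (step1 95 (step1 94 (step1 93 (step1 92 (step1 91 (step1 90 tauB8
    CertTauI9.tau_90) CertTauI9.tau_91) CertTauI9.tau_92) CertTauI9.tau_93) CertTauI9.tau_94)
    CertTauI9.tau_95) CertTauI9.tau_96) CertTauI9.tau_97) CertTauI9.tau_98) CertTauI9.tau_99

theorem tauB10 : ∀ t, t < 110 → tauOK t = true :=
  step1 109 (step1 108 (step1 107 (step1 106 (step1 105 (step1 104 (step1 103 (step1 102 (step1 101 (step1 100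
    tauB9 CertTauI10.tau_100) CertTauI10.tau_101) CertTauI10.tau_102) CertTauI10.tau_103) CertTauI10.tau_104)
    CertTauI10.tau_105) CertTauI10.tau_106) CertTauI10.tau_107) CertTauI10.tau_108) CertTauI10.tau_109

theorem tauB11 : ∀ t, t < 120 → tauOK t = true :=
  step1 119 (step1 118 (step1 117 (step1 116 (step1 115 (step1 114 (step1 113 (step1 112 (step1 111 (step1 110
    tauB10 CertTauI11.tau_110) CertTauI11.tau_111) CertTauI11.tau_112) CertTauI11.tau_113) CertTauI11.tau_114)
    CertTauI11.tau_115) CertTauI11.tau_116) CertTauI11.tau_117) CertTauI11.tau_118) CertTauI11.tau_119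

theorem tauB12 : ∀ t, t < 123 → tauOK t = true :=
  step1 122 (step1 121 (step1 120 tauB11 CertTauI12.tau_120) CertTauI12.tau_121) CertTauI12.tau_122

theorem tau_all : ∀ t, t < 123 → tauOK t = true := tauB12

theorem invB0 : ∀ r, r < 36 → invOK r = true :=
  step 33 3 (step 30 3 (step 27 3 (step 24 3 (step 21 3 (step 18 3 (step 15 3 (step 12 3 (step 9 3 (step 6 3
    (step 3 3 (step 0 3 zero (allN_spec CertInvI0.inv_0)) (allN_spec CertInvI0.inv_3)) (allN_spec
    CertInvI0.inv_6)) (allN_spec CertInvI0.inv_9)) (allN_spec CertInvI0.inv_12)) (allN_spec CertInvI0.inv_15))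
    (allN_spec CertInvI0.inv_18)) (allN_spec CertInvI0.inv_21)) (allN_spec CertInvI0.inv_24)) (allN_spec
    CertInvI0.inv_27)) (allN_spec CertInvI0.inv_30)) (allN_spec CertInvI0.inv_33)

theorem invB1 : ∀ r, r < 72 → invOK r = true :=
  step 69 3 (step 66 3 (step 63 3 (step 60 3 (step 57 3 (step 54 3 (step 51 3 (step 48 3 (step 45 3 (step 42 3
    (step 39 3 (step 36 3 invB0 (allN_spec CertInvI1.inv_36)) (allN_spec CertInvI1.inv_39)) (allN_spec
    CertInvI1.inv_42)) (allN_spec CertInvI1.inv_45)) (allN_spec CertInvI1.inv_48)) (allN_spec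
    CertInvI1.inv_51)) (allN_spec CertInvI1.inv_54)) (allN_spec CertInvI1.inv_57)) (allN_spec
    CertInvI1.inv_60)) (allN_spec CertInvI1.inv_63)) (allN_spec CertInvI1.inv_66)) (allN_spec
    CertInvI1.inv_69)

theorem invB2 : ∀ r, r < 108 → invOK r = true :=
  step 105 3 (step 102 3 (step 99 3 (step 96 3 (step 93 3 (step 90 3 (step 87 3 (step 84 3 (step 81 3 (step 78
    3 (step 75 3 (step 72 3 invB1 (allN_spec CertInvI2.inv_72)) (allN_spec CertInvI2.inv_75)) (allN_spec
    CertInvI2.inv_78)) (allN_spec CertInvI2.inv_81)) (allN_spec CertInvI2.inv_84)) (allN_spec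
    CertInvI2.inv_87)) (allN_spec CertInvI2.inv_90)) (allN_spec CertInvI2.inv_93)) (allN_spec
    CertInvI2.inv_96)) (allN_spec CertInvI2.inv_99)) (allN_spec CertInvI2.inv_102)) (allN_spec
    CertInvI2.inv_105)

theorem invB3 : ∀ r, r < 144 → invOK r = true :=
  step 141 3 (step 138 3 (step 135 3 (step 132 3 (step 129 3 (step 126 3 (step 123 3 (step 120 3 (step 117 3
    (step 114 3 (step 111 3 (step 108 3 invB2 (allN_spec CertInvI3.inv_108)) (allN_spec CertInvI3.inv_111))
    (allN_spec CertInvI3.inv_114)) (allN_spec CertInvI3.inv_117)) (allN_spec CertInvI3.inv_120)) (allN_spec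
    CertInvI3.inv_123)) (allN_spec CertInvI3.inv_126)) (allN_spec CertInvI3.inv_129)) (allN_spec
    CertInvI3.inv_132)) (allN_spec CertInvI3.inv_135)) (allN_spec CertInvI3.inv_138)) (allN_spec
    CertInvI3.inv_141)

theorem invB4 : ∀ r, r < 180 → invOK r = true :=
  step 177 3 (step 174 3 (step 171 3 (step 168 3 (step 165 3 (step 162 3 (step 159 3 (step 156 3 (step 153 3
    (step 150 3 (step 147 3 (step 144 3 invB3 (allN_spec CertInvI4.inv_144)) (allN_spec CertInvI4.inv_147))
    (allN_spec CertInvI4.inv_150)) (allN_spec CertInvI4.inv_153)) (allN_spec CertInvI4.inv_156)) (allN_spec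
    CertInvI4.inv_159)) (allN_spec CertInvI4.inv_162)) (allN_spec CertInvI4.inv_165)) (allN_spec
    CertInvI4.inv_168)) (allN_spec CertInvI4.inv_171)) (allN_spec CertInvI4.inv_174)) (allN_spec
    CertInvI4.inv_177)

theorem invB5 : ∀ r, r < 216 → invOK r = true :=
  step 213 3 (step 210 3 (step 207 3 (step 204 3 (step 201 3 (step 198 3 (step 195 3 (step 192 3 (step 189 3
    (step 186 3 (step 183 3 (step 180 3 invB4 (allN_spec CertInvI5.inv_180)) (allN_spec CertInvI5.inv_183))
    (allN_spec CertInvI5.inv_186)) (allN_spec CertInvI5.inv_189)) (allN_spec CertInvI5.inv_192)) (allN_spec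
    CertInvI5.inv_195)) (allN_spec CertInvI5.inv_198)) (allN_spec CertInvI5.inv_201)) (allN_spec
    CertInvI5.inv_204)) (allN_spec CertInvI5.inv_207)) (allN_spec CertInvI5.inv_210)) (allN_spec
    CertInvI5.inv_213)

theorem invB6 : ∀ r, r < 251 → invOK r = true :=
  step 249 2 (step 246 3 (step 243 3 (step 240 3 (step 237 3 (step 234 3 (step 231 3 (step 228 3 (step 225 3
    (step 222 3 (step 219 3 (step 216 3 invB5 (allN_spec CertInvI6.inv_216)) (allN_spec CertInvI6.inv_219))
    (allN_spec CertInvI6.inv_222)) (allN_spec CertInvI6.inv_225)) (allN_spec CertInvI6.inv_228)) (allN_spec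
    CertInvI6.inv_231)) (allN_spec CertInvI6.inv_234)) (allN_spec CertInvI6.inv_237)) (allN_spec
    CertInvI6.inv_240)) (allN_spec CertInvI6.inv_243)) (allN_spec CertInvI6.inv_246)) (allN_spec
    CertInvI6.inv_249)

theorem inv_all : ∀ r, r < 251 → invOK r = true := invB6

/-- The `τ`-identities. -/
theorem tau_id {t : ℕ} (h : t < 123) : wv (vw (t0 t) ++ [40]) = wv (vw (t1 t) ++ n1 t) ∧
    wv (vw (t0 t) ++ [41]) = wv (vw (t2 t) ++ n2 t) := by
  have h1 : and (ident (vw (t0 t) ++ [40]) (vw (t1 t) ++ n1 t)) (ident (vw (t0 t) ++ [41]) (vw (t2 t) ++ n2 t)) = true :=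
    tau_all t h
  rw [Bool.and_eq_true] at h1
  exact ⟨ident_sound h1.1, ident_sound h1.2⟩

/-- The counts of the representatives. -/
theorem inv_id {r : ℕ} (h : r < 251) : inv3 (wv (vw r)) = nth (0, 0, 0) inv r :=
  invIs_sound (inv_all r h)

/-! ### The counts are different -/

/-- The triple `p` does not occur in the list. -/
noncomputable def notIn (p : ℕ × ℕ × ℕ) (T : List (ℕ × ℕ × ℕ)) : Bool :=
  List.rec (motive := fun _ => Bool) true
    (fun q _ ih => and (or (not (Nat.beq p.1 q.1)) (or (not (Nat.beq p.2.1 q.2.1)) (not (Nat.beq p.2.2 q.2.2)))) ih) T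

/-- The triples are different. -/
noncomputable def diff (T : List (ℕ × ℕ × ℕ)) : Bool :=
  List.rec (motive := fun _ => Bool) true (fun p T ih => and (notIn p T) ih) T

theorem notIn_sound {p : ℕ × ℕ × ℕ} {T : List (ℕ × ℕ × ℕ)} (h : notIn p T = true) : p ∉ T := by
  induction T with
  | nil => simp
  | cons q T ih =>
    have h1 : and (or (not (Nat.beq p.1 q.1)) (or (not (Nat.beq p.2.1 q.2.1)) (not (Nat.beq p.2.2 q.2.2))))
      (notIn p T) = true := h
    rw [Bool.and_eq_true] at h1
    rw [List.mem_cons, not_or]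
    refine ⟨?_, ih h1.2⟩
    rintro rfl
    have h2 := h1.1
    simp only [Bool.or_eq_true, Bool.not_eq_true', Nat.beq_refl] at h2
    simp at h2

theorem diff_sound {T : List (ℕ × ℕ × ℕ)} (h : diff T = true) : T.Nodup := by
  induction T with
  | nil => exact List.nodup_nil
  | cons p T ih =>
    have h1 : and (notIn p T) (diff T) = true := h
    rw [Bool.and_eq_true] at h1
    exact List.nodup_cons.2 ⟨notIn_sound h1.1, ih h1.2⟩

theorem inv_nodup : inv.Nodup := diff_sound (by decide +kernel)

theorem inv_length : inv.length = 251 := by decide +kernel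

theorem inv_inj {r s : ℕ} (hr : r < 251) (hs : s < 251) (h : nth (0, 0, 0) inv r = nth (0, 0, 0) inv s) :
    r = s := by
  rw [nth_eq, nth_eq, List.getD_eq_getElem _ _ (by rw [inv_length]; exact hr),
    List.getD_eq_getElem _ _ (by rw [inv_length]; exact hs)] at h
  exact (List.Nodup.getElem_inj_iff inv_nodup).1 h

/-! ### The letters -/

/-- All letters satisfy `p`. -/
noncomputable def allL (p : ℕ → Bool) (w : List ℕ) : Bool :=
  List.rec (motive := fun _ => Bool) true (fun a _ ih => and (p a) ih) w

theorem allL_sound {p : ℕ → Bool} {w : List ℕ} (h : allL p w = true) : ∀ i ∈ w, p i = true := by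
  induction w with
  | nil => simp
  | cons a w ih =>
    have h1 : and (p a) (allL p w) = true := h
    rw [Bool.and_eq_true] at h1
    intro i hi
    rcases List.mem_cons.1 hi with rfl | hi
    · exact h1.1
    · exact ih h1.2 i hi

/-- The letters of `C` (monomial letters and `ξ`). -/
def isC (i : ℕ) : Bool := or (Nat.blt i 40) (and (Nat.ble 42 i) (Nat.ble i 44))

theorem isD_n {t : ℕ} (h : t < 123) : (∀ i ∈ n1 t, isD i = true) ∧ ∀ i ∈ n2 t, isD i = true := by
  have h1 := allN_spec (f := fun t => and (allL isD (n1 t)) (allL isD (n2 t))) (a := 0) (n := 123)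
    (by decide +kernel) t h
  rw [Nat.zero_add, Bool.and_eq_true] at h1
  exact ⟨allL_sound h1.1, allL_sound h1.2⟩

theorem isC_kw {r : ℕ} (h : r < 251) : ∀ i ∈ nth [] kw r, isC i = true := by
  have h1 := allN_spec (f := fun r => allL isC (nth [] kw r)) (a := 0) (n := 251) (by decide +kernel) r h
  rw [Nat.zero_add] at h1
  exact allL_sound h1

theorem kj_lt {r : ℕ} (h : r < 251) : nth 0 kj r < 12 := by
  have h1 := allN_spec (f := fun r => Nat.blt (nth 0 kj r) 12) (a := 0) (n := 251) (by decide +kernel) r h
  rw [Nat.zero_add, Nat.blt_eq] at h1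
  exact h1

/-! ### Every index occurs -/

/-- The indices of the row `t`. -/
noncomputable def cls (t e : ℕ) : ℕ := nth 0 [t0 t, t1 t, t2 t] e

theorem cls_lt {t e : ℕ} (ht : t < 123) (he : e < 3) : cls t e < 251 := by
  have h1 := allN_spec (f := fun t => allN (fun e => Nat.blt (cls t e) 251) 0 3) (a := 0) (n := 123)
    (by decide +kernel) t ht
  have h2 := allN_spec h1 e he
  rw [Nat.zero_add, Nat.zero_add, Nat.blt_eq] at h2
  exact h2

/-- The place of the index `r` in the table. -/
noncomputable def pk : List (ℕ × ℕ) :=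
  [(0, 0), (1, 0), (2, 2), (1, 1), (3, 0), (4, 1), (5, 2), (6, 2), (2, 0), (4, 0), (7, 0), (8, 2), (9, 2),
   (10, 1), (11, 2), (12, 2), (13, 2), (5, 0), (14, 1), (15, 1), (8, 0), (16, 0), (17, 0), (9, 0), (18, 1),
   (19, 2), (20, 2), (21, 2), (22, 2), (23, 1), (24, 0), (25, 1), (26, 1), (6, 0), (27, 0), (28, 0), (15, 0),
   (10, 0), (14, 0), (29, 2), (30, 2), (31, 2), (32, 2), (33, 0), (34, 1), (35, 1), (36, 1), (11, 0), (24, 1),
   (23, 0), (37, 1), (38, 2), (39, 1), (40, 0), (41, 2), (42, 1), (43, 1), (12, 0), (18, 0), (20, 0), (44, 1),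
   (24, 2), (37, 0), (31, 0), (44, 0), (45, 0), (46, 0), (47, 0), (48, 0), (49, 1), (50, 2), (51, 1), (52, 1),
   (53, 1), (54, 0), (55, 1), (56, 2), (57, 2), (58, 1), (59, 0), (29, 0), (36, 0), (60, 1), (61, 1), (62, 1),
   (63, 1), (64, 1), (65, 2), (13, 0), (25, 0), (66, 0), (44, 2), (37, 2), (33, 1), (67, 0), (68, 0), (58, 0),
   (69, 1), (70, 0), (71, 0), (72, 0), (73, 1), (73, 0), (48, 1), (74, 1), (75, 2), (76, 1), (77, 0), (56, 0),
   (78, 2), (62, 0), (79, 1), (43, 0), (80, 0), (81, 0), (82, 0), (83, 1), (84, 1), (85, 2), (86, 0), (87, 0),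
   (87, 1), (88, 0), (89, 1), (90, 0), (21, 0), (34, 0), (55, 0), (72, 2), (69, 0), (78, 0), (49, 0), (46, 1),
   (68, 1), (91, 2), (92, 0), (45, 2), (67, 2), (38, 0), (41, 0), (93, 2), (94, 1), (81, 2), (95, 1), (96, 2),
   (97, 0), (98, 1), (86, 2), (19, 0), (35, 0), (47, 1), (75, 1), (72, 1), (99, 1), (92, 1), (79, 2), (30, 0),
   (100, 1), (51, 0), (93, 0), (101, 0), (76, 0), (102, 0), (52, 0), (103, 0), (102, 1), (104, 1), (103, 1),
   (105, 2), (87, 2), (63, 0), (85, 1), (90, 2), (84, 0), (106, 2), (107, 1), (108, 1), (60, 0), (109, 0),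
   (110, 1), (96, 0), (65, 0), (111, 1), (112, 1), (113, 0), (114, 0), (22, 0), (115, 0), (99, 0), (116, 1),
   (100, 0), (71, 1), (50, 0), (48, 2), (92, 2), (117, 2), (91, 0), (42, 0), (32, 0), (47, 2), (73, 2), (46,
   2), (26, 0), (61, 0), (116, 0), (83, 0), (118, 1), (111, 0), (119, 0), (102, 2), (106, 1), (107, 2), (57,
   0), (98, 0), (88, 1), (53, 0), (117, 0), (105, 0), (120, 0), (121, 1), (110, 0), (116, 2), (69, 2), (79,
   0), (89, 0), (65, 1), (104, 0), (85, 0), (90, 1), (108, 0), (107, 0), (112, 2), (121, 0), (112, 0), (113,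
   1), (75, 0), (82, 2), (95, 0), (80, 1), (89, 2), (118, 0), (64, 0), (122, 0), (106, 0), (77, 1), (83, 2),
   (94, 0), (74, 0), (67, 1), (78, 1), (39, 0)]

theorem cls_pk {r : ℕ} (h : r < 251) : (nth (0, 0) pk r).1 < 123 ∧ (nth (0, 0) pk r).2 < 3 ∧
    cls (nth (0, 0) pk r).1 (nth (0, 0) pk r).2 = r := by
  have h1 := allN_spec (f := fun r => and (Nat.blt (nth (0, 0) pk r).1 123) (and (Nat.blt (nth (0, 0) pk r).2 3)
    (Nat.beq (cls (nth (0, 0) pk r).1 (nth (0, 0) pk r).2) r))) (a := 0) (n := 251) (by decide +kernel) r h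
  rw [Nat.zero_add, Bool.and_eq_true, Bool.and_eq_true, Nat.blt_eq, Nat.blt_eq, Nat.beq_eq] at h1
  exact h1

end Cfsg.Agent.MonsterX.CertAll
end

-- part: MonsterX/CertGlue
section
/-!
# The `D`-orbit representatives of the concrete model: `τ`-edges and disjointness

`v r = W (vw r) a₀` (`r : Fin 251`), `jof r` the index of its `C`-orbit, `clsF t ε` the indices of the row `t` of the
table of the `τ`-identities.
-/

set_option autoImplicit false
set_option maxRecDepth 100000

namespace Cfsg.Agent.MonsterX.CertGlue

open Cfsg.Agent.Monster.VecEngine Cfsg.Agent.Monster.VecSpace Cfsg.Agent.MonsterX.Space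
open Cfsg.Agent.MonsterX.ProgTable Cfsg.Agent.MonsterX.GensT Cfsg.Agent.MonsterX.ProgBase
open Cfsg.Agent.MonsterX.Conc Cfsg.Agent.MonsterX.Model Cfsg.Agent.MonsterX.InstData
open Cfsg.Agent.MonsterX.CertV Cfsg.Agent.MonsterX.CertAll Cfsg.Agent.MonsterX.CertTab
open Cfsg.Agent.MonsterX.CertVec (nth nth_eq allN allN_spec)
open Cfsg.Agent.MonsterX.CertBase (wv isD)
open Cfsg.Agent.MonsterX.ProgM.Inv (W_mem_C W_mem_N)

/-! ### The base axis and the representatives `d j` -/

theorem ax_eq : ax = vecV a0B := by
  have h : vecV CertBase.a0 = vecV (up 8 a0B) := vecV_congr (by decide +kernel)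
  unfold ax
  rw [h, vecV_up, smul_smul]
  norm_num

theorem bw_eq (j : Fin 12) : CertB.bw j.1 = bj j.1 := by
  have h : ∀ j : Fin 12, decide (CertB.bw j.1 = bj j.1) = true := by decide +kernel
  exact of_decide_eq_true (h j)

theorem vv_eq (w : List ℕ) : vv w = W w (vecV a0B) := by
  unfold vv
  rw [ax_eq]

theorem vv_bw (j : Fin 12) : vv (CertB.bw j.1) = M.d j := by
  rw [vv_eq, bw_eq, M_d]

/-- Vector identities from identities of the vectors of words. -/
theorem vv_of_wv {w₁ w₂ : List ℕ} (h : wv w₁ = wv w₂) : vv w₁ = vv w₂ := by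
  apply Subtype.ext
  rw [vv_coe, vv_coe, h]

/-! ### Operator identities -/

theorem W_of_seq {w₁ w₂ : List ℕ} (h : ProgEqBase.SEq w₁ w₂) : W w₁ = W w₂ := by
  apply LinearEquiv.ext
  intro v
  apply Subtype.ext
  rw [W_coe, W_coe]
  exact h v.1 v.2

theorem tau_cube : τ * τ * τ = 1 := by
  have h := W_of_seq ProgEqT.tau_cube
  rw [W_cons, W_cons, W_single, W_nil] at h
  exact h

theorem E_41 : E 41 = τ⁻¹ := by
  have h := W_of_seq ProgEqT.tau_tauInv
  rw [W_cons, W_single, W_nil] at h
  exact eq_inv_of_mul_eq_one_left h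

/-! ### The representatives -/

/-- The representatives of the `N`-orbits of axes. -/
noncomputable def v (r : Fin 251) : V := vv (vw r.1)

/-- The `C`-orbit of the representative `v r`. -/
noncomputable def jof (r : Fin 251) : Fin 12 := ⟨nth 0 kj r.1, kj_lt r.2⟩

theorem v_eq (r : Fin 251) : v r = W (nth [] kw r.1) (M.d (jof r)) := by
  unfold v vw
  rw [vv_append]
  congr 1
  exact vv_bw (jof r)

theorem isC_spec {i : ℕ} (h : isC i = true) : i < 40 ∨ 42 ≤ i ∧ i < 46 := by
  unfold isC at h
  rw [Bool.or_eq_true, Bool.and_eq_true, Nat.blt_eq] at h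
  rcases h with h | ⟨h1, h2⟩
  · exact Or.inl h
  · have := Nat.le_of_ble_eq_true h1
    have := Nat.le_of_ble_eq_true h2
    right; omega

theorem isD_spec {i : ℕ} (h : isD i = true) : i < 39 ∨ 42 ≤ i ∧ i < 46 := by
  unfold isD at h
  rw [Bool.or_eq_true, Bool.and_eq_true, Nat.blt_eq] at h
  rcases h with h | ⟨h1, h2⟩
  · exact Or.inl h
  · have := Nat.le_of_ble_eq_true h1
    have := Nat.le_of_ble_eq_true h2
    right; omega

theorem W_kw_mem (r : Fin 251) : W (nth [] kw r.1) ∈ C :=
  W_mem_C fun i hi => isC_spec (isC_kw r.2 i hi)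

theorem v_mem (r : Fin 251) : v r ∈ MulAction.orbit C (M.d (jof r)) :=
  ⟨⟨_, W_kw_mem r⟩, (v_eq r).symm⟩

/-- **The representatives are in different `N`-orbits.** -/
theorem disj (r s : Fin 251) (h : v r ∈ MulAction.orbit N (v s)) : r = s := by
  obtain ⟨⟨g, hg⟩, h⟩ := h
  have h1 : g (v s) = v r := h
  apply Fin.ext
  refine inv_inj r.2 s.2 ?_
  rw [← inv_id r.2, ← inv_id s.2, ← inv3V_vv, ← inv3V_vv]
  change inv3V (v r) = inv3V (v s)
  rw [← h1, inv3V_of_mem hg]

/-! ### The `τ`-edges -/

/-- The indices of the row `t`. -/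
noncomputable def clsF (t : Fin 123) (e : Fin 3) : Fin 251 := ⟨cls t.1 e.1, cls_lt t.2 e.2⟩

/-- The base point of the row `t`. -/
noncomputable def cF (t : Fin 123) : V := v (clsF t 0)

/-- The row and the place of the index `r`. -/
noncomputable def pick (r : Fin 251) : Fin 123 × Fin 3 :=
  (⟨(nth (0, 0) pk r.1).1, (cls_pk r.2).1⟩, ⟨(nth (0, 0) pk r.1).2, (cls_pk r.2).2.1⟩)

theorem cls_pick (r : Fin 251) : clsF (pick r).1 (pick r).2 = r := Fin.ext (cls_pk r.2).2.2

theorem nzero : CertOrbNZero.NZero N τ v cF clsF where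
  cube := tau_cube
  c0 t := MulAction.mem_orbit_self _
  c1 t := by
    have h1 := vv_of_wv (tau_id t.2).1
    rw [vv_append, vv_append, W_single] at h1
    refine ⟨⟨W (n1 t.1), W_mem_N fun i hi => isD_spec ((isD_n t.2).1 i hi)⟩, ?_⟩
    exact h1.symm
  c2 t := by
    have h1 := vv_of_wv (tau_id t.2).2
    rw [vv_append, vv_append, W_single, E_41] at h1
    refine ⟨⟨W (n2 t.1), W_mem_N fun i hi => isD_spec ((isD_n t.2).2 i hi)⟩, ?_⟩
    exact h1.symm

end Cfsg.Agent.MonsterX.CertGlue
end
end

-- part: MonsterX/CertLenT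
section
prune_inst 0x40000400070000000081800000200204444000192006040004100004000090741a0410141b6f0121091dc3e70580ac048110001d9021000002000ba004003000004af78e006341f043f0006c0e807790c00000000000000000000000000000004000000000
set_option linter.all false
open scoped Cfsg.Agent.FastGrp

/-- decoders of the packed data (elaboration time only) -/
private noncomputable def pk61d (b S i : Nat) : Nat := Nat.mod (Nat.shiftRight S (Nat.mul b i)) (Nat.shiftLeft (nat_lit 1) b)
private noncomputable def pk61f {α : Type} (t : Nat) (f : Nat → α) : α := Nat.rec (f Nat.zero) (fun k _ => f (Nat.succ k)) t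
private noncomputable def pk61l {α : Type} (f : Nat → α) (s e : Nat) (tl : List α) : List α :=
  pk61f e fun e => Nat.rec tl (fun k ih => List.cons (pk61f (Nat.sub e (Nat.succ k)) f) ih) (Nat.sub e s)

/-!
# Tables: the lengths of the `251` orbits of `N` on the axes, the numbers of `ξ`-edges, a spanning tree

* `lenT r` = length of the orbit of `v r`, `clsT j` = length of the `C`-orbit of `d j`;
* `PT j m n` = number of the `3542` neighbours going from class `m` to class `n` (`j`-th `C`-orbit), `offT` = index of
  the first class;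
* `parT`, `rkT` = spanning tree.
-/

set_option autoImplicit false
set_option maxRecDepth 100000

namespace Cfsg.Agent.MonsterX.CertLenT

open Cfsg.Agent.MonsterX.CertVec (nth nth_eq allN allN_spec)
open Cfsg.Agent.MonsterX.CertGlue Cfsg.Agent.MonsterX.CertTab Cfsg.Agent.MonsterX.CertAll

/-- The lengths of the orbits of `N`. -/
noncomputable def lenT : List ℕ :=
  (by
  refine (?fq9001 : ((pk61l (fun i1 => (pk61d (nat_lit 63) 
    (nat_lit 0x26e9e000000000003a5ed000000000004dd3c0000000000074bda00000000000bac9000000000001374f000000000001d2f6800000000002eb240000000000058f20000000000009ba7800000000000e97b4000000000019f14000000000002c790000000000004dd3c000000000007c86000000000000e97b4000000000019f140000000000026e9e000000000003e4300000000000074bda00000000000cf8a00000000000163c80000000000026e9e000000000003e4300000000000074bda00000000000bac900000000000163c80000000000029820000000000004dd3c000000000005d64800000000000a608000000000001374f0000000000019f140000000000026e9e0000000000033e280000000000058f20000000000009ba7800000000000f90c0000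000000019f14000000000002f7000000000000053040000000000009ba7800000000000f90c000000000001e3000000000000029820000000000004dd3c000000000007c86000000000000f1800000000000017592000000000002c7900000000000053040000000000009ba7800000000000cf8a0000000000017b80000000000002c7900000000000053040000000000009ba7800000000000f90c0000000000017b80000000000002c7900000000000053040000000000009ba7800000000000f90c0000000000017b800000000000014c1000000000000163c80000000000029820000000000004dd3c0000000000058f2000000000000a608000000000001374f00000000000228000000000000033e280000000000053040000000000009ba78000000000011400000000000001374f000000000001f2180000000000029820000000000003c60000000000000530400000000000078c0000000000000b1e4000000000000bdc000000000000163c80000000000017b80000000000002c790000000000000bdc000000000000163c80000000000029820000000000002f7000000000000058f2000000000000a608000000000000bdc000000000000053040000000000005304000000000000163c8000000000000030000000000000005ee00000000000006000000000000000bdc00000000000000450) (pk61d (nat_lit 7) 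
    (nat_lit 0xce1c0a942e5bc57eedcb9569d3a5971e3c78b161c17ee5ca53e7cfc172dd6ad56544c58b162c182e4f9ed22c99305852a53e4c9934a7c884bb1e3c78ee589326264c58b0e1c16ec56c58b15fa78add6a73e6ada53e646a5260ac6d1df549d3a5ce567a0399f36345870e7c676bd761b96ac587582f5caf4e8b9a5261c0ad5a94f93264c68d5a7cf89016b170d5916b966b4f93057a47b260bb6eee94e9319fc99315eb864c4e385a94bb35698f2e34c501c24a9e2a50f16a842648a23e3c6af5a70e2952a13a31c74c133e6c6142a4078b222038414243050608080) i1))) (nat_lit 0) (nat_lit 251) List.nil) : List ℕ)
    = ?xq9001 → (List ℕ)) ?hq9001; (case hq9001 => (set_option maxRecDepth 1000000 in set_option simprocs false in conv => lhs; reduce; dsimp only)); intro _; exact ?xq9001 : List ℕ)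

/-- The parents. -/
noncomputable def parT : List ℕ :=
  (by
  refine (?fq9002 : ((pk61l (fun i1 => (pk61d (nat_lit 8) 
    (nat_lit 0xcacacacac1bdcabdc6bdbdbfc0c0becabdbdbbbbc6bdbdbcc6c6bdcacacac6bdbdc6cacabdbdcac6bcc6bdbdbcbdcac620bababa2abababababababababababa1c9797969695969c9c9c96959696969695969c959595959595959c959494289494949494942d19828081808080807e7d7d7d7d7d7d7d7d7d7d7d7d7d2c1b60605f5e60645e5f5e5e5e5e59595a5959595a5959595959595959595959595858585858105152515150502e273b3b3b3b3b3b3b3c3b3b3b3a3a3a3a393939393939390f3131303130302f2f2f0e2323242523252222210d212121071214141412121412170c11110b1111060b0a0a0909090908020404030301010000) i1)) (nat_lit 0) (nat_lit 251) List.nil) : List ℕ)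
    = ?xq9002 → (List ℕ)) ?hq9002; (case hq9002 => (set_option maxRecDepth 1000000 in set_option simprocs false in conv => lhs; reduce; dsimp only)); intro _; exact ?xq9002 : List ℕ)

/-- The ranks. -/
noncomputable def rkT : List ℕ :=
  (by
  refine (?fq9003 : ((pk61l (fun i1 => (pk61d (nat_lit 4) 
    (nat_lit 0x9999aa9a9aaaaaa9aaaa9aaa99a9999aa999aa99a9aaaa9989998999999999998aaaa9a999a9aaaa9a999999999999899999988aaaaaaa9999999999999988aaaaaaaaaaaa99999999999999999998888879a99998899999999999999988888887999999888777777777666665777777777666666566655554344332210) i1)) (nat_lit 0) (nat_lit 251) List.nil) : List ℕ)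
    = ?xq9003 → (List ℕ)) ?hq9003; (case hq9003 => (set_option maxRecDepth 1000000 in set_option simprocs false in conv => lhs; reduce; dsimp only)); intro _; exact ?xq9003 : List ℕ)

/-- The lengths of the orbits of `C`. -/
noncomputable def clsT : List ℕ :=
  [196560, 11935123200, 1630347264000, 1466587938816000, 6599645724672000, 1896194506752000,
   438020931059712000, 1501786049347584000, 8601138282627072000, 786389785840189440, 37845008443559116800,
   48057153579122688000]

/-- The index of the first orbit of `N`. -/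
noncomputable def offT : List ℕ :=
  [0, 3, 8, 17, 33, 47, 57, 80, 88, 125, 148, 186]

/-- The numbers of orbits of `N`. -/
noncomputable def nclT : List ℕ :=
  [3, 5, 9, 16, 14, 10, 23, 8, 37, 23, 38, 65]

/-- The numbers of `ξ`-edges. -/
noncomputable def PT : List (List (List ℕ)) :=
  let y0 : List (List (List ℕ)) := (by
  refine (?fq9004 : (pk61l (fun i0 => (pk61l (fun i1 => (pk61l (fun i2 => (pk61d (nat_lit 11) 
    (nat_lit 0xd20f01682a050090118220420800f01d93b0740e01bc3646c0d21a0330640c41802f85a0b01542a0520a01382604b09011822e440841001f83e8780ef1d83ac750e81ce390700df1b63606a0d21a2340660ca190318628c4186308600bd1782e85c8b81682c0578ae15a2b0558aa150294520a21422804f89d1382684c89812c250498911202384608a11021c428841062084007e0f81ec3d0780ea1d0390700de1b83686c0d61a8348680cc190318620c017c2e05b0b41602b8550a814c2804f09c13025849090118220430841001f83e07a0f01d83a0720e01b8360680cc190310600bc1702d0580ac1502804c094120230440841001f03c0700d81a0320600b01502804c0901001e0380680c0160280480800e0180280400600800800) (pk61d (nat_lit 8) (Nat.add (Nat.add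 
    (nat_lit 0xad6fad002b3f000926000009002100002100215800000001000000000000008d00002b3a0000000000a88d8d006f8d8d00003a000000003a3a000000002b008d8d8d8d8d3ab3000000002e0c0004473616361a1a2b2b0c080300130c1600003f006f0000a5452b001600008d8d8d0000ad6f000016106f6f00004f2b2b0000008db38d0000ad00000003000c410f002b21320c160c0000210c0100080800000000008d0000000000002b00000000b80000008d65002b004f5c0000ad4f4f000010b800b8000000004f5c071600601600162b4f163a169a4f2b1d07000000000000000000000000000000000000000000000000000000000000000000000000005c00000000000000cf00000000bd000020000000bdbdbd000000002000000008102b1686100045452b10100ca88d3a3a00a5b19d1000450c1600001d101016241010009daf9d454f4f5c000001041a100100191a101a100c0c080c0401000000000000006500657a3a00000000b8653a3a1db56565001d00000000003a3a1d1d00000000a8b1a83a3aa86500000000130c02001a20080c1021100810040100000000004f002b2b00246f2b2b0021b88d00004fb0ad8d2b002b210000004f006f162b1008006f6f6f6f008d60000000000c1a0600160c2016210c0c0c00000100000000105c006f00002b102b10100c008d8d8d006f8d4f00002b0c1600004f102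b163f2b2b004fa54fa54f4fb30000010c360c030447212b311a16212b0c040300000000000000004f002b4f1d1d0016c60000008d6f8d654f0000160000008d3a4f2b000000004f4f4f8d3a65b8000000001a1608042b2b3f1a352f3f160000030000001600003f002b654f3a00001d00b80000004fad003a2b4f0000000000654f0000001d00008d8d8d4f658db80000010c1a0c0304215816162f3936160c0403000000080000163a3a001d0000001d1aa83a65654f4f3a003a3a0013080808b17a4f32101d0008ad00a8b5a8003a2b32010c100009000c10080c1613463200080100000000001d002b2b3a1600000000003a658d8d4f3f4f002b002b000008088d4f2b002b2b0800b300b3c7ad003232320000160006000c0c0c160c0c473c000c01000000000000000000000000000000000000b1b17a0000b1007a0000007a7a0000000000000000b1cbb10000b1000000000013360a0036450013001300002e1301000000000000000000000000000000000000c1c10000000000000000005c5c0000000000000000cc00cc000000005c5c000032471a004747001a001a7f7f4720070000000000000000000000000000000000000000000000000000000000000000000000000000000000000000000000000f24b6605524b6b6a5b6b6b6b6a53f601b) (Nat.shiftLeft 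
    (nat_lit 0x6c1658d3a9da83a1d6f451d2d0804109d1d2b2a08000008457a7a4f7a4f3a04100104000802000c10080408001a0000000002040004106f4d6f2b002b3a1d2b1015a88dad7a65458d5c4f005c151304104f2b1d08444510027a453a964f2b2b16000108000802001300100c0000081000000002000000006f588711002b110e300011ad3fb36f6f219a6f4b0077111600004f2100004b570800a74b586f7f003f16000009000000000900060900061111000000000000000036008700001b002400000000a5a5a5004bb6a5000000001b0000000000004b24140087b687b6a50073000000052800000128000f280000000f000000010c084f3a00a5b80000000000006500c6000000b80000000000004f600000b83a008d2b00000e0000b800a8000000000727000008000000000000004f000000000000000000241d7d323a3d130c0c000bb58d9d9d7463655c3f322f07000a0e4f3f160a131a040085727a907445360e0e0000040401000e1006020204110e0402000000000000271a94244547200d0b000ab89a90906b996b66363a1f0800080c422416130a0a080072a06d504f763f00000000040700001213060502040000080000000101160c211d68453a2f2f0c041306b88d96966b824f3f3f322706080c0a6b3d2413080c04027a6d798b6054360c0e0002040401000e1006020204100e0402000000000c0824105c5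6322f1f15060c10b2a98da86b6b5c4a3b321d0202000047473d0c1810080090508ba45e3f3f0e0c000104000000050406050402151500000000000011002b259216363f0c000c000cb474a9936f60583d4f2f250c0c00006e38111b111a08029e6f878470473f0a0e00030600000009060003020416110000000000011b0c21116f304f363712051300c18d777777a76053433f1d0906090a4716251109000000609f7758477845000000000209000009160c0304060000060000000000080416163f2b1d43451610100c9d4f5c5c4fa17f6f2b1d1a0c0600007a452b1611160a00879a879a6f7a7b000000011400000114160f1416160c070000000000000c0854214f4f3a000000001611b8a88d8d4f0000002b2b2b060c0c086f544f0c3f3a0000b300adb37a00000708010c000006000000000000003f32000800000000000000008d2b3a000000000016c18d8d8d6f0000004f2b3a1600080c9d4f3f2b00000000b300b3ad9d0000080700000000070000000000000047320008000e471a9d0000cc00000000000000007f00000000000000000000007fb35c00000000b3b3000050000000000000005c000e7f007f2c007f00003200327f00000007070a063f2b6f9a6f00002b0000006f2100000000ad6f000000002b58600000ad6f003f6f6f101e00) (nat_lit 8000))) (Nat.shiftLeft (Nat.add 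
    (nat_lit 0x300030000060603010000000116102b1677533a2b1e0f091006bcaaa3a27760605330322f030c0f0c3d3625060f0c04007f71778d52431a06060000030300000303000300000606030100000101160c36247f423a242b1008130ec58d969679744f3f583a2b0a080c0e6b27271a10100002746b6b6b4f541d040600020004010000020400040206040200000000000c082b21723f45294713040c00c2867a7a74914a4a3f32210c0200006b1d2b1d0a0402006399826b457f4300000001030000000f150d0303060603000000000000050a3e207a45132d3e1b180a13b7a59393605a81873613450a0a00003e36240a1b1b0a007a80606d4b523e0000000005000000170a0f05050005050000000000011113361b7f431d472c1c170c11b89d959558689a8330163f0311090a212b1106141608007f8f58683d533f0000000006090000140c0c03040200000600000004000000323f9513452b3a00160004c27aaa6f9a6f4f3f6224361a0004136b1d1a21161300006f606f6865541d0408000000060100020004000402080400000000000000001d168d475c3f0000000003c29d9d9d8d7f2b2b36440003000e0e6032211b000000007f8d7f7f546f1d06060000000001000006000000060c0006000000000008045c47874b08215a0a111000c388aa966f588d6f4b0031060600005821160c252f00007753684f473a1a06080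001040000000f0006030000000600000000080008004f6b9d1000006500001d06c6008d3a7a8d651d9d101d17080010b1001052271d00085c654f1d654f3a0410010c000802000c0016040800130000000001000c773f3f47ad00004500000060218d8d00b88d2b8dad00002b0c460c002b3f0016363a100f00008d2b8d4f2b0c000313000800002100000c00000c0000000000060e1a00002100b300005c2b00000c0000b5c5ad00006f2b5c00000c816b00006f0c0c000000a58dad00006f000c080100003f06000000000000000c082b08000010000000004f0000000000001d00160000c6b8b300007aa55c0016006b850000002b2b000000b3ada500007a00080c0000003f07000000000000000c082b080000000006002b306c432f0c4306021303c054936b959547215336301b03000097233b25111000036f5d95646e4745090e0003020000000306060306041b0c000000000000020c1325586f32361d1600080fb99a86a5684f6f4f2b3221000900004244210c110c00019a6095a7632b450d0c000304000000030c000104061b0c00000000000000003a101d931d00452b00000cc59d4f9d868d652b322b1d04001600862b4e16100000004f4f7aaa2b5c3a100c000000080300040816040800160800000000040010001d3a7a1d3a004f00001d) (Nat.shiftLeft (Nat.add 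
    (nat_lit 0x2b080016060000060000ad6f6fa51d06000106000600000600000000060600000000000000764c3225000000000000006d14c1b900c1a77f7fac00001a0039000000470000250000070000a77f007f1a070000070000000014000007000000000000000100000208573b77471d163d1a1a0c09bc88a88d876f7f60471d5c110900004f132b0c302b0400606858604f3f160d0000030000000009000c07000000040000000106000a084a597a2b1d1d5c1010160ac56fa8657a6f5c456f1d5c1f0e06106f32101d292b0005655c653a5c2b1d0600010600060000060000000006060000000000000013002f249c153f3611060e000abb93aa967f72655c533a360e0c00004d210813111304027d94685c684f1604080001040000000b0802030000040200000000000000003216279b10104a2400000ec7b16faa746f655413323602001a00544f52080c0400005c457a991d3f1d0804000000060100020004000402080400000000000020001a148c1469470e00000000bf9d9d9d7f982532555007000000004c2c1414000000007f987f71557f1a070700000000000000140000000700070000000000001600161687164f400c0c0c000cb8a58d8d606c607f3f3f21000a0000163600001110020095a777776f604300000001030000000f1b05030306060300000000060000003d473068100c8e280b0000c87f68686fa77f50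4f005a16000e00771d3621160600003655775316614500000000040f00000f0c11010604000000000000020000004721308700216a080f0000beb687876f879a8a00001b00001100213f5800210e0800585f5892005d3f00000000000f0000190011090600000000000000000000006d369800003631171b001bba6087876036b0a687004b00000013130000004b4b0000877e364b602d4500000000000f00000f001b050a0000000000000100006652364b00000000000000670fc56000b1ae8760600000451b410000932400361b00000a0000ae870093450f00000f000000000f000005000a1b0000000000000008102b247a5c003a00001d1001b8a8a8659d00a88d1d1000061608101d452b0c271d0000867a4fa865003a0c100104000802000c00160408001a000000000000000b082f287551382b3d110a0c09c496969687845d4f4934350c0300005b2c28140c0c0001686f6f62485c1a06070000000000000609060004030601000000000000090e291973603a36251b06060cbcab96aa6f686f5c363229000600002f30250c110604006f7c6f92424f160806000004000000090606030000030400000000010000003a2b95303a2b1e0f09000cbc96a2a37760605353323d09000b1052271111191a04007f71776f68431a060600000303000003) (Nat.shiftLeft 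
    (nat_lit 0x13000000cecd000000000000008d0000000000000000000000000060000000000000cdcb000f0000000000000000000f6d000000000000000000000000000000023306000000be00000000ca3a0000000000b800ad000000ca00006f003f8d0000006f6f0000110000ad0000000000000913006006000000000000000000000000000a22c9000000000000000000000000000000cbc50000b100000000a5ac0000000000000000130000c50000b1000000051300600a00000000000000000000000000000e894a081ba5007a4f0000005406b56f00b8ad6f2b6f00001d06430e) (nat_lit 8000))) (nat_lit 8000))) (nat_lit 16000))) i2))) (Nat.mul (nat_lit 65) i1) (Nat.mul (nat_lit 65) (Nat.succ i1)) List.nil)) (nat_lit 0) (nat_lit 65) List.nil)) (nat_lit 0) (nat_lit 1) List.nil : List (List (List ℕ)))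
    = ?xq9004 → (List (List (List ℕ)))) ?hq9004; (case hq9004 => (set_option maxRecDepth 1000000 in conv => lhs; reduce)); intro _; exact ?xq9004 : List (List (List ℕ)))
  let y1 : List (List (List ℕ)) := (by
  refine (?fq9005 : (fun tl : List (List (List ℕ)) => pk61l (fun i0 => ((fun g0 : Nat → Nat => pk61l (fun i1 => ((fun g1 : Nat → Nat => pk61l (fun i2 => (pk61d (nat_lit 11) (Nat.add 
    (nat_lit 0x781401f0280781400a0020000008010000008000000001200000c0600c00c00000401818030000000000000000180000c0060008a80c00c01b8a80c00000304018090020010040000080002c018050100200180080000709c038010020040700000100400a01c0000181200c03818410002002000000c018000018018030000c00c0240300600800000c03c120240000000201800003c0200900f0018600900c01806006e03002000000000000800000c01801800060000000000000300000c0600c0180180200c00600c0200300300060c0300600000c03000700800000000000000000000000000000000000000000000000000000000000000000000000000280780119e0280300f01e0500140118001b800052ad6528000c600000000000294000294a50001b80000000000000005097028ac8b412c1e069000800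05a001158b4096230000461c20f000000000000460233480017a1a4348000000150001a40013b11808c002df000000000000021700434c29c4307012c000000060003005a02a82a048070d20680000000000b0f0001a196d2582309e000000028001ae2580b42d01e0785784600000000005064048a78961db1684100280002a000b18f015e1401e01e3521e0000000000003801c6203107e18f348000000310006747e07707001c001ab0380000000000c2300a2ee278410961770000000f00a3704382d03c000078b403c028014000000e000000000d200000000000000000000000690d21c70006900000000008c0000000000000000000000000000000000000000181000604000000738001ce000780103c0280a82303c000000005000960000f0118000050f00000500500500000000000000000001e0000000000935a0b405a0000a0001680b41e00b40f008128011801582383b0b0000000078061cf2400f02401803c4e02a01000c00400040000f00a010018048000000000040c015b08806010010340230080010040202803055024118110240010000300183c0660bf0b01300020008004000806030380101f83606006012000c004150003601b0420c70541d87806c01e02405000000041b01204800c00000d000000081202403902a09a0605d07800000004c100e0000a81201200004800000200c000b40900003b018099240300090060120001e01c690460aa0f42400040000c0184e09c08005007c0c1db0b80500000300010000340380600200c00000000000c2a0690200480a0100b80770200040300000000000000000001400000020a0502803c028032000078c80500e605007c0000000000000000000e00000000e02a2a00a8070540000700000e07001c05400000000000000000000000500303c0f03c0b41683205f05a2d02d02e816869)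 (Nat.shiftLeft (Nat.add 
    (nat_lit 0xf00c8150280140001401e0140281400a000001202403a07402008a004008002e82a0570d81b02ec0c045012240480f00c0060540480120600480000002404800006024020000004809010020022000004008008e00d02801002004008a00008100200360260001a0018080000000100000400002000004000004000f02203204c0000ca000020002b82a04b1082704500005c018180540c00f00803c0780000e0060000000300800000200003000000380502202000c0000000280304814006028060030040040319300c0240200002c0080220100200d0008040100200201c028008000c81f05504e040038000050003802409207c1681802001004c5345f0700b00186e0180180380400400001c0700c00809c030010003e06409c2a81000800a000000e00dc2482d03e060080070060be29a1c02c00e1200601300601c010000270100300200700c004001202404c098050040010020003003c0400700e02801b0200241c0380ff1080407804e0240400200600000402002000004000010004809010020016014004008008c00d01e02004008004c0a0080b0160420258101a0098080100080100000200801000002000004000282302d0be000118078000001e02d05a0fc1683c000050000168690f00f01043c07803c0c80500000003c1400000003c050050003c0881381b01400e0040080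08a81081202a044070068050160dc1203c0340081c60d01400c010020000060180200000e00800400120240400800280a001002002280340500c0180300030500201803013809808068045020080040040000000400000000000001000280701004400c00801400003048160060300500300400002206026024020010280080318000100d00081c02002002004028008001180505f05a0000a00000f0001e01e05a0b41f83c00008c03c3482d0f00f00c85a0780001041400000003c0500000003c05005000080301201800002000001000078120120480c00900000c0180c02a0180180101800c00c040036060000360480600c01e04801800900200600c00400000801001800040000080100000100001a0200400c0080000800201a00001006300a0e0100100100e01400400400000000000000000801003800000000000000000000001800000000000000000000180000000f0015000000000200003000c00e0c008010120010000040000002c038050100200180080200101c138010020040300000700401201c0001840a00c03801810002002180100c024000018008000000780c0120600900900001000c150180180180402400c0180100480600001e0360600c036048018008000002805005000000000000280500a00a014000028000050780f00500a0000a00000500001401400) (Nat.shiftLeft 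
    (nat_lit 0x1172504708204804400401801360330600841382401b01e02a2585d0d80d80085a03601e038008060000240180000000c000000004a08b9042381200f003002004d80b41802704209006c088078ba12c3603600e1980d80a80200601800003002000000090000000011c2086546d04c026004080022b82884207215c1d0180190663fc3a8e40c00247503003004c0480900000c0300300206c018000004108e0da32a1300c810002008ae0ea1082b83907406004c0c0751fe390300131440c01980900c0240001b01200c00803006000001202404c09805f000010020003c03c06003006010033000024300600f01080007801e0240000000600000c0000600000c00001000440780981900002e004000000ae07812c4e084114000194000a80c03003c0381501e006020020000000000180000080c00c000000401801020004004010c0000c0c0300300c000008018000000000f00c00c0180600300f0000000300020c0080000000000c0060003002040008010000000086030300c00c0000600200600803c1e0000300300001800c0000600200c0008000000000003003001800100200801000000000c018013000600000000000003000024000000000180000c00602400000009000e000000000000000000c000480900e81d01400e801002000d98a81fc2604c07c070074048e01c0300300081500a00480800a0000000b00a0100180b008000001101e03609c050028010020022a038c480881501c01a01c0502406e0f00d003084034058020060080000380400800001802001000400800b01601000c802004000fe09024a280500740a0064031242482003c00c1200a00300c00c0000000a00c0200080a00c000000dc2082f891014082014000002f82a8640c91cc2d00a03703226c7088c0a00546903c03c03c078050000500a00500a050028000004106e12217c0501b80000a000be0d2190398648b40281040f0e11362302800f1540)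 (nat_lit 8000))) (nat_lit 8000))) i2)) (g1 i1) (g1 (Nat.succ i1)) List.nil) fun j => (pk61d (nat_lit 11) 
    (nat_lit 0x3daf8fed3d0f8eef7da3aaf42e5fc7384ef6dc7b435eeaad2fa1338e5ec978e312e12bff7b2ecdc6b67682c6d7aacf552a0d2ea374227e8f19cc36a678c39702b2508959141fa398678b81422283985c08a0b80b800) j))) (g0 i0) (g0 (Nat.succ i0)) List.nil) fun j => (pk61d (nat_lit 6) 
    (nat_lit 0x3d5c0) j))) (nat_lit 0) (nat_lit 2) tl)
    = ?xq9005 → (List (List (List ℕ)))) ?hq9005; (case hq9005 => (set_option maxRecDepth 1000000 in conv => lhs; reduce)); intro _; exact ?xq9005 y0 : List (List (List ℕ)))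
  (by
  refine (?fq9006 : (fun tl : List (List (List ℕ)) => pk61l (fun i0 => ((fun g0 : Nat → Nat => pk61l (fun i1 => ((fun g1 : Nat → Nat => pk61l (fun i2 => (pk61d (nat_lit 12) (Nat.add (Nat.add 
    (nat_lit 0x6f1680f001429000035c00f0000004ec1ff0380003480003480230000006900701c70001a40003480000230006040000000e70000006040e70000005201e00780002df01435c00000f0000000000000006040e76040000e70005601800c00202b001031f0240120013c02800000c00000005a011301400f0000002800003c00c05a00280ff00f0000000000000000008c03481a402a07769000007062000003800000000000000700000007862f0700605800a00340040000000040030000000006200af0a84601c001c00000700001c0000000000806000c00375001200200000060010180000000000705800500505ff0ac08000800100000c00600000000050010009056014b06000000600102c0080000000403400200208000c00eb0300060000100240010000003800000007000002a005b00000000005400700000000020018040030018000004300c1200600040030000000003800007000000000a80072a00000000070002001000c06002c008000002400607b0300000010803000000006001002400600180000600370060010000000000000000007003800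700000002a003f0070000000000000000000000002a007070038003800e3f738000e0001c018817a15001c00000700000001500700040037700c01c1801c019812002000000c0060010060060003c02d000f01400034034800000000008c00000f0000000000006900141472800002d000000000001407800f0000000003c02d000001423f1401681b005000000000f00002d00f00034834801a0001402271fe12c05000002d00000000f00f00036033001c01818022019714004000002000800302400c0003c02d000000024019019014b05000000a00000003200f0001e01e00000002802801e01e00ab00101400000003c05a0000000000000000000000000007000230000000000006900231802400700100004803000c00400000970000120240480010003c000014050000028000000000000006f01e08c03c0010003800e00e00000005400000000001500a803f0a80700073000c000000030010024028008000001801c0060470540012001800000002002001801801800040600180080a80a70030000000000000000000000000000282800c00f03c05a001e5076040dc0a500014a00000000046062d0be0f00101860050000004605321b90000002760150000003807000001570381c00000070000007000003480233480000230003805b01500e001c23701c0070000004602a00000006900230230000000000003c01407800a00b5001000000000000000000000dd60007776200380070006906ab08c00f0003c08c00fb05a0013807002a00af0070000007006900466eb6eb0007006b3023000c081ce)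 (Nat.shiftLeft 
    (nat_lit 0x200c00000600601800000c00801000c00c00c008018018018006002001202403c01802b00100000000000000000000000000000000000000000000000000000000000000000000000000000000000000000000014a1b85283182940006ab38024c0c408c00e0010006203bf2ca0ee0380070000006204402690ce03800600100062044026a0cd0380060010008c02001500700fb0540060017002001200602a00a300c0077000002a00e02a00a800700700000000000070062007004604330c0000000000004380f00f00b40501680b40f001400f00002d00000000f00000003420b02801c00800c3c01f01380ac0401980fc0a000c00d00000f00000c00300000000014009f0000140002a03800c016003806024006000000800800000105400600000000023000000f0000143c02001e00280500f01400f000003200000a00000000f0000000001400640000470a01e02800000000001e03200a00a002802800000103c01e0000000000f00000140500973c01400000000002d02300f00b000a02800a00000000f00000001814001c0100040104732201840b000c18016406800c00800200200000600100000000a13604601000a00a3fc2771680be02812c19a07800a00f00500000000f00000000001013801801800000048c24016b0a801418014407801c006006000000006001000000018158058004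0000004202601500b70181201b805001801000800400000c0030000000403000540300000001b03000f00900771200f00c001002400000c00104801200000001819800c00c00c0244801e018009001817712008003000000300400000400300100000c0fc04801001401c42c2901440dc01412019305402400c00f00000000c0030010000301e002402400c0243a82401680780301800fc07b02401b0090070000060090010000140b400000003c08421c0f01a40b40142d021c0b40eb00002d00000000000f00f0000201a00200500200103003000c010006000018012000003101801200003c01e0000010000000400000400801802001801000000c03c00c00c003003d00000003002a00e0011205a00000300000302400000000c00601800000e00000360000650000240360000010000003c00000c00000000000000002800000000000000000000000375a00f000000f0001801500000300002403000c00c00c008018004000003c01800c0060970180000010801800600600600601800000800c00c018018018008007805404800406004f00c0030000000000000000000000000000000003c03c01403c00000d200000000005a0290010000000000000000000000000000000000000000000003c01e014003c3c02d002000a5) (nat_lit 8000))) (Nat.shiftLeft (Nat.add 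
    (nat_lit 0x2001000c00c00800002c01801400000000000000540200080080b707003c02800802400c0080280880280280000000000010030020010002001400c00500400002001801200c00200700000580180080000700df0680300100000200000140600200100140080010000040020000002401000400e00400002c00c01100a00100a00000400100000080780d009700802c00c01400c0140500300080080140020000040000010003000400000000400002a01e01300e007000000000c05000000007809000c0b700000c00c00001c0a801801801c0000000000000060010001801601800f00900101800c010008004009000406c00000c00403006008400006701402c03000c03004804800c00c0030000000000040002401000401800400003601200c000000000000002400000001c0d800002401801403700802401c0c00780300000000000040000000030002401401800000000001002400f00e00300400040840000180000480c003c01802c00801f00c0040900180300180000000000040000030001801201801800d00102001800800000000000000780000100100600000480000600480180370180600500500000000010000000000060000000000800800000003001801800000000000000a80700000001e00f00780700180380080180230f003003000000000300400c00c0040002000c00c00a00c0000220120110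0a00900200040200100040040880600280380080200180080140c70400500140040000020020020010002400800401500c00002a01200600c006003000001800000001007806004801802403c00c01400c0c004f03801000c0000010030000030002400c01800300800001601201800800c001000c03c00001000007803000c01802401801801400c0f003807f0100000000030010000030000000000800200000001801800c01800c00600000000000000000001e00600e00300000600000001e008008002300000100400c00c0060000000000001400000002800000a01400201400000000000000000001e02580000780000000000000f00f000000002300a0000140000050000000000000000000000000000000000000000003000800800000003003000001800000000400c00000000000200800190000600180240010000000000000000000000000000000000000400000000200602400000000000001800000000c04800c02400600000000250360240360010000000000000000000000000000000000000001800000600202403001800000000000800000c01800c004006004001801204902401e0010000000000000000000000000000000000000000001400000002802800002800000000000001402800000000a000000a01403c04701400100) (Nat.shiftLeft 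
    (nat_lit 0x31714a0a00780a500125816812c07803c02800002d01400000005005002d02800a00f00f00500005001e01e0000000000000000000000003181490f009c0a500121015011807001805400002400800000006007803000801601001400900004801001800000000000000000000000024016816b08a0b40041a416812c05403c02e00206c00000a00006c06c01200002400602401200606c00c0480030000000000000000000002401380b81350e40042800f00d005003803600001800000000809003c05400001e03000001800807805400c00100400000000000000000031814a0f00e40a40012201200f006007000c00003000000000006003001801001200800000d00009003002000000000000000000000000031814a3702940a50000000000000000000dc00000000000000000000000000014a0000000a50000000000000000000000000000000000002d010808c0a008800028715c11e06802e02800002d01c00100308406004202a00c01b00800800c06602a0160030020000000000000000002d01180c806407800024417314a06403202800004b01400500107807801e03200a00f01e00a00a05a01e01e0050000000000000000000002d01180c806807800023c18c13506c02e02400104802000400007806c03302601000c00f00400c06600c0300030010000000000000000002d011808c06407800020812c10e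0e706e0640010000000000000000b404b04601400002300000009603c02800f0050000000000000000002d00780c808c1180001cc12c0e60dc0dd00000500000000000000003c00f04601400000f00000010e03c07800f0010000000000000000002401f80b80a20240041e01200d80f00000c90000000000000000000fc0b400003600001800000004802400c00900c0000000000000000000000002800000000000000001e00c01e00000230000000000000000000000000780000780000002d00002d000000000001400000000f0002400c01800400800001e01e018000000000000007f01001c0000a80b004000802400c02c01401c0400100280000000020000040000010003000800000000000003801802000000000000000300670000000c00900300a00000000000000380600000000000000010000000060000000000002800000000000c02401800000000000001f80000230001201200000000480000900300000900000c00000000060020120000090000000000002800000003c00c00000000000000000000000000231e00000f00000281180000500000f014000000000000000a00a00000f000) (nat_lit 8000))) (nat_lit 16000))) i2)) (g1 i1) (g1 (Nat.succ i1)) List.nil) fun j => (pk61d (nat_lit 12) 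
    (nat_lit 0xa45a209fb9d69b198c96794291d8f88d38ae88986483f81a7f57d07ab78676173c7176f26cd6a868365e6396145ef5ca5a558055b5365114ec4e44dc4d44cc4c44bc4b44ac49547e46745043942240b3f43dd3c63af39838136a35333c32530e2f72e02c92b229b29128727d27326925f25524b24123722921b20d1ff1f11e31d51c71b91ab19d18f1811731631531431331231131030f30e30d30c30b30a309308307306a06105804f04603d03402b02201d01801300e009006003000) j))) (g0 i0) (g0 (Nat.succ i0)) List.nil) fun j => (pk61d (nat_lit 7) 
    (nat_lit 0x3ed8a0e57a12220180) j))) (nat_lit 0) (nat_lit 9) tl)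
    = ?xq9006 → (List (List (List ℕ)))) ?hq9006; (case hq9006 => (set_option maxRecDepth 1000000 in conv => lhs; reduce)); intro _; exact ?xq9006 y1 : List (List (List ℕ)))

/-- The number of the `ξ`-edges from the class `m` to the class `n` of the `C`-orbit `j`. -/
noncomputable def pn (j m n : ℕ) : ℕ := nth 0 (nth [] (nth [] PT j) m) n

/-- The number of the `ξ`-edges from `r` to `s` (if the `C`-orbits are the same). -/
noncomputable def pe (r s : ℕ) : ℕ :=
  pn (nth 0 kj r) (Nat.sub r (nth 0 offT (nth 0 kj r))) (Nat.sub s (nth 0 offT (nth 0 kj r)))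

/-- The targets of the `τ`-edges. -/
noncomputable def tpN (r : ℕ) : ℕ := cls (nth (0, 0) pk r).1 (Nat.mod (Nat.succ (nth (0, 0) pk r).2) 3)

/-- The targets of the `τ⁻¹`-edges. -/
noncomputable def tmN (r : ℕ) : ℕ := cls (nth (0, 0) pk r).1 (Nat.mod (Nat.succ (Nat.succ (nth (0, 0) pk r).2)) 3)

/-- The number of the `τ`-edges. -/
noncomputable def taN (r s : ℕ) : ℕ :=
  Nat.add (Bool.rec (motive := fun _ => ℕ) 0 1 (Nat.beq (tpN r) s))
    (Bool.rec (motive := fun _ => ℕ) 0 1 (Nat.beq (tmN r) s))

/-- The check of the tree edge at `r`. -/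
noncomputable def edgeOK (r : ℕ) : Bool :=
  or (Nat.beq r 0) (and (Nat.blt (nth 0 rkT (nth 0 parT r)) (nth 0 rkT r))
    (or (and (Nat.beq (nth 0 kj r) (nth 0 kj (nth 0 parT r))) (and (Nat.blt 0 (pe r (nth 0 parT r)))
        (Nat.beq (Nat.mul (nth 0 lenT r) (pe r (nth 0 parT r)))
          (Nat.mul (nth 0 lenT (nth 0 parT r)) (pe (nth 0 parT r) r)))))
      (and (Nat.blt 0 (taN r (nth 0 parT r)))
        (Nat.beq (Nat.mul (nth 0 lenT r) (taN r (nth 0 parT r)))
          (Nat.mul (nth 0 lenT (nth 0 parT r)) (taN (nth 0 parT r) r))))))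

theorem edge_ok : allN edgeOK 0 251 = true := by decide +kernel

theorem par_ok : allN (fun r => Nat.blt (nth 0 parT r) 251) 0 251 = true := by decide +kernel

/-- Sums of tables. -/
noncomputable def sumN (f : ℕ → ℕ) (n : ℕ) : ℕ := Nat.rec (motive := fun _ => ℕ) 0 (fun k ih => Nat.add ih (f k)) n

theorem sumN_eq (f : ℕ → ℕ) (n : ℕ) : sumN f n = ∑ i : Fin n, f i := by
  induction n with
  | zero => simp [sumN]
  | succ n ih =>
    rw [Fin.sum_univ_castSucc]
    exact congrArg (· + f n) ih

theorem sum_ok : Nat.beq (sumN (fun r => nth 0 lenT r) 251) 97239461142009186000 = true := by decide +kernel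

/-- The sum over a `C`-orbit. -/
noncomputable def clsSum (j : ℕ) : ℕ :=
  sumN (fun r => Bool.rec (motive := fun _ => ℕ) 0 (nth 0 lenT r) (Nat.beq (nth 0 kj r) j)) 251

theorem cls_ok : allN (fun j => Nat.beq (clsSum j) (nth 0 clsT j)) 0 12 = true := by decide +kernel

/-- The length of the orbit of `v r`. -/
noncomputable def len (r : Fin 251) : ℕ := nth 0 lenT r.1

/-- The length of the `C`-orbit of `d j`. -/
noncomputable def clen (j : Fin 12) : ℕ := nth 0 clsT j.1

/-- The parent of `r`. -/
noncomputable def par (r : Fin 251) : Fin 251 := ⟨nth 0 parT r.1, by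
  have := allN_spec par_ok r.1 r.2
  rw [Nat.zero_add, Nat.blt_eq] at this
  exact this⟩

/-- The rank of `r`. -/
noncomputable def rk (r : Fin 251) : ℕ := nth 0 rkT r.1

/-- The number of the `ξ`-edges. -/
noncomputable def P (r s : Fin 251) : ℕ := pe r.1 s.1

/-- The targets of the `τ`-edges. -/
noncomputable def tp (r : Fin 251) : Fin 251 := clsF (pick r).1 ((pick r).2 + 1)

/-- The targets of the `τ⁻¹`-edges. -/
noncomputable def tm (r : Fin 251) : Fin 251 := clsF (pick r).1 ((pick r).2 + 2)

theorem tp_val (r : Fin 251) : (tp r).1 = tpN r.1 := by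
  unfold tp tpN clsF pick
  congr 1

theorem tm_val (r : Fin 251) : (tm r).1 = tmN r.1 := by
  unfold tm tmN clsF pick
  congr 1

theorem ta_eq (r s : Fin 251) : CertLen.ta tp tm r s = taN r.1 s.1 := by
  unfold CertLen.ta taN
  have h1 : (tp r = s) ↔ Nat.beq (tpN r.1) s.1 = true := by
    rw [Fin.ext_iff, tp_val, Nat.beq_eq]
  have h2 : (tm r = s) ↔ Nat.beq (tmN r.1) s.1 = true := by
    rw [Fin.ext_iff, tm_val, Nat.beq_eq]
  congr 1
  · by_cases h : tp r = s
    · rw [if_pos h, h1.1 h]
    · rw [if_neg h]
      have h3 : Nat.beq (tpN r.1) s.1 = false := by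
        rw [← Bool.not_eq_true]
        exact fun h4 => h (h1.2 h4)
      rw [h3]
  · by_cases h : tm r = s
    · rw [if_pos h, h2.1 h]
    · rw [if_neg h]
      have h3 : Nat.beq (tmN r.1) s.1 = false := by
        rw [← Bool.not_eq_true]
        exact fun h4 => h (h2.2 h4)
      rw [h3]

private theorem rk_val (r : Fin 251) : rk r = nth 0 rkT r.1 := by unfold rk; exact Eq.refl _

private theorem par_val (r : Fin 251) : (par r).1 = nth 0 parT r.1 := by unfold par; exact Eq.refl _

private theorem len_val (r : Fin 251) : len r = nth 0 lenT r.1 := by unfold len; exact Eq.refl _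

private theorem P_val (r s : Fin 251) : P r s = pe r.1 s.1 := by unfold P; exact Eq.refl _

private theorem jof_val (r : Fin 251) : (jof r).1 = nth 0 kj r.1 := rfl

theorem tree : CertLen.Tree jof tp tm P len par rk (0 : Fin 251) where
  rk_lt r hr := by
    have h := allN_spec edge_ok r.1 r.2
    rw [Nat.zero_add] at h
    unfold edgeOK at h
    rw [Bool.or_eq_true, Nat.beq_eq, Bool.and_eq_true, Nat.blt_eq] at h
    rcases h with h | h
    · exact absurd (Fin.ext h) hr
    · rw [rk_val, rk_val, par_val]
      exact h.1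
  edge r hr := by
    have h := allN_spec edge_ok r.1 r.2
    rw [Nat.zero_add] at h
    unfold edgeOK at h
    rw [Bool.or_eq_true, Nat.beq_eq, Bool.and_eq_true, Bool.or_eq_true] at h
    rcases h with h | ⟨-, h⟩
    · exact absurd (Fin.ext h) hr
    · rcases h with h | h
      · left
        rw [Bool.and_eq_true, Bool.and_eq_true, Nat.beq_eq, Nat.blt_eq, Nat.beq_eq] at h
        rw [Fin.ext_iff, jof_val, jof_val, P_val, P_val, len_val, len_val, par_val]
        exact ⟨h.1, Nat.pos_iff_ne_zero.1 h.2.1, h.2.2⟩
      · right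
        rw [Bool.and_eq_true, Nat.blt_eq, Nat.beq_eq] at h
        rw [ta_eq, ta_eq, len_val, len_val, par_val]
        exact ⟨Nat.pos_iff_ne_zero.1 h.1, h.2⟩
  pos := by
    have h : Nat.blt 0 (nth 0 lenT 0) = true := by decide +kernel
    rw [Nat.blt_eq] at h
    rw [len_val]
    exact Nat.pos_iff_ne_zero.1 h

theorem sum_len : ∑ r, len r = 97239461142009186000 := by
  have e : ∀ (f : ℕ → ℕ) (g : Fin 251 → ℕ) (n : ℕ), (∀ r, g r = f r.1) → Nat.beq (sumN f 251) n = true →
      ∑ r, g r = n := fun f g n h1 h2 => by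
    rw [Nat.beq_eq, sumN_eq] at h2
    rw [← h2]
    exact Finset.sum_congr rfl fun r _ => h1 r
  exact (e _ _ _ len_val sum_ok :)

private theorem sum_gen (f g : ℕ → ℕ) (F : Fin 251 → ℕ) (G : Fin 251 → Fin 12) (j : Fin 12) (hF : ∀ r, F r = f r.1)
    (hG : ∀ r, (G r).1 = g r.1) :
    (∑ r, if G r = j then F r else 0) =
      sumN (fun r => Bool.rec (motive := fun _ => ℕ) 0 (f r) (Nat.beq (g r) j.1)) 251 := by
  rw [sumN_eq]
  refine Finset.sum_congr rfl fun r _ => ?_
  have h1 : (G r = j) ↔ Nat.beq (g r.1) j.1 = true := by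
    rw [Fin.ext_iff, Nat.beq_eq, hG]
  by_cases h2 : G r = j
  · rw [if_pos h2, h1.1 h2, hF]
  · rw [if_neg h2]
    have h3 : Nat.beq (g r.1) j.1 = false := by
      rw [← Bool.not_eq_true]
      exact fun h4 => h2 (h1.2 h4)
    rw [h3]

theorem sum_cls (j : Fin 12) : (∑ r, if jof r = j then len r else 0) = clen j := by
  have h := allN_spec cls_ok j.1 j.2
  rw [Nat.zero_add, Nat.beq_eq] at h
  unfold clsSum at h
  unfold clen
  rw [← h]
  exact (sum_gen (nth 0 lenT) (nth 0 kj) len jof j len_val jof_val :)

end Cfsg.Agent.MonsterX.CertLenT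

private theorem dce_2f18ac1409c6 : _root_.True := by
  try have : _root_.True := by simp only [_root_.Cfsg.Agent.MonsterX.CertLenT.sumN.eq_1]
  exact _root_.True.intro
end

-- part: MonsterX/CertAsm_mg
section
set_option linter.all false
open scoped Cfsg.Agent.FastGrp

-- part: MonsterX/CertFr
section
/-!
# The coverage of the frames, for the twelve classes, in the global numbering

`ClassCov U j off n` : the cover certificate of the class `j` with the words `kw (off + m)`, `m < n`, and the numbers
`pn j m k` of the `ξ`-edges.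
-/

set_option autoImplicit false
set_option maxRecDepth 100000

namespace Cfsg.Agent.MonsterX.CertFr

open Cfsg Cfsg.Agent.MonsterX.Space Cfsg.Agent.MonsterX.Conc Cfsg.Agent.MonsterX.InstData Cfsg.Agent.MonsterX.Model
open Cfsg.Agent.MonsterX.FrameGam Cfsg.Agent.MonsterX.FrameAct Cfsg.Agent.MonsterX.FrameConc
open Cfsg.Agent.MonsterX.FrameInst Cfsg.Agent.MonsterX.FrameCover Cfsg.Agent.MonsterX.CertFrame
open Cfsg.Agent.MonsterX.CertCovB Cfsg.Agent.MonsterX.CertLenT Cfsg.Agent.MonsterX.CertTab
open Cfsg.Agent.MonsterX.CertVec (nth allN allN_spec)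

/-- The stabiliser of `d j` in the full linear group. -/
noncomputable def St (j : Fin 12) : Subgroup (V ≃ₗ[ℚ] V) := MulAction.stabilizer (V ≃ₗ[ℚ] V) (M.d j)

/-- Coverage of one class. -/
structure ClassCov {u : leechLattice → V} (U : ULink u) (j : Fin 12) (o n : ℕ) : Prop where
  lt : ∀ m, m < n → o + m < 251
  cls : ∀ m, m < n → nth 0 kj (o + m) = j.1
  offs : nth 0 offT j.1 = o
  ex : ∃ tgt : Fin n → Fin 3542 → Fin n,
    Cover C (coded U.ind).y0 (nb U.ind) (St j) (M.d j) (fun m : Fin n => (prodF EC (nth [] kw (o + m.1)))⁻¹) tgt ∧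
    ∀ m k : Fin n, Nat.card {i : Fin 3542 // tgt m i = k} = pn j.1 m.1 k.1

theorem Cover.congr {G V Y : Type*} [Group G] [MulAction G V] {K : Subgroup G} [MulAction K Y] {y₀ : Y} {ι : Type*}
    {nb : ι → Y} {L : Subgroup G} {b : V} {μ : Type*} {c c' : μ → K} {tgt : μ → ι → μ}
    (h : Cover K y₀ nb L b c tgt) (hc : c' = c) : Cover K y₀ nb L b c' tgt := by
  rw [hc]; exact h

theorem rep_isK {u : leechLattice → V} (U : ULink u) (a : ℕ) (ha : a < 44) (h : FrameData.isK a = true) :
    Rep (coded U.ind) (EC a) (ltc a) := by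
  refine rep_ok U ?_
  unfold FrameData.isK at h
  unfold okC
  rw [Bool.or_eq_true, Bool.or_eq_true] at h
  rw [Bool.or_eq_true, Bool.or_eq_true]
  tauto

theorem mem_St {u : leechLattice → V} (U : ULink u) {j : Fin 12} {w : List ℕ} (hw : w.all okC = true)
    (h : W w (W (bj j.1) (vecV a0B)) = W (bj j.1) (vecV a0B)) : ((prodF EC w : C) : V ≃ₗ[ℚ] V) ∈ St j := by
  rw [prodF_coe U hw]
  exact h

/-- The check of the words and of the numbers. -/
noncomputable def tabOK (j off n : ℕ) (p : ℕ → ℕ) : Bool :=
  allN (fun m => and (and (Nat.blt (Nat.add off m) 251) (Nat.beq (nth 0 kj (Nat.add off m)) j))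
    (allN (fun k => Nat.beq (Nat.mod (Nat.shiftRight (p m) (Nat.mul 12 k)) 4096) (pn j m k)) 0 n)) 0 n

theorem tab_sound {j off n : ℕ} {p : ℕ → ℕ} (h : tabOK j off n p = true) (m : ℕ) (hm : m < n) :
    (off + m < 251 ∧ nth 0 kj (off + m) = j) ∧ ∀ k, k < n → (p m >>> (12 * k)) % 4096 = pn j m k := by
  have h1 := allN_spec h m hm
  rw [Nat.zero_add, Bool.and_eq_true, Bool.and_eq_true] at h1
  refine ⟨⟨?_, ?_⟩, fun k hk => ?_⟩
  · have := h1.1.1
    rw [Nat.blt_eq] at this
    exact this
  · have := h1.1.2
    rw [Nat.beq_eq] at this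
    exact this
  · have h2 := allN_spec h1.2 k hk
    rw [Nat.zero_add, Nat.beq_eq] at h2
    exact h2

theorem mk {u : leechLattice → V} {U : ULink u} {j : Fin 12} {o n : ℕ} {p : ℕ → ℕ} (h : tabOK j.1 o n p = true)
    (ho : nth 0 offT j.1 = o) {kw' : ℕ → List ℕ} (hk : ∀ m : Fin n, kw' m.1 = nth [] kw (o + m.1))
    {tgt : Fin n → Fin 3542 → Fin n}
    (hc : Cover C (coded U.ind).y0 (nb U.ind) (St j) (M.d j) (fun m : Fin n => (prodF EC (kw' m.1))⁻¹) tgt)
    (hp : ∀ m k : Fin n, Nat.card {i : Fin 3542 // tgt m i = k} = (p m.1 >>> (12 * k.1)) % 4096) :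
    ClassCov U j o n where
  lt m hm := (tab_sound h m hm).1.1
  cls m hm := (tab_sound h m hm).1.2
  offs := ho
  ex := ⟨tgt, Cover.congr hc (funext fun m => by rw [hk]), fun m k => by rw [hp, (tab_sound h m.1 m.2).2 k.1 k.2]⟩

variable {u : leechLattice → V} (U : ULink u)

theorem cls0 : ClassCov U (0 : Fin 12) 0 3 :=
  mk (p := Frames.J0.p) (by decide +kernel) (by decide +kernel) (kw' := FrameData.nthW Frames.J0.kw)
    (by decide +kernel)
    (Frames.J0.cover rfl (rep_isK U) (St 0) (M.d (0 : Fin 12)) (fun l hl => hl)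
      (by
        intro i hi
        interval_cases i
        · exact mem_St U (w := CertLj.l0_0) (by decide) CertLj.fix0_0
        · exact mem_St U (w := CertLj.l0_1) (by decide) CertLj.fix0_1)
      (nb U.ind) code_nb)
    Frames.J0.card_tgt

theorem cls1 : ClassCov U (1 : Fin 12) 3 5 :=
  mk (p := Frames.J1.p) (by decide +kernel) (by decide +kernel) (kw' := FrameData.nthW Frames.J1.kw)
    (by decide +kernel)
    (Frames.J1.cover rfl (rep_isK U) (St 1) (M.d (1 : Fin 12)) (fun l hl => hl)
      (by
        intro i hi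
        interval_cases i
        · exact mem_St U (w := CertLj.l1_0) (by decide) CertLj.fix1_0
        · exact mem_St U (w := CertLj.l1_1) (by decide) CertLj.fix1_1
        · exact mem_St U (w := CertLj.l1_2) (by decide) CertLj.fix1_2)
      (nb U.ind) code_nb)
    Frames.J1.card_tgt

theorem cls2 : ClassCov U (2 : Fin 12) 8 9 :=
  mk (p := Frames.J2.p) (by decide +kernel) (by decide +kernel) (kw' := FrameData.nthW Frames.J2.kw)
    (by decide +kernel)
    (Frames.J2.cover rfl (rep_isK U) (St 2) (M.d (2 : Fin 12)) (fun l hl => hl)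
      (by
        intro i hi
        interval_cases i
        · exact mem_St U (w := CertLj.l2_0) (by decide) CertLj.fix2_0
        · exact mem_St U (w := CertLj.l2_1) (by decide) CertLj.fix2_1)
      (nb U.ind) code_nb)
    Frames.J2.card_tgt

theorem cls3 : ClassCov U (3 : Fin 12) 17 16 :=
  mk (p := Frames.J3.p) (by decide +kernel) (by decide +kernel) (kw' := FrameData.nthW Frames.J3.kw)
    (by decide +kernel)
    (Frames.J3.cover rfl (rep_isK U) (St 3) (M.d (3 : Fin 12)) (fun l hl => hl)
      (by
        intro i hi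
        interval_cases i
        · exact mem_St U (w := CertLj.l3_0) (by decide) CertLj.fix3_0
        · exact mem_St U (w := CertLj.l3_1) (by decide) CertLj.fix3_1
        · exact mem_St U (w := CertLj.l3_2) (by decide) CertLj.fix3_2)
      (nb U.ind) code_nb)
    Frames.J3.card_tgt

theorem cls4 : ClassCov U (4 : Fin 12) 33 14 :=
  mk (p := Frames.J4.p) (by decide +kernel) (by decide +kernel) (kw' := FrameData.nthW Frames.J4.kw)
    (by decide +kernel)
    (Frames.J4.cover rfl (rep_isK U) (St 4) (M.d (4 : Fin 12)) (fun l hl => hl)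
      (by
        intro i hi
        interval_cases i
        · exact mem_St U (w := CertLj.l4_0) (by decide) CertLj.fix4_0
        · exact mem_St U (w := CertLj.l4_1) (by decide) CertLj.fix4_1
        · exact mem_St U (w := CertLj.l4_2) (by decide) CertLj.fix4_2
        · exact mem_St U (w := CertLj.l4_3) (by decide) CertLj.fix4_3)
      (nb U.ind) code_nb)
    Frames.J4.card_tgt

theorem cls5 : ClassCov U (5 : Fin 12) 47 10 :=
  mk (p := Frames.J5.p) (by decide +kernel) (by decide +kernel) (kw' := FrameData.nthW Frames.J5.kw)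
    (by decide +kernel)
    (Frames.J5.cover rfl (rep_isK U) (St 5) (M.d (5 : Fin 12)) (fun l hl => hl)
      (by
        intro i hi
        interval_cases i
        · exact mem_St U (w := CertLj.l5_0) (by decide) CertLj.fix5_0
        · exact mem_St U (w := CertLj.l5_1) (by decide) CertLj.fix5_1)
      (nb U.ind) code_nb)
    Frames.J5.card_tgt

theorem cls6 : ClassCov U (6 : Fin 12) 57 23 :=
  mk (p := Frames.J6.p) (by decide +kernel) (by decide +kernel) (kw' := FrameData.nthW Frames.J6.kw)
    (by decide +kernel)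
    (Frames.J6.cover rfl (rep_isK U) (St 6) (M.d (6 : Fin 12)) (fun l hl => hl)
      (by
        intro i hi
        interval_cases i
        · exact mem_St U (w := CertLj.l6_0) (by decide) CertLj.fix6_0
        · exact mem_St U (w := CertLj.l6_1) (by decide) CertLj.fix6_1
        · exact mem_St U (w := CertLj.l6_2) (by decide) CertLj.fix6_2)
      (nb U.ind) code_nb)
    Frames.J6.card_tgt

theorem cls7 : ClassCov U (7 : Fin 12) 80 8 :=
  mk (p := Frames.J7.p) (by decide +kernel) (by decide +kernel) (kw' := FrameData.nthW Frames.J7.kw)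
    (by decide +kernel)
    (Frames.J7.cover rfl (rep_isK U) (St 7) (M.d (7 : Fin 12)) (fun l hl => hl)
      (by
        intro i hi
        interval_cases i
        · exact mem_St U (w := CertLj.l7_0) (by decide) CertLj.fix7_0
        · exact mem_St U (w := CertLj.l7_1) (by decide) CertLj.fix7_1)
      (nb U.ind) code_nb)
    Frames.J7.card_tgt

theorem cls8 : ClassCov U (8 : Fin 12) 88 37 :=
  mk (p := Frames.J8.p) (by decide +kernel) (by decide +kernel) (kw' := FrameData.nthW Frames.J8.kw)
    (by decide +kernel)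
    (Frames.J8.cover rfl (rep_isK U) (St 8) (M.d (8 : Fin 12)) (fun l hl => hl)
      (by
        intro i hi
        interval_cases i
        · exact mem_St U (w := CertLj.l8_0) (by decide) CertLj.fix8_0
        · exact mem_St U (w := CertLj.l8_1) (by decide) CertLj.fix8_1)
      (nb U.ind) code_nb)
    Frames.J8.card_tgt

theorem cls9 : ClassCov U (9 : Fin 12) 125 23 :=
  mk (p := Frames.J9.p) (by decide +kernel) (by decide +kernel) (kw' := FrameData.nthW Frames.J9.kw)
    (by decide +kernel)
    (Frames.J9.cover rfl (rep_isK U) (St 9) (M.d (9 : Fin 12)) (fun l hl => hl)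
      (by
        intro i hi
        interval_cases i
        · exact mem_St U (w := CertLj.l9_0) (by decide) CertLj.fix9_0
        · exact mem_St U (w := CertLj.l9_1) (by decide) CertLj.fix9_1
        · exact mem_St U (w := CertLj.l9_2) (by decide) CertLj.fix9_2)
      (nb U.ind) code_nb)
    Frames.J9.card_tgt

theorem cls10 : ClassCov U (10 : Fin 12) 148 38 :=
  mk (p := Frames.J10.p) (by decide +kernel) (by decide +kernel) (kw' := FrameData.nthW Frames.J10.kw)
    (by decide +kernel)
    (Frames.J10.cover rfl (rep_isK U) (St 10) (M.d (10 : Fin 12)) (fun l hl => hl)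
      (by
        intro i hi
        interval_cases i
        · exact mem_St U (w := CertLj.l10_0) (by decide) CertLj.fix10_0
        · exact mem_St U (w := CertLj.l10_1) (by decide) CertLj.fix10_1)
      (nb U.ind) code_nb)
    Frames.J10.card_tgt

theorem cls11 : ClassCov U (11 : Fin 12) 186 65 :=
  mk (p := Frames.J11.p) (by decide +kernel) (by decide +kernel) (kw' := FrameData.nthW Frames.J11.kw)
    (by decide +kernel)
    (Frames.J11.cover rfl (rep_isK U) (St 11) (M.d (11 : Fin 12)) (fun l hl => hl)
      (by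
        intro i hi
        interval_cases i
        · exact mem_St U (w := CertLj.l11_0) (by decide) CertLj.fix11_0
        · exact mem_St U (w := CertLj.l11_1) (by decide) CertLj.fix11_1)
      (nb U.ind) code_nb)
    Frames.J11.card_tgt

end Cfsg.Agent.MonsterX.CertFr
end

-- part: MonsterX/CertAsm
section
/-!
# The fields `closed`, `disjoint`, `card_X`, `card_pairs` of the concrete model of the Monster

From the coverage of the frames (`CertFr`), the `τ`-identities and the invariants (`CertGlue`), the spanning tree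
(`CertLenT`) and the length `196560` of the base orbit.
-/

set_option autoImplicit false
set_option maxRecDepth 100000

namespace Cfsg.Agent.MonsterX.CertAsm

open Cfsg Cfsg.Agent.MonsterX.Space Cfsg.Agent.MonsterX.Conc Cfsg.Agent.MonsterX.InstData Cfsg.Agent.MonsterX.Model
open Cfsg.Agent.MonsterX.FrameGam Cfsg.Agent.MonsterX.FrameAct Cfsg.Agent.MonsterX.FrameConc
open Cfsg.Agent.MonsterX.FrameInst Cfsg.Agent.MonsterX.FrameCover Cfsg.Agent.MonsterX.CertFrame
open Cfsg.Agent.MonsterX.CertCovB Cfsg.Agent.MonsterX.CertLenT Cfsg.Agent.MonsterX.CertTab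
open Cfsg.Agent.MonsterX.CertVec (nth allN allN_spec)
open Cfsg.Agent.MonsterX.CertFr Cfsg.Agent.MonsterX.CertGlue Cfsg.Agent.MonsterX.CertOrb
open Cfsg.Agent.MonsterX.CertOrbModel

variable {u : leechLattice → V} (U : ULink u)

theorem cast {u : leechLattice → V} {U : ULink u} {j : Fin 12} {o n o' n' : ℕ} (h : ClassCov U j o n) (ho : o = o')
    (hn : n = n') : ClassCov U j o' n' := by
  subst ho hn
  exact h

/-- All classes. -/
theorem all (j : Fin 12) : ClassCov U j (nth 0 offT j.1) (nth 0 nclT j.1) := by
  fin_cases j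
  · exact cast (cls0 U) (by decide +kernel) (by decide +kernel)
  · exact cast (cls1 U) (by decide +kernel) (by decide +kernel)
  · exact cast (cls2 U) (by decide +kernel) (by decide +kernel)
  · exact cast (cls3 U) (by decide +kernel) (by decide +kernel)
  · exact cast (cls4 U) (by decide +kernel) (by decide +kernel)
  · exact cast (cls5 U) (by decide +kernel) (by decide +kernel)
  · exact cast (cls6 U) (by decide +kernel) (by decide +kernel)
  · exact cast (cls7 U) (by decide +kernel) (by decide +kernel)
  · exact cast (cls8 U) (by decide +kernel) (by decide +kernel)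
  · exact cast (cls9 U) (by decide +kernel) (by decide +kernel)
  · exact cast (cls10 U) (by decide +kernel) (by decide +kernel)
  · exact cast (cls11 U) (by decide +kernel) (by decide +kernel)

theorem kw_ok (r : Fin 251) : (nth [] kw r.1).all okC = true := by
  have h := allN_spec (f := fun r => (nth [] kw r).all okC) (a := 0) (n := 251) (by decide +kernel) r.1 r.2
  rwa [Nat.zero_add] at h

theorem ncl_pos (j : Fin 12) : 0 < nth 0 nclT j.1 := by
  have h := allN_spec (f := fun j => Nat.blt 0 (nth 0 nclT j)) (a := 0) (n := 12) (by decide +kernel) j.1 j.2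
  rw [Nat.zero_add, Nat.blt_eq] at h
  exact h

theorem range_ok (r : Fin 251) : nth 0 offT (jof r).1 ≤ r.1 ∧ r.1 < nth 0 offT (jof r).1 + nth 0 nclT (jof r).1 := by
  have h := allN_spec (f := fun r => and (Nat.ble (nth 0 offT (nth 0 kj r)) r)
    (Nat.blt r (Nat.add (nth 0 offT (nth 0 kj r)) (nth 0 nclT (nth 0 kj r))))) (a := 0) (n := 251)
    (by decide +kernel) r.1 r.2
  rw [Nat.zero_add, Bool.and_eq_true, Nat.blt_eq] at h
  exact ⟨Nat.le_of_ble_eq_true h.1, h.2⟩

/-- The global number of the `m`-th class of `j`. -/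
noncomputable def gl (j : Fin 12) (m : Fin (nth 0 nclT j.1)) : Fin 251 := ⟨nth 0 offT j.1 + m.1, (all U j).lt m.1 m.2⟩

theorem jof_val (r : Fin 251) : (jof r).1 = nth 0 kj r.1 := rfl

theorem gl_val (j : Fin 12) (m : Fin (nth 0 nclT j.1)) : (gl U j m).1 = nth 0 offT j.1 + m.1 := rfl

theorem jof_gl (j : Fin 12) (m : Fin (nth 0 nclT j.1)) : jof (gl U j m) = j := by
  apply Fin.ext
  rw [jof_val, gl_val]
  exact (all U j).cls m.1 m.2

theorem c_eq (j : Fin 12) (m : Fin (nth 0 nclT j.1)) :
    (((prodF EC (nth [] kw (nth 0 offT j.1 + m.1)))⁻¹)⁻¹ : C) • M.d j = v (gl U j m) := by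
  rw [inv_inv, v_eq, jof_gl]
  exact congrArg (fun g : V ≃ₗ[ℚ] V => g (M.d j)) (prodF_coe U (kw_ok (gl U j m)))

include U in
/-- **The orbits of `N` cover the orbits of `C`.** -/
theorem refines : Refines C N M.d v jof where
  le := N_le_C
  rep := v_mem
  cov j x hx := by
    obtain ⟨tgt, hc, -⟩ := (all U j).ex
    have : Nonempty (Fin (nth 0 nclT j.1)) := ⟨⟨0, ncl_pos j⟩⟩
    obtain ⟨m, hm⟩ := hc.cov U.frames x hx
    refine ⟨gl U j m, jof_gl U j m, ?_⟩
    rw [← c_eq U j m]
    exact hm

theorem gl_inj (j : Fin 12) (m n : Fin (nth 0 nclT j.1)) (h : gl U j m = gl U j n) : m = n := by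
  have := Fin.ext_iff.1 h
  apply Fin.ext
  have h2 : nth 0 offT j.1 + m.1 = nth 0 offT j.1 + n.1 := this
  omega

theorem finite_N [Finite C] : Finite N :=
  Finite.of_injective (fun d : N => (⟨d, N_le_C d.2⟩ : C)) fun _ _ e =>
    Subtype.ext (congrArg (fun z : C => (z : V ≃ₗ[ℚ] V)) e)

/-- Balance in one class. -/
theorem balance_gl [Finite C] (j : Fin 12) (m n : Fin (nth 0 nclT j.1)) :
    Nat.card (MulAction.orbit N (v (gl U j m))) * pn j.1 m.1 n.1 =
      Nat.card (MulAction.orbit N (v (gl U j n))) * pn j.1 n.1 m.1 := by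
  obtain ⟨tgt, hc, hp⟩ := (all U j).ex
  have : Finite N := finite_N
  have h := hc.balance U.frames (fun m n hmn => by
    rw [c_eq U j m, c_eq U j n] at hmn
    exact gl_inj U j m n (disj _ _ hmn)) m n
  rw [c_eq U j m, c_eq U j n, hp, hp] at h
  exact h

theorem exists_gl (r : Fin 251) (j : Fin 12) (hj : jof r = j) :
    ∃ m : Fin (nth 0 nclT j.1), r = gl U j m ∧ m.1 = r.1 - nth 0 offT j.1 := by
  subst hj
  have h := range_ok r
  refine ⟨⟨r.1 - nth 0 offT (jof r).1, by omega⟩, ?_, rfl⟩
  apply Fin.ext
  show r.1 = nth 0 offT (jof r).1 + (r.1 - nth 0 offT (jof r).1)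
  omega

theorem P_eq (r s : Fin 251) : P r s = pn (jof r).1 (r.1 - nth 0 offT (jof r).1) (s.1 - nth 0 offT (jof r).1) := rfl

include U in
/-- Balance for the `ξ`-edges. -/
theorem balance [Finite C] (r s : Fin 251) (h : jof r = jof s) :
    Nat.card (MulAction.orbit N (v r)) * P r s = Nat.card (MulAction.orbit N (v s)) * P s r := by
  obtain ⟨m, hm, hm'⟩ := exists_gl U r (jof r) rfl
  obtain ⟨n, hn, hn'⟩ := exists_gl U s (jof r) h.symm
  have h1 := balance_gl U (jof r) m n
  rw [← hm, ← hn, hm', hn'] at h1
  rw [P_eq, P_eq, ← h]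
  exact h1

noncomputable instance : Fintype M.J := inferInstanceAs (Fintype (Fin 12))

noncomputable instance : DecidableEq M.J := inferInstanceAs (DecidableEq (Fin 12))

include U in
theorem exists_jof (j : Fin 12) : ∃ r, jof r = j := ⟨gl U j ⟨0, ncl_pos j⟩, jof_gl U j _⟩

include U in
/-- **The orbit table of the concrete model.** -/
theorem table : OrbTable M N ConcGrp.N0 (E 12) (CertOrbNZero.rep τ cF pick) jof tp tm :=
  CertOrbNZero.orbTable (M := M) ConcGrp.tauData (refines U) (exists_jof U) disj nzero cls_pick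

include U in
/-- Field `closed` of `MOrbit`. -/
theorem closed : ∀ j, ∀ g ∈ M.C, ∃ k, ∃ h ∈ M.C, M.τ (g (M.d j)) = h (M.d k) := (table U).closed

include U in
/-- Field `disjoint` of `MOrbit`. -/
theorem disjoint : ∀ j k, ∀ g ∈ M.C, g (M.d j) = M.d k → j = k := (table U).disjoint

theorem clen_zero : clen 0 = 196560 := by
  have h : Nat.beq (nth 0 clsT 0) 196560 = true := by decide +kernel
  rw [Nat.beq_eq] at h
  exact h

include U in
/-- The lengths of the orbits of `N`. -/
theorem lengths [Finite M.C] (hS : M.S.ncard = 196560) (r : Fin 251) :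
    Nat.card (MulAction.orbit N (CertOrbNZero.rep τ cF pick r)) = len r := by
  have : Finite C := ‹Finite M.C›
  refine CertLen.lengths (table U) (P := P) (fun r s h => ?_) tree (j₀ := (0 : Fin 12)) (n := 196560) (by norm_num) ?_ ?_ r
  · rw [CertOrbNZero.card_rep nzero cls_pick, CertOrbNZero.card_rep nzero cls_pick]
    exact balance U r s h
  · rw [← hS]
    exact CertLen.card_base d_j₀
  · rw [← clen_zero]
    exact sum_cls 0

include U in
/-- The lengths of the orbits of `C`. -/
theorem card_C [Finite M.C] (hS : M.S.ncard = 196560) (j : Fin 12) :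
    Nat.card (MulAction.orbit M.C (M.d j)) = clen j := by
  rw [CertLen.card_C (table U) (lengths U hS) j]
  exact sum_cls j

include U in
/-- **Field `card_X` of `MOrbit`.** -/
theorem card_X [Finite M.C] (hS : M.S.ncard = 196560) : M.X.ncard = 97239461142009186000 := by
  rw [(table U).card_X len (lengths U hS)]
  exact sum_len

/-- The numbers of `s ∈ S` with inner product `0` with `d j`. -/
noncomputable def zeroT : List ℕ := [93151, 4440, 506, 63, 16, 1, 3, 0, 0, 1, 0, 0]

theorem pairs_ok : Nat.beq (sumN (fun j => Nat.mul (nth 0 clsT j) (nth 0 zeroT j)) 12)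
    (11707448673375 * 196560) = true := by decide +kernel

theorem sum_pairs : ∑ j : Fin 12, clen j * nth 0 zeroT j.1 = 11707448673375 * 196560 := by
  have h := pairs_ok
  rw [Nat.beq_eq, sumN_eq] at h
  exact h

include U in
/-- **Field `card_pairs` of `MOrbit`.** -/
theorem card_pairs [Finite M.C] (hS : M.S.ncard = 196560)
    (hZ : ∀ j : Fin 12, {s | s ∈ M.S ∧ M.F s (M.d j) = 0}.ncard = nth 0 zeroT j.1) :
    {p : V × V | p.1 ∈ M.S ∧ p.2 ∈ M.X ∧ M.F p.1 p.2 = 0}.ncard = 11707448673375 * 196560 := by
  rw [(table U).card_pairs M_C_isom clen (fun j => nth 0 zeroT (show Fin 12 from j).1) (card_C U hS) hZ]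
  exact sum_pairs

end Cfsg.Agent.MonsterX.CertAsm
end

-- part: MonsterX/KRigid
section
/-!
The inputs `TriData`, `TauData`, `ConnData` of the `K`-side of the Monster from the closedness of the set of axes
and explicit facts on two axes.

* `Pr M pr`: `pr` is the projection on the span of the vectors `u v`;
* `Cls M pr d n`: the set of axes `⋃ K d j` is closed under `G`, `n j` is the norm of the projection of `d j`, and these
  norms are different;
* `TwoB`: facts on the axis `b` of type `2B`;
* `triData`, `tauData`, `connData`: the results.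
-/

set_option autoImplicit false

namespace Cfsg.Agent.MonsterX.KRigid

open Cfsg Cfsg.Agent.LeechMat.Core Cfsg.Agent.MonsterX.KSide Cfsg.Agent.MonsterX.KLift
  Cfsg.Agent.MonsterX.Lat

variable {G V P W : Type*} [Group G] [AddCommGroup V] [Module ℚ V]
  [DistribMulAction G V] [SMulCommClass G ℚ V] [Group P] [AddCommGroup W] [Module ℚ W]

/-- Linear maps agreeing on `u`, `X` and `Θ` are equal. -/
theorem lin_ext (M : KS G V P W) {Z : Type*} [AddCommGroup Z] [Module ℚ Z] {f g : V →ₗ[ℚ] Z}
    (h1 : ∀ v, f (M.u v) = g (M.u v)) (h2 : ∀ x ∈ M.Sh, f (M.X x) = g (M.X x))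
    (h3 : ∀ t v, f (M.Θ t (rat v)) = g (M.Θ t (rat v))) : f = g := by
  apply LinearMap.ext_on M.span
  rintro w ((⟨v, rfl⟩ | ⟨x, hx, rfl⟩) | ⟨t, v, rfl⟩)
  · exact h1 v
  · exact h2 x hx
  · exact h3 t v

/-- `pr` is the projection on the span of the vectors `u v`. -/
structure Pr (M : KS G V P W) (pr : V →ₗ[ℚ] V) : Prop where
  u : ∀ v, pr (M.u v) = M.u v
  X : ∀ x ∈ M.Sh, pr (M.X x) = 0
  Θ : ∀ f v, pr (M.Θ f (rat v)) = 0

namespace Pr

variable {M : KS G V P W} {pr : V →ₗ[ℚ] V}

theorem mem (h : Pr M pr) (v : V) : pr v ∈ Submodule.span ℚ (Set.range M.u) := by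
  have hv : v ∈ Submodule.span ℚ
      (Set.range M.u ∪ M.X '' M.Sh ∪ {w | ∃ f v, w = M.Θ f (rat v)}) := by
    rw [M.span]; trivial
  induction hv using Submodule.span_induction with
  | mem x hx =>
    rcases hx with (⟨v, rfl⟩ | ⟨y, hy, rfl⟩) | ⟨f, v, rfl⟩
    · rw [h.u]; exact Submodule.subset_span ⟨v, rfl⟩
    · rw [h.X y hy]; exact Submodule.zero_mem _
    · rw [h.Θ]; exact Submodule.zero_mem _
  | zero => rw [map_zero]; exact Submodule.zero_mem _
  | add x y _ _ hx hy => rw [map_add]; exact Submodule.add_mem _ hx hy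
  | smul c x _ hx => rw [map_smul]; exact Submodule.smul_mem _ _ hx

theorem B (h : Pr M pr) (v : V) (w : leechLattice) : M.B v (M.u w) = M.B (pr v) (M.u w) := by
  have h1 : M.B.flip (M.u w) = (M.B.flip (M.u w)).comp pr := by
    refine lin_ext M (fun v => ?_) (fun x hx => ?_) fun t v => ?_
    · rw [LinearMap.comp_apply, h.u]
    · rw [LinearMap.comp_apply, h.X x hx, map_zero, LinearMap.flip_apply, M.B_uX' x hx]
    · rw [LinearMap.comp_apply, h.Θ, map_zero, LinearMap.flip_apply, M.B_comm, M.B_uΘ]
  exact LinearMap.congr_fun h1 v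

theorem K (h : Pr M pr) {k : G} (hk : k ∈ M.K) (v : V) : pr (k • v) = k • pr v := by
  obtain ⟨A, α, T, hA⟩ := M.acts k hk
  have h1 : pr.comp (DistribSMul.toLinearMap ℚ V k) =
      (DistribSMul.toLinearMap ℚ V k).comp pr := by
    refine lin_ext M (fun v => ?_) (fun x hx => ?_) fun t v => ?_
    · show pr (k • M.u v) = k • pr (M.u v)
      rw [h.u, hA.act_u, h.u]
    · show pr (k • M.X x) = k • pr (M.X x)
      rw [h.X x hx, hA.act_X x hx, h.X _ (hA.act_sh x hx), smul_zero]
    · show pr (k • M.Θ t (rat v)) = k • pr (M.Θ t (rat v))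
      rw [h.Θ, hA.act_Θ, h.Θ, smul_zero]
  exact LinearMap.congr_fun h1 v

/-- Elements of the span of the `u v` with the same inner products with all `u v` are equal. -/
theorem ext_span {p q : V} (hp : p ∈ Submodule.span ℚ (Set.range M.u))
    (hq : q ∈ Submodule.span ℚ (Set.range M.u)) (hpq : ∀ w, M.B p (M.u w) = M.B q (M.u w)) : p = q := by
  by_contra hne
  have h0 : p - q ∈ Submodule.span ℚ (Set.range M.u) := Submodule.sub_mem _ hp hq
  have h1 : ∀ w, M.B (p - q) (M.u w) = 0 := by
    intro w
    rw [map_sub, LinearMap.sub_apply, hpq, sub_self]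
  have h2 : ∀ t ∈ Submodule.span ℚ (Set.range M.u), M.B (p - q) t = 0 := by
    intro t ht
    induction ht using Submodule.span_induction with
    | mem x hx => obtain ⟨v, rfl⟩ := hx; exact h1 v
    | zero => exact map_zero _
    | add x y _ _ hx hy => rw [map_add, hx, hy, add_zero]
    | smul c x _ hx => rw [map_smul, hx, smul_zero]
  exact (M.B_pos _ (sub_ne_zero.2 hne)).ne' (h2 _ h0)

theorem eq (h : Pr M pr) {v v' : V} (hv : ∀ w, M.B v (M.u w) = M.B v' (M.u w)) : pr v = pr v' :=
  ext_span (h.mem v) (h.mem v') fun w => by rw [← h.B, ← h.B, hv]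

theorem norm_K (h : Pr M pr) {k : G} (hk : k ∈ M.K) (v : V) :
    M.B (pr (k • v)) (pr (k • v)) = M.B (pr v) (pr v) := by
  rw [h.K hk, M.B_inv]

end Pr

/-- The axes: representatives `d j` of the `K`-orbits, and norms of the projections. -/
structure Cls (M : KS G V P W) (pr : V →ₗ[ℚ] V) {J : Type*} (d : J → V) (n : J → ℚ) : Prop where
  closed : ∀ (g : G) (j : J), ∃ i, ∃ k ∈ M.K, g • d j = k • d i
  norm : ∀ j, M.B (pr (d j)) (pr (d j)) = n j
  inj : Function.Injective n

variable {M : KS G V P W} {pr : V →ₗ[ℚ] V} {J : Type*} {d : J → V} {n : J → ℚ} {θ : leechLattice → P}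

/-- An element of `G` fixing all `u v` preserves the `K`-orbits of axes. -/
theorem Cls.orbit (h : Cls M pr d n) (hp : Pr M pr) {g : G} (hg : ∀ v, g • M.u v = M.u v) (j : J)
    {k : G} (hk : k ∈ M.K) : ∃ k' ∈ M.K, g • k • d j = k' • d j := by
  obtain ⟨i, k', hk', e⟩ := h.closed (g * k) j
  rw [mul_smul] at e
  have h1 : pr (k' • d i) = pr (k • d j) := by
    apply hp.eq
    intro w
    rw [← e, M.B_smul_left, inv_smul_eq_iff.2 (hg w).symm]
  have h2 : n i = n j := by
    rw [← h.norm i, ← h.norm j, ← hp.norm_K hk' (d i), ← hp.norm_K hk (d j), h1]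
  exact ⟨k', hk', by rw [e, h.inj h2]⟩

/-! ### Triangles -/

/-- The facts on the axis `b` of type `2B`: there are a subgroup `E` and a character `χ` of `E` such that the
coefficient of `X x` is zero or `x ∈ E` and the coefficient is `c χ(x)`; and there is one triangle in the support. -/
structure TwoB (M : KS G V P W) (b : V) (E : Set P) (χ : P → ℚ) (c : ℚ) : Prop where
  c_ne : c ≠ 0
  mul : ∀ x ∈ E, ∀ y ∈ E, χ (x * y) = χ x * χ y
  sq : ∀ x ∈ E, χ x * χ x = 1
  val : ∀ x ∈ M.Sh, M.B b (M.X x) = 0 ∨ (x ∈ E ∧ M.B b (M.X x) = c * χ x)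
  tri : ∃ x ∈ M.Sh, ∃ y ∈ M.Sh, x * y ∈ M.Sh ∧ M.B b (M.X x) ≠ 0 ∧ M.B b (M.X y) ≠ 0 ∧
    M.B b (M.X (x * y)) ≠ 0

theorem TwoB.prod {b : V} {E : Set P} {χ : P → ℚ} {c : ℚ} (h : TwoB M b E χ c) {x y : P} (hx : x ∈ M.Sh)
    (hy : y ∈ M.Sh) (hxy : x * y ∈ M.Sh) :
    M.B b (M.X x) * M.B b (M.X y) * M.B b (M.X (x * y)) = 0 ∨
    M.B b (M.X x) * M.B b (M.X y) * M.B b (M.X (x * y)) = c ^ 3 := by
  rcases h.val x hx with h1 | ⟨hxE, h1⟩
  · left; rw [h1, zero_mul, zero_mul]
  rcases h.val y hy with h2 | ⟨hyE, h2⟩
  · left; rw [h2, mul_zero, zero_mul]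
  rcases h.val _ hxy with h3 | ⟨_, h3⟩
  · left; rw [h3, mul_zero]
  right
  rw [h1, h2, h3, h.mul x hxE y hyE]
  have e : c * χ x * (c * χ y) * (c * (χ x * χ y)) = c ^ 3 * (χ x * χ x) * (χ y * χ y) := by ring
  rw [e, h.sq x hxE, h.sq y hyE, mul_one, mul_one]

theorem sixteen_dvd (v : leechLattice) : (16 : ℤ) ∣ nrm v := Cfsg.Agent.Leech.Basic.sixteen_dvd_sqNorm v.2

theorem one_notMem (L : Lift M θ) : (1 : P) ∉ M.Sh := by
  intro h
  have h1 : Eqz M (θ (M.lam 1)) 1 := L.lam 1 h
  obtain ⟨w, hw⟩ := L.ker (M.lam 1) (by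
    rcases h1 with e | e
    · exact Or.inl e
    · right; rw [e, mul_one])
  have h2 := M.lam_norm 1 h
  rw [hw, KSLat.nrm_two] at h2
  have h3 := sixteen_dvd w
  omega

theorem zc_notMem (L : Lift M θ) : M.zc ∉ M.Sh := by
  intro h
  have h1 := M.Sh_z _ h
  rw [M.zc_mul] at h1
  exact one_notMem L h1

/-- The lattice vectors of a triangle of short elements have inner product `±16`. -/
theorem dot_of_tri (L : Lift M θ) {x y : P} (hx : x ∈ M.Sh) (hy : y ∈ M.Sh) (hxy : x * y ∈ M.Sh) :
    dot (M.lam x) (M.lam y) = 16 ∨ dot (M.lam x) (M.lam y) = -16 := by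
  have h1 : Eqz M (θ (M.lam x + M.lam y)) (x * y) :=
    (show Eqz M (θ (M.lam x + M.lam y)) (θ (M.lam x) * θ (M.lam y)) from L.add _ _).trans
      (Eqz.mul (L.lam x hx) (L.lam y hy))
  have h2 : Eqz M (θ (M.lam x + M.lam y + -M.lam (x * y))) 1 := by
    have h3 : Eqz M (θ (M.lam x + M.lam y + -M.lam (x * y)))
        (θ (M.lam x + M.lam y) * θ (-M.lam (x * y))) := L.add _ _
    have h4 : Eqz M (θ (-M.lam (x * y))) (x * y) := (θ_neg L _).trans (L.lam _ hxy)
    have h5 := h3.trans (h1.mul h4)
    rwa [L.sh_sq _ hxy] at h5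
  obtain ⟨w, hw⟩ := L.ker _ (by
    rcases h2 with e | e
    · exact Or.inl e
    · right; rw [e, mul_one])
  obtain ⟨a, ha⟩ : ∃ a, a = M.lam x := ⟨_, rfl⟩
  obtain ⟨b, hb⟩ : ∃ b, b = M.lam y := ⟨_, rfl⟩
  obtain ⟨c, hc⟩ : ∃ c, c = M.lam (x * y) := ⟨_, rfl⟩
  have hna : nrm a = 32 := by rw [ha]; exact M.lam_norm x hx
  have hnb : nrm b = 32 := by rw [hb]; exact M.lam_norm y hy
  have hnc : nrm c = 32 := by rw [hc]; exact M.lam_norm _ hxy
  rw [← ha, ← hb, ← hc] at hw
  rw [← ha, ← hb]
  have hw' : a + b + c = 2 • (w + c) := by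
    rw [smul_add, ← hw, two_smul]; abel
  have e1 : nrm (a + b) - 2 * dot (a + b) c + nrm c = 4 * nrm w := by
    rw [← KSLat.nrm_sub, ← KSLat.nrm_two, ← hw, sub_eq_add_neg]
  have e2 : nrm (a + b) + 2 * dot (a + b) c + nrm c = 4 * nrm (w + c) := by
    rw [← KSLat.nrm_add, ← KSLat.nrm_two, ← hw']
  have e3 : nrm (a + b) = 64 + 2 * dot a b := by
    rw [KSLat.nrm_add, hna, hnb]; ring
  have e4 : nrm (a - b) = 64 - 2 * dot a b := by
    rw [KSLat.nrm_sub, hna, hnb]; ring
  have d1 := sixteen_dvd w
  have d2 := sixteen_dvd (w + c)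
  have p1 : 0 ≤ nrm (a + b) := sqNorm_nonneg _
  have p2 : 0 ≤ nrm (a - b) := sqNorm_nonneg _
  -- `a ≠ ± b`
  have hne : ∀ s : leechLattice, (M.lam y = s ∨ M.lam y = -s) → s = M.lam x → False := by
    rintro s hs rfl
    rcases M.lam_inj x hx y hy hs with e | e
    · rw [e, L.sh_sq x hx] at hxy
      exact one_notMem L hxy
    · rw [e, ← mul_assoc, ← M.zc_comm, mul_assoc, L.sh_sq x hx, mul_one] at hxy
      exact zc_notMem L hxy
  have q1 : nrm (a + b) ≠ 0 := by
    intro h
    have h6 : a + b = 0 := Subtype.ext (sqNorm_eq_zero h)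
    refine hne (M.lam x) (Or.inr ?_) rfl
    rw [← ha, ← hb]
    exact eq_neg_of_add_eq_zero_right h6
  have q2 : nrm (a - b) ≠ 0 := by
    intro h
    have h6 : a - b = 0 := Subtype.ext (sqNorm_eq_zero h)
    refine hne (M.lam x) (Or.inl ?_) rfl
    rw [← ha, ← hb]
    exact (sub_eq_zero.1 h6).symm
  have q3 : dot a b ≠ 0 := by
    intro h
    have hw0 : w ≠ 0 := by
      rintro rfl
      have : nrm (0 : leechLattice) = 0 := KSLat.nrm_zero
      rw [smul_zero] at hw
      have h6 : a + b = c := by
        have := congrArg (· + c) hw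
        simpa using this
      rw [h6, hnc, h] at e3
      norm_num at e3
    have hw1 : w + c ≠ 0 := by
      intro h7
      rw [h7, smul_zero] at hw'
      have h6 : a + b = -c := eq_neg_of_add_eq_zero_left hw'
      rw [h6, nrm_neg, hnc, h] at e3
      norm_num at e3
    have l1 := KSLat.le_nrm hw0
    have l2 := KSLat.le_nrm hw1
    omega
  omega

/-- `K` is transitive on the triangles of short elements up to the centre. -/
theorem trans_tri (L : Lift M θ) {x y x' y' : P} (hx : x ∈ M.Sh) (hy : y ∈ M.Sh) (hxy : x * y ∈ M.Sh)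
    (hx' : x' ∈ M.Sh) (hy' : y' ∈ M.Sh) (hxy' : x' * y' ∈ M.Sh) :
    ∃ k ∈ M.K, ∃ A α T, Acts M.Sh M.lam M.u M.X M.Θ M.ρ k A α T ∧ Eqz M (α x) x' ∧ Eqz M (α y) y' := by
  -- signs
  have hs : ∀ a b : leechLattice, (dot a b = 16 ∨ dot a b = -16) → ∃ b', (b' = b ∨ b' = -b) ∧ dot a b' = -16 := by
    intro a b h
    rcases h with h | h
    · exact ⟨-b, Or.inr rfl, by rw [dot_neg_right, h]⟩
    · exact ⟨b, Or.inl rfl, h⟩
  obtain ⟨b, hb, hdb⟩ := hs _ _ (dot_of_tri L hx hy hxy)
  obtain ⟨b', hb', hdb'⟩ := hs _ _ (dot_of_tri L hx' hy' hxy')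
  obtain ⟨g₁, hg₁⟩ := Cfsg.Agent.S0400.result (M.lam x) (M.lam x') (M.lam_norm x hx) (M.lam_norm x' hx')
  have hnb : nrm b = 32 := by
    rcases hb with e | e <;> rw [e]
    · exact M.lam_norm y hy
    · rw [nrm_neg]; exact M.lam_norm y hy
  have hnb' : nrm b' = 32 := by
    rcases hb' with e | e <;> rw [e]
    · exact M.lam_norm y' hy'
    · rw [nrm_neg]; exact M.lam_norm y' hy'
  obtain ⟨g₂, hg₂, hg₂'⟩ := Cfsg.Agent.S1574.result (M.lam x') (g₁ • b) b' (M.lam_norm x' hx')
    (by have := nrm_smul g₁ b; rw [hnb] at this; exact this) hnb'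
    (by have := dot_smul g₁ (M.lam x) b; rw [hg₁, hdb] at this; exact this) hdb'
  obtain ⟨k, hk, α, T, A, hA, hpm⟩ := exists_acts M (g₂ * g₁)
  refine ⟨k, hk, A, α, T, hA, ?_, ?_⟩
  · have h1 : M.lam (α x) = M.lam x' ∨ M.lam (α x) = -M.lam x' := by
      have h2 : (g₂ * g₁) • M.lam x = M.lam x' := by rw [mul_smul, hg₁, hg₂]
      rcases hA.act_lam x hx with e | e <;> rcases hpm (M.lam x) with e' | e' <;> rw [e, e', h2]
      · exact Or.inl rfl
      · exact Or.inr rfl
      · exact Or.inr rfl
      · left; rw [neg_neg]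
    exact M.lam_inj x' hx' (α x) (hA.act_sh x hx) h1
  · have h1 : M.lam (α y) = M.lam y' ∨ M.lam (α y) = -M.lam y' := by
      have h2 : (g₂ * g₁) • b = b' := by rw [mul_smul, hg₂']
      have h3 : M.lam y = b ∨ M.lam y = -b := by
        rcases hb with e | e
        · exact Or.inl e.symm
        · right; rw [e, neg_neg]
      have h4 : (g₂ * g₁) • M.lam y = b' ∨ (g₂ * g₁) • M.lam y = -b' := by
        rcases h3 with e | e
        · left; rw [e, h2]
        · right; rw [e, co0_smul_neg, h2]
      have h5 : b' = M.lam y' ∨ b' = -M.lam y' := hb'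
      have pm : ∀ {s t : leechLattice}, (s = t ∨ s = -t) → ∀ {r : leechLattice}, (r = s ∨ r = -s) →
          (r = t ∨ r = -t) := by
        rintro s t (rfl | rfl) r (rfl | rfl)
        · exact Or.inl rfl
        · exact Or.inr rfl
        · exact Or.inr rfl
        · left; rw [neg_neg]
      exact pm h5 (pm h4 (pm (hpm (M.lam y)) (hA.act_lam y hy)))
    exact M.lam_inj y' hy' (α y) (hA.act_sh y hy) h1

/-- `TriData` for the orbit of the axis of type `2B`. -/
theorem triData (L : Lift M θ) (hp : Pr M pr) (hU : M.USpan) (h : Cls M pr d n) {j : J} {E : Set P}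
    {χ : P → ℚ} {c : ℚ} (h2 : TwoB M (d j) E χ c) : M.TriData {b | ∃ k ∈ M.K, b = k • d j} where
  stable := by
    rintro g hg _ ⟨k, hk, rfl⟩
    have hgu : ∀ v, g • M.u v = M.u v := by
      intro v
      refine KS.fix_span g ?_ _ (hU v)
      rintro w ⟨x, hx, rfl⟩
      exact M.fixLines_u g hg x hx
    exact h.orbit hp hgu j hk
  prod := by
    refine ⟨c ^ 3, pow_ne_zero 3 h2.c_ne, ?_⟩
    rintro _ ⟨k, hk, rfl⟩ x hx y hy hxy
    obtain ⟨A, α, T, hA⟩ := M.acts k⁻¹ (M.K.inv_mem hk)
    have h3 : ∀ t ∈ M.Sh, M.B (k • d j) (M.X t) = M.B (d j) (M.X (α t)) := by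
      intro t ht
      rw [M.B_smul_left, hA.act_X t ht]
    rw [h3 x hx, h3 y hy, h3 _ hxy, map_mul]
    exact h2.prod (hA.act_sh x hx) (hA.act_sh y hy) (by rw [← map_mul]; exact hA.act_sh _ hxy)
  cover := by
    intro x hx y hy hxy
    obtain ⟨x₀, hx₀, y₀, hy₀, hxy₀, n1, n2, n3⟩ := h2.tri
    obtain ⟨k, hk, A, α, T, hA, e1, e2⟩ := trans_tri L hx₀ hy₀ hxy₀ hx hy hxy
    refine ⟨k • d j, ⟨k, hk, rfl⟩, ?_⟩
    have e3 : Eqz M (α (x₀ * y₀)) (x * y) := by rw [map_mul]; exact e1.mul e2
    have h4 : ∀ s ∈ M.Sh, ∀ t ∈ M.Sh, Eqz M (α s) t → M.B (d j) (M.X s) ≠ 0 → M.B (k • d j) (M.X t) ≠ 0 := by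
      intro s hs t ht e hne h5
      apply hne
      rw [← M.B_inv k, hA.act_X s hs]
      rcases e with e | e
      · rw [e, h5]
      · rw [e, M.X_z t ht, map_neg, h5, neg_zero]
    exact mul_ne_zero (mul_ne_zero (h4 _ hx₀ _ hx e1 n1) (h4 _ hy₀ _ hy e2 n2)) (h4 _ hxy₀ _ hxy e3 n3)

/-! ### The element `τ` -/

/-- Vectors of the same norm with inner product of maximal absolute value are equal up to sign. -/
theorem eq_or_of_dot_sq {v w : leechLattice} (hn : nrm v = nrm w) (h : (dot v w) ^ 2 = (nrm w) ^ 2) :
    v = w ∨ v = -w := by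
  rcases sq_eq_sq_iff_eq_or_eq_neg.1 h with h1 | h1
  · left
    have h2 : nrm (v - w) = 0 := by rw [KSLat.nrm_sub, hn, h1]; ring
    exact sub_eq_zero.1 (Subtype.ext (sqNorm_eq_zero h2))
  · right
    have h2 : nrm (v + w) = 0 := by rw [KSLat.nrm_add, hn, h1]; ring
    exact eq_neg_of_add_eq_zero_left (Subtype.ext (sqNorm_eq_zero h2))

/-- `TauData` from explicit facts. -/
theorem tauData (hp : Pr M pr) (hU : M.USpan) (h : Cls M pr d n) {τ : G} {x₁ : P} {i₀ : GolayPt}
    {D : Subgroup G} {e : leechLattice} {j : J} {k₁ : G} (hx₁ : x₁ ∈ M.Sh) (hcube : τ * τ * τ = 1)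
    (hz : ∀ v, M.z • τ • M.u v = τ • M.u v) (hz' : ∀ v, M.z • τ⁻¹ • M.u v = τ⁻¹ • M.u v)
    (hX : M.z • τ • M.X x₁ = -(τ • M.X x₁))
    (h1 : ∀ w : leechLattice, M.B (τ • M.a x₁) (M.u w) =
      (nrm w : ℚ) / 256 + (((w : GolayPt → ℤ) i₀ : ℤ) : ℚ) ^ 2 / 32)
    (h2 : ∀ w : leechLattice, M.B (τ⁻¹ • M.a x₁) (M.u w) =
      (nrm w : ℚ) / 256 + (((w : GolayPt → ℤ) i₀ : ℤ) : ℚ) ^ 2 / 32)
    (he : (e : GolayPt → ℤ) = Pi.single i₀ 8)
    (hst : ∀ k ∈ M.K, ∀ A : Co0, (∀ v, k • M.u v = M.u (A • v)) → (A • e = e ∨ A • e = -e) → k ∈ D)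
    (hD : ∀ k ∈ D, τ⁻¹ * k * τ ∈ M.K ∨ τ * k * τ ∈ M.K) (hk₁ : k₁ ∈ M.K)
    (hj : τ • M.a x₁ = k₁ • d j) : M.TauData τ x₁ where
  mem := hx₁
  cube := hcube
  zτu := hz
  zτu' := hz'
  zτX := hX
  small := by
    intro v hv
    rw [M.B_comm, M.B_smul_left, M.B_comm, h2, hv]
    have h3 : ((v : GolayPt → ℤ) i₀) ^ 2 ≤ 32 := by
      have := sq_le_sqNorm (v : GolayPt → ℤ) i₀
      have h4 : sqNorm (v : GolayPt → ℤ) = 32 := hv
      rw [h4] at this
      exact this
    have h4 : (((v : GolayPt → ℤ) i₀ : ℤ) : ℚ) ^ 2 ≤ 32 := by exact_mod_cast h3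
    push_cast
    linarith
  conj := by
    intro k hk hB
    obtain ⟨A, α, T, hA⟩ := M.acts k hk
    apply hD k
    refine hst k hk A hA.act_u ?_
    -- inner products with `e`
    have hdot : ∀ w : leechLattice, (dot e w : ℤ) = 8 * (w : GolayPt → ℤ) i₀ := by
      intro w
      show dotInt (e : GolayPt → ℤ) (w : GolayPt → ℤ) = _
      rw [he]
      unfold dotInt
      rw [Finset.sum_eq_single i₀]
      · rw [Pi.single_eq_same]
      · intro i _ hi
        rw [Pi.single_eq_of_ne hi, zero_mul]
      · intro hi; exact absurd (Finset.mem_univ _) hi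
    have key : ∀ w : leechLattice, (dot (A • e) w) ^ 2 = (dot e w) ^ 2 := by
      intro w
      have h3 := hB w
      have h4 : k⁻¹ • M.u w = M.u (A⁻¹ • w) := by
        rw [inv_smul_eq_iff, hA.act_u, smul_inv_smul]
      rw [M.B_smul_left k, h4, h1, h1, nrm_smul] at h3
      have h5 : (((A⁻¹ • w : leechLattice) : GolayPt → ℤ) i₀) ^ 2 = ((w : GolayPt → ℤ) i₀) ^ 2 := by
        have : ((((A⁻¹ • w : leechLattice) : GolayPt → ℤ) i₀ : ℤ) : ℚ) ^ 2 =
            (((w : GolayPt → ℤ) i₀ : ℤ) : ℚ) ^ 2 := by linarith
        exact_mod_cast this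
      have h6 : dot (A • e) w = dot e (A⁻¹ • w) := by
        have := dot_smul A e (A⁻¹ • w)
        rw [smul_inv_smul] at this
        exact this
      rw [h6, hdot, hdot, mul_pow, mul_pow, h5]
    apply eq_or_of_dot_sq (nrm_smul A e)
    rw [key e, KS.dot_self]
  orbit := by
    intro g hg
    have hgu : ∀ v, g • M.u v = M.u v := M.fixS_u hU g hg
    obtain ⟨k', hk', e'⟩ := h.orbit hp hgu j hk₁
    refine ⟨k' * k₁⁻¹, M.K.mul_mem hk' (M.K.inv_mem hk₁), ?_⟩
    rw [hj, e', mul_smul, inv_smul_smul]

/-! ### Connectivity -/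

/-- The elements of `K` linked with `1`. -/
def Lk (M : KS G V P W) (w : V) : Subgroup G where
  carrier := {k | k ∈ M.K ∧ ∀ ε : G → ℚ,
    (∀ k ∈ M.K, ∀ k' ∈ M.K, M.B (k • w) (k' • w) ≠ 0 → ε k = ε k') → ε k = ε 1}
  mul_mem' := by
    rintro a b ⟨ha, ha'⟩ ⟨hb, hb'⟩
    refine ⟨M.K.mul_mem ha hb, fun ε hε => ?_⟩
    have h1 := hb' (fun g => ε (a * g)) (fun k hk k' hk' hne => by
      refine hε _ (M.K.mul_mem ha hk) _ (M.K.mul_mem ha hk') ?_
      rw [mul_smul, mul_smul, M.B_inv]
      exact hne)
    have h2 : ε (a * b) = ε (a * 1) := h1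
    rw [h2, mul_one]
    exact ha' ε hε
  one_mem' := ⟨M.K.one_mem, fun _ _ => rfl⟩
  inv_mem' := by
    rintro a ⟨ha, ha'⟩
    refine ⟨M.K.inv_mem ha, fun ε hε => ?_⟩
    have h1 := ha' (fun g => ε (a⁻¹ * g)) (fun k hk k' hk' hne => by
      refine hε _ (M.K.mul_mem (M.K.inv_mem ha) hk) _ (M.K.mul_mem (M.K.inv_mem ha) hk') ?_
      rw [mul_smul, mul_smul, M.B_inv]
      exact hne)
    have h2 : ε (a⁻¹ * a) = ε (a⁻¹ * 1) := h1
    rw [inv_mul_cancel, mul_one] at h2
    exact h2.symm

theorem mem_Lk_of {w : V} {h g : G} (hh : h ∈ Lk M w) (hg : g ∈ M.K) (hne : M.B (h • w) (g • w) ≠ 0) :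
    g ∈ Lk M w :=
  ⟨hg, fun ε hε => (hε h hh.1 g hg hne).symm.trans (hh.2 ε hε)⟩

end Cfsg.Agent.MonsterX.KRigid
end

-- part: MonsterX/KSpanAbs
section
/-!
# The span of the orbit of a unit vector of the tensor part, abstract form

`mem_of_mem`: a `K`-invariant subspace containing one vector `Θ f₀ (8 e_i)` with `f₀` cyclic contains all `Θ f v`.
`preserves_of_smul`: an element of `Co0` mapping `8 e_i` to `± 8 e_i` preserves the standard frame.
-/

set_option autoImplicit false

namespace Cfsg.Agent.MonsterX.KSpanAbs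

open Cfsg Cfsg.Agent.MonsterX.KSide Cfsg.Agent.MonsterX.KLift
  Cfsg.Agent.Monster.PauliBasic Cfsg.Agent.Monster.PauliRep Cfsg.Agent.LeechMat.Core
open Cfsg.Agent.SporadicA.Co0Mono (permCo0 permCo0_smul)
open Cfsg.Agent.SporadicStructure.Co0Base (e8 e8_coe)

/-- `Co0` is transitive on the vectors `8 e_i`. -/
theorem exists_e8 (i j : GolayPt) : ∃ A : Co0, A • e8 i = e8 j := by
  have htr : MulAction.IsPretransitive M24 GolayPt := by
    have h5 := Cfsg.Agent.SporadicA.M24Trans.five_transitive
    have : MulAction.IsMultiplyPretransitive M24 GolayPt 1 :=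
      MulAction.isMultiplyPretransitive_of_le (n := 5) (by norm_num) (by
        rw [Nat.card_eq_fintype_card]; decide)
    exact MulAction.is_one_pretransitive_iff.1 this
  obtain ⟨σ, hσ⟩ := MulAction.exists_smul_eq M24 i j
  refine ⟨permCo0 σ, ?_⟩
  apply Subtype.ext
  funext p
  rw [permCo0_smul]
  show (Pi.single i 8 : GolayPt → ℤ) ((σ : Equiv.Perm GolayPt).symm p) = (Pi.single j 8 : GolayPt → ℤ) p
  have h : (σ : Equiv.Perm GolayPt) i = j := hσ
  rw [Pi.single_apply, Pi.single_apply]
  by_cases hp : p = j
  · rw [if_pos hp, if_pos]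
    rw [hp, ← h, Equiv.symm_apply_apply]
  · rw [if_neg hp, if_neg]
    intro h'
    apply hp
    rw [← h, ← h', Equiv.apply_symm_apply]

theorem rat_e8 (i : GolayPt) : rat (e8 i) = (8 : ℚ) • Pi.single i 1 := by
  funext p
  show (((Pi.single i 8 : GolayPt → ℤ) p : ℤ) : ℚ) = (8 : ℚ) * (Pi.single i 1 : GolayPt → ℚ) p
  rw [Pi.single_apply, Pi.single_apply]
  split_ifs <;> norm_num

section

variable {G V P W : Type*} [Group G] [AddCommGroup V] [Module ℚ V]
  [DistribMulAction G V] [SMulCommClass G ℚ V] [Group P] [AddCommGroup W] [Module ℚ W]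

/-- A `K`-invariant subspace containing a vector `Θ f₀ (8 e_i)` with `f₀` cyclic contains all `Θ f v`. -/
theorem mem_of_mem (M : KS G V P W) {f₀ : W} (hf₀ : Submodule.span ℚ (Set.range fun p => M.ρ p f₀) = ⊤)
    (N : Submodule ℚ V) (hN : ∀ k ∈ M.K, ∀ v ∈ N, k • v ∈ N) {i₀ : GolayPt}
    (h₀ : M.Θ f₀ (rat (e8 i₀)) ∈ N) (f : W) (v : GolayPt → ℚ) : M.Θ f v ∈ N := by
  have h1 : ∀ f, M.Θ f (rat (e8 i₀)) ∈ N := by
    intro f
    have hf : f ∈ Submodule.span ℚ (Set.range fun p => M.ρ p f₀) := by rw [hf₀]; trivial
    induction hf using Submodule.span_induction with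
    | mem x hx =>
      obtain ⟨p, rfl⟩ := hx
      show M.Θ (M.ρ p f₀) _ ∈ N
      rw [← M.ι_Θ]
      exact hN _ (M.ι_mem p) _ h₀
    | zero => rw [map_zero, LinearMap.zero_apply]; exact N.zero_mem
    | add x y _ _ hx hy => rw [map_add, LinearMap.add_apply]; exact N.add_mem hx hy
    | smul c x _ hx => rw [map_smul, LinearMap.smul_apply]; exact N.smul_mem _ hx
  have h2 : ∀ j f, M.Θ f (rat (e8 j)) ∈ N := by
    intro j f
    obtain ⟨A, hA⟩ := exists_e8 j i₀
    obtain ⟨k, hk, α, T, A', hacts, hpm⟩ := exists_acts M A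
    have h3 : k • M.Θ f (rat (e8 j)) ∈ N := by
      rw [hacts.act_Θ]
      rcases hpm (e8 j) with e | e <;> rw [e, hA]
      · exact h1 _
      · rw [rat_neg, map_neg]
        exact N.neg_mem (h1 _)
    have h4 := hN k⁻¹ (M.K.inv_mem hk) _ h3
    rwa [inv_smul_smul] at h4
  have h3 : v = ∑ i, (v i / 8) • rat (e8 i) := by
    funext p
    rw [Finset.sum_apply]
    rw [Finset.sum_eq_single p]
    · rw [rat_e8, Pi.smul_apply, Pi.smul_apply, Pi.single_eq_same]
      simp only [smul_eq_mul]
      ring
    · intro q _ hq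
      rw [rat_e8, Pi.smul_apply, Pi.smul_apply, Pi.single_eq_of_ne (Ne.symm hq), smul_zero, smul_zero]
    · intro h; exact absurd (Finset.mem_univ _) h
  rw [h3, map_sum]
  refine N.sum_mem fun i _ => ?_
  rw [map_smul]
  exact N.smul_mem _ (h2 i f)

/-- The form with the orbit of a vector. -/
theorem mem_span_orbit (M : KS G V P W) {f₀ : W} (hf₀ : Submodule.span ℚ (Set.range fun p => M.ρ p f₀) = ⊤)
    {i₀ : GolayPt} {w : V} {c : ℚ} (hc : c ≠ 0) (hw : w = c • M.Θ f₀ (rat (e8 i₀))) (f : W) (v : GolayPt → ℚ) :
    M.Θ f v ∈ Submodule.span ℚ {t | ∃ k ∈ M.K, t = k • w} := by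
  refine mem_of_mem M hf₀ _ ?_ (i₀ := i₀) ?_ f v
  · intro k hk x hx
    induction hx using Submodule.span_induction with
    | mem x hx =>
      obtain ⟨l, hl, rfl⟩ := hx
      exact Submodule.subset_span ⟨k * l, M.K.mul_mem hk hl, by rw [mul_smul]⟩
    | zero => rw [smul_zero]; exact Submodule.zero_mem _
    | add x y _ _ hx hy => rw [smul_add]; exact Submodule.add_mem _ hx hy
    | smul c x _ hx => rw [smul_comm]; exact Submodule.smul_mem _ _ hx
  · have h1 : w ∈ Submodule.span ℚ {t | ∃ k ∈ M.K, t = k • w} :=
      Submodule.subset_span ⟨1, M.K.one_mem, by rw [one_smul]⟩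
    have h2 : M.Θ f₀ (rat (e8 i₀)) = c⁻¹ • w := by
      rw [hw, smul_smul, inv_mul_cancel₀ hc, one_smul]
    rw [h2]
    exact Submodule.smul_mem _ _ h1

end

/-! ### Unit vectors are cyclic for the Pauli group -/

/-- The images of a unit vector under the Pauli group span. -/
theorem cyclic {n : ℕ} (b : B n) {ρ : Pauli n →* Module.End ℚ (B n → ℚ)} (hρ : ∀ p f, ρ p f = rho ℚ p f) :
    Submodule.span ℚ (Set.range fun p => ρ p (Pi.single b 1)) = ⊤ := by
  rw [eq_top_iff]
  intro f _
  have h : f = ∑ e, f e • Pi.single e (1 : ℚ) := by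
    funext t
    rw [Finset.sum_apply, Finset.sum_eq_single t]
    · rw [Pi.smul_apply, Pi.single_eq_same, smul_eq_mul, mul_one]
    · intro q _ hq
      rw [Pi.smul_apply, Pi.single_eq_of_ne (Ne.symm hq), smul_zero]
    · intro h; exact absurd (Finset.mem_univ _) h
  rw [h]
  refine Submodule.sum_mem _ fun e _ => Submodule.smul_mem _ _ (Submodule.subset_span ⟨⟨0, b + e, 0⟩, ?_⟩)
  show ρ _ _ = _
  rw [hρ, rho_single]
  have h1 : b + (b + e) = e := by rw [add_comm b e, add_comm b, add_add_cancel]
  show Pi.single (b + (b + e)) _ = _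
  rw [h1]
  congr 1
  show sg ℚ (0 + (0 : B n) ⬝ᵥ b) * 1 = 1
  rw [zero_dotProduct, add_zero, sg_zero, one_mul]

/-! ### Stabilisers of `8 e_i` up to sign -/

open Cfsg.Agent.SporadicA.Co0Card Cfsg.Agent.MonsterX.FrameStab Cfsg.Agent.SporadicStructure.StdCross in
/-- An element of `Co0` mapping `8 e_i` to `± 8 e_i` preserves the standard frame. -/
theorem preserves_of_smul {A : Co0} {e : leechLattice} {i : GolayPt} (he : (e : GolayPt → ℤ) = Pi.single i 8)
    (h : A • e = e ∨ A • e = -e) : PreservesCross A := by
  apply preserves_of_congr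
  have he' : e = e8 i := Subtype.ext he
  obtain ⟨x, hx⟩ := Cfsg.Agent.SporadicA.Co1Simple.e8_sub none i
  have h0 : v0 = e + 2 • x := by
    rw [he']
    exact (show v0 = e8 none from rfl).trans hx
  have h1 : A • v0 = A • e + 2 • (A • x) := by
    rw [h0, co0_smul_add, two_smul, co0_smul_add, ← two_smul ℕ]
  rcases h with h | h
  · refine ⟨x - A • x, ?_⟩
    rw [h1, h, smul_sub, h0]
    abel
  · refine ⟨e + x - A • x, ?_⟩
    rw [h1, h, smul_sub, smul_add, h0]
    rw [two_smul ℕ e]
    abel

end Cfsg.Agent.MonsterX.KSpanAbs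
end

-- part: MonsterX/KStabSpan
section
/-!
# Field `stab` of the concrete model: the span and the stabiliser of `8 e_i`

* `d2_hi`: the part of `d 2` in the tensor lanes is `2` times the unit vector of the lane `180163`;
* `w_eq`: `d 2 - z d 2 = (1/2) Θ f₀ (8 e_i)`, `f₀` a unit vector, `i` the point of the slot `3`;
* `span`: the field `span` of `ConnData` for `w = d 2 - z d 2`; `X_span`: the field of `MOrbit`;
* `hst`: an element of `C` which induces an element of `Co0` mapping `8 e_i` to `± 8 e_i` is in `N`.
-/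

set_option autoImplicit false
set_option maxRecDepth 100000

namespace Cfsg.Agent.MonsterX.KStabSpan

open Cfsg Cfsg.Agent.Monster.VecEngine Cfsg.Agent.Monster Cfsg.Agent.Monster.VecSpace
open Cfsg.Agent.MonsterX.ProgBase Cfsg.Agent.MonsterX.ProgTable Cfsg.Agent.MonsterX.Space
open Cfsg.Agent.MonsterX.InstData Cfsg.Agent.MonsterX.InstEval Cfsg.Agent.MonsterX.Conc
open Cfsg.Agent.Monster.PauliBasic Cfsg.Agent.Monster.PauliRep Cfsg.Agent.Monster.TensorProg
open Cfsg.Agent.MonsterX.KRows Cfsg.Agent.MonsterX.KSide Cfsg.Agent.MonsterX.KLift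
open Cfsg.Agent.SporadicStructure.Co0Base (e8 e8_coe)

/-! ### The tensor part of `d 2` -/

theorem UW_bl : UW.testBit 180163 = true := by
  rw [testBit_UW]; decide

/-- The lane of the tensor part of `d 2`. -/
noncomputable def bl : Lane U := ⟨180163, U_of_UW UW_bl⟩

/-- The planes of `2 ^ 8` times the unit vector of the lane `180163`. -/
noncomputable def target : Pl := up 8 (.cons (Nat.shiftLeft 1 180163) (.sgn 0))

theorem run_d2 : runL ((bj 2).map prog) (up 7 a0B) (fun y => eqP (norm (msk ProgZ.hiM y)) target) = true :=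
  Cfsg.Agent.Monster.VecFast.runL_of (by decide +kernel)

theorem val_target (i : ℕ) : val target i = if i = 180163 then 256 else 0 := by
  unfold target
  rw [val_up, val_cons, val_sgn]
  unfold bt
  rw [tb_single]
  by_cases h : i = 180163
  · subst h; norm_num
  · simp [h]

/-- The tensor part of `d 2`. -/
theorem d2_hi (i : Lane U) (hi : ProgZ.hiM.testBit i.1 = true) :
    (InstData.d 2 : Lane U → ℚ) i = if i.1 = 180163 then 2 else 0 := by
  obtain ⟨y, hy, hk⟩ := run_coe (n := 7) (w := bj 2) sym_a0B run_d2
  have h1 : (2 : ℚ) ^ 7 * (InstData.d 2 : Lane U → ℚ) i = ((val y i.1 : ℤ) : ℚ) := hy i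
  have h2 : val y i.1 = if i.1 = 180163 then 256 else 0 := by
    have h3 := val_msk ProgZ.hiM y i.1
    rw [if_pos hi] at h3
    rw [← h3, ← val_norm, eq_of_eqP hk, val_target]
  rw [h2] at h1
  by_cases h : i.1 = 180163
  · rw [if_pos h] at h1 ⊢
    push_cast at h1
    linarith
  · rw [if_neg h] at h1 ⊢
    push_cast at h1
    linarith

/-- `d 2 - z d 2` is `4` times a unit vector. -/
theorem sub_z : InstData.d 2 - Conc.z (InstData.d 2) = (4 : ℚ) • (⟨e1 bl, by
    rw [← Θ_single bl UW_bl]; exact (Θ _ _).2⟩ : V) := by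
  apply Subtype.ext
  funext i
  show (InstData.d 2 : Lane U → ℚ) i - (Conc.z (InstData.d 2) : Lane U → ℚ) i = 4 * e1 bl i
  rw [z_apply]
  by_cases hi : ProgZ.hiM.testBit i.1 = true
  · rw [if_pos hi]
    show (InstData.d 2 : Lane U → ℚ) i - -(InstData.d 2 : Lane U → ℚ) i = _
    rw [d2_hi i hi]
    unfold e1
    by_cases h : i.1 = 180163
    · have h1 : i = bl := Subtype.ext h
      rw [if_pos h, if_pos h1]; norm_num
    · have h1 : ¬ i = bl := fun h' => h (congrArg Subtype.val h')
      rw [if_neg h, if_neg h1]; norm_num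
  · rw [if_neg hi, sub_self]
    unfold e1
    rw [if_neg, mul_zero]
    intro h
    apply hi
    rw [h]
    exact KLinkInst.hi_of_UW UW_bl

/-- The unit vector in the spin space. -/
noncomputable def f₀ : B 12 → ℚ := Pi.single (PauliBits.vec 12 (180163 / 32)) 1

/-- The point. -/
def i₀ : GolayPt := ptS 3

/-- `w = d 2 - z d 2`. -/
noncomputable def w : V := InstData.M.d (2 : Fin 12) - KDone.K.z • InstData.M.d (2 : Fin 12)

theorem w_eq : w = (1 / 2 : ℚ) • KDone.K.Θ f₀ (rat (e8 i₀)) := by
  have h1 : w = InstData.d 2 - Conc.z (InstData.d 2) := by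
    have h2 : Conc.z = ((KDone.K.z : InstData.M.G) : V ≃ₗ[ℚ] V) := KDone.lnk.z_eq
    rw [h2]
    rfl
  rw [h1, sub_z, KSpanAbs.rat_e8, map_smul, smul_smul]
  have h3 : (1 / 2 : ℚ) * 8 = 4 := by norm_num
  rw [h3]
  congr 1
  apply Subtype.ext
  exact (Θ_single bl UW_bl).symm

theorem w_ne : w ≠ 0 := by
  intro h
  have h1 : w = InstData.d 2 - Conc.z (InstData.d 2) := by
    have h2 : Conc.z = ((KDone.K.z : InstData.M.G) : V ≃ₗ[ℚ] V) := KDone.lnk.z_eq
    rw [h2]
    rfl
  rw [h1, sub_z] at h
  have h2 := congrArg (fun x : V => x.1 bl) h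
  have h3 : (4 : ℚ) * e1 bl bl = 0 := h2
  unfold e1 at h3
  rw [if_pos rfl] at h3
  norm_num at h3

/-- **The field `span` of `ConnData`.** -/
theorem span (f : B 12 → ℚ) (v : leechLattice) :
    KDone.K.Θ f (rat v) ∈ Submodule.span ℚ {t | ∃ k ∈ KDone.K.K, t = k • w} :=
  KSpanAbs.mem_span_orbit KDone.K (KSpanAbs.cyclic _ fun _ _ => rfl) (by norm_num) w_eq f (rat v)

/-- **The field `X_span` of `MOrbit`.** -/
theorem X_span : Submodule.span ℚ InstData.M.X = ⊤ :=
  KSLatModel.X_span KDone.lnk KDone.lft InstData.d_j₀ (InstData.M.d (2 : Fin 12))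
    ⟨(2 : Fin 12), 1, InstData.M.C.one_mem, rfl⟩ span

/-! ### The stabiliser of `8 e_i` up to sign -/

/-- **The hypothesis `hst` of `tauData`.** -/
theorem hst {e : leechLattice} {i : GolayPt} (he : (e : GolayPt → ℤ) = Pi.single i 8) (k : InstData.M.G)
    (hk : k ∈ KDone.K.K) (A : Co0) (hA : ∀ v, k • KDone.K.u v = KDone.K.u (A • v))
    (h : A • e = e ∨ A • e = -e) : k ∈ Conc.N.subgroupOf InstData.M.G := by
  obtain ⟨m, hm, hmA⟩ := UOnto.onto_N A (KSpanAbs.preserves_of_smul he h)
  rw [Subgroup.mem_subgroupOf]
  have hkC : (k : V ≃ₗ[ℚ] V) ∈ Conc.C := Subgroup.mem_subgroupOf.1 hk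
  have h1 : m⁻¹ * (k : V ≃ₗ[ℚ] V) ∈ Conc.Q := by
    apply KDone.ker_C _ (Conc.C.mul_mem (Conc.C.inv_mem (Conc.N_le_C hm)) hkC)
    intro v
    have h2 : (k : V ≃ₗ[ℚ] V) (USide.u v) = m (USide.u v) := (hA v).trans (hmA v).symm
    rw [LinearEquiv.mul_apply, h2, ← LinearEquiv.mul_apply, inv_mul_cancel]
    rfl
  have h3 := Conc.N.mul_mem hm (Conc.Q_le_N h1)
  rwa [mul_inv_cancel_left] at h3

end Cfsg.Agent.MonsterX.KStabSpan
end
end
end
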