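import Cfsg.Agent.MonsterX.ProgEqBase_m3
import Cfsg.Agent.MonsterX.FrameStab
import Cfsg.Agent.Leech.Xi
import Cfsg.Agent.SporadicA.GolayBase
import Cfsg.Agent.S1572
import Cfsg.Agent.MonsterX.FrameInst
import Cfsg.Agent.MonsterX.KSide
import Cfsg.Agent.MonsterX.Space_m3
import Cfsg.Agent.MonsterX.CertPairs_m3
import Cfsg.Agent.FastGrp
import Cfsg.Agent.Prune
set_option linter.all false

section
prune_inst 0x7f00000000000000000000000000000000000000000000000000000000000000000000000000000000000000000000000000000000000000000000000000000000000000000000000000000000000000003fffffffffffffffffffffffffffbeffbdffffffff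

-- part: MonsterX/USide
section
set_option linter.all false
open scoped Cfsg.Agent.FastGrp

-- part: MonsterX/MatAct
section
/-!
# The action of the letters `0 … 39` on the `24 × 24` symmetric matrices

`un a b` is the unit vector of the matrix entry `(a, b)` (numbers of points `< 24`).  `chk P sc nz ng` is a kernel check
which shows `P (4 ^ sc • un a b) = ∑ c(a,a') c(b,b') • un a' b'`, where `c(a,a')` is `0`, `1` or `-1`.
-/

set_option autoImplicit false
set_option maxRecDepth 100000

namespace Cfsg.Agent.MonsterX.MatAct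

open Cfsg.Agent.Lib.PermNet Cfsg.Agent.Monster.VecEngine Cfsg.Agent.Monster Cfsg.Agent.Monster.VecSpace
open Cfsg.Agent.MonsterX.ProgBase Cfsg.Agent.MonsterX.Space

/-! ### Loops -/

/-- Check `f k` for all `k < m`. -/
noncomputable def all (m : ℕ) (f : ℕ → Bool) : Bool :=
  Nat.rec (motive := fun _ => Bool) true (fun k ih => and (f k) ih) m

theorem all_spec {m : ℕ} {f : ℕ → Bool} (h : all m f = true) {k : ℕ} (hk : k < m) : f k = true := by
  induction m with
  | zero => omega
  | succ m ih =>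
    have h' : and (f m) (all m f) = true := h
    rw [Bool.and_eq_true] at h'
    rcases Nat.lt_succ_iff_lt_or_eq.1 hk with h1 | rfl
    · exact ih h'.2 h1
    · exact h'.1

/-- Add the vectors given by `g j`, `j < m`, `nz j`. -/
noncomputable def foldK (m : ℕ) (nz : ℕ → Bool) (g : ℕ → Pl → (Pl → Bool) → Bool) : Pl → (Pl → Bool) → Bool :=
  Nat.rec (motive := fun _ => Pl → (Pl → Bool) → Bool) (fun x k => k x)
    (fun j ih x k => Bool.rec (ih x k) (g j x fun y => ih y k) (nz j)) m

theorem foldK_sound {m : ℕ} {nz : ℕ → Bool} {g : ℕ → Pl → (Pl → Bool) → Bool} {G : ℕ → ℕ → ℚ}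
    (hg : ∀ j x k, g j x k = true → ∃ y, vec ℚ y = vec ℚ x + G j ∧ k y = true) (x : Pl) (k : Pl → Bool)
    (h : foldK m nz g x k = true) :
    ∃ y, vec ℚ y = vec ℚ x + ∑ j ∈ Finset.range m, (if nz j then G j else 0) ∧ k y = true := by
  induction m generalizing x with
  | zero => exact ⟨x, by simp, h⟩
  | succ m ih =>
    have h' : (Bool.rec (foldK m nz g x k) (g m x fun y => foldK m nz g y k) (nz m) : Bool) = true := h
    rw [Finset.sum_range_succ]
    cases hn : nz m with
    | false =>
      rw [hn] at h'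
      obtain ⟨y, hy, hk⟩ := ih x h'
      exact ⟨y, by rw [hy]; simp, hk⟩
    | true =>
      rw [hn] at h'
      obtain ⟨y, hy, hk⟩ := hg m x _ h'
      obtain ⟨y', hy', hk'⟩ := ih y hk
      exact ⟨y', by rw [hy', hy]; simp; abel, hk'⟩

/-! ### Unit vectors -/

/-- The slots of the points. -/
def slotT : List ℕ := [0, 1, 2, 3, 4, 8, 12, 5, 16, 13, 6, 14, 7, 20, 9, 17, 18, 10, 21, 19, 22, 23, 15, 11]

/-- The lane of the matrix entry `(a, b)`. -/
def ln (a b : ℕ) : ℕ := 61440 + (32 * slotT.getD a 0 + slotT.getD b 0)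

/-- The unit plane. -/
noncomputable def bp (a b : ℕ) : ℕ := Nat.shiftLeft 1 (ln a b)

/-- The unit vector of the matrix entry `(a, b)`. -/
def un (a b : ℕ) : ℕ → ℚ := fun i => if i = ln a b then 1 else 0

theorem testBit_bp (a b i : ℕ) : (bp a b).testBit i = decide (i = ln a b) := by
  show (1 <<< ln a b).testBit i = _
  rw [Nat.one_shiftLeft, Nat.testBit_two_pow]
  by_cases h : i = ln a b
  · subst h; simp
  · simp [h, Ne.symm h]

/-- Plus or minus the unit vector, as planes. -/
noncomputable def sgnP (a b : ℕ) (s : Bool) : Pl := Bool.rec (.cons (bp a b) (.sgn 0)) (.sgn (bp a b)) s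

theorem bt_bp (a b i : ℕ) : (bt (bp a b) i : ℚ) = un a b i := by
  unfold bt un
  rw [testBit_bp]
  by_cases h : i = ln a b <;> simp [h]

theorem bt_zero (i : ℕ) : bt 0 i = 0 := by simp [bt]

theorem vec_sgnP (a b : ℕ) (s : Bool) : vec ℚ (sgnP a b s) = (if s then (-1 : ℚ) else 1) • un a b := by
  funext i
  cases s
  · show ((bt (bp a b) i + 2 * -bt 0 i : ℤ) : ℚ) = _
    rw [bt_zero]
    push_cast
    rw [bt_bp]
    simp
  · show ((-bt (bp a b) i : ℤ) : ℚ) = _
    push_cast
    rw [bt_bp]
    simp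

/-- Add `±` a unit vector. -/
noncomputable def stp (a b : ℕ) (s : Bool) (x : Pl) (k : Pl → Bool) : Bool := go (add (sgnP a b s) x 0) k

theorem stp_sound {a b : ℕ} {s : Bool} {x : Pl} {k : Pl → Bool} (h : stp a b s x k = true) :
    ∃ y, vec ℚ y = vec ℚ x + (if s then (-1 : ℚ) else 1) • un a b ∧ k y = true := by
  have h' : go (add (sgnP a b s) x 0) k = true := h
  rw [go_eq] at h'
  refine ⟨_, ?_, h'⟩
  rw [vec_norm, ← vec_sgnP]
  funext i
  show ((val (add (sgnP a b s) x 0) i : ℤ) : ℚ) = (val x i : ℚ) + (val (sgnP a b s) i : ℚ)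
  rw [val_add, bt_zero]
  push_cast
  ring

/-- The vector `4 ^ sc` times a unit vector. -/
noncomputable def start (a b : ℕ) (sc : Bool) : Pl :=
  Bool.rec (.cons (bp a b) (.sgn 0)) (.cons 0 (.cons 0 (.cons (bp a b) (.sgn 0)))) sc

theorem vec_start (a b : ℕ) (sc : Bool) : vec ℚ (start a b sc) = (if sc then (4 : ℚ) else 1) • un a b := by
  funext i
  cases sc
  · show ((bt (bp a b) i + 2 * -bt 0 i : ℤ) : ℚ) = _
    rw [bt_zero]
    push_cast
    rw [bt_bp]
    simp
  · show ((bt 0 i + 2 * (bt 0 i + 2 * (bt (bp a b) i + 2 * -bt 0 i)) : ℤ) : ℚ) = _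
    rw [bt_zero]
    push_cast
    rw [bt_bp]
    simp
    ring

/-- The coefficient `0`, `1` or `-1`. -/
def cf (nz ng : Bool) : ℚ := if nz then (if ng then -1 else 1) else 0

/-- The check for one matrix entry. -/
noncomputable def chk1 (P : Prog) (sc : Bool) (nz ng : ℕ → ℕ → Bool) (a b : ℕ) : Bool :=
  Monster.VecFast.runF P (start a b sc) fun y => foldK 24 (nz a) (fun a' => foldK 24 (nz b) fun b' =>
    stp a' b' (xor (ng a a') (ng b b'))) (.sgn 0) fun z => eqP (norm y) (norm z)

theorem chk1_sound {m : ℕ} {P : Prog} (hP : P.ok m = true) {sc : Bool} {nz ng : ℕ → ℕ → Bool} {a b : ℕ}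
    (h : chk1 P sc nz ng a b = true) :
    sem ℚ P ((if sc then (4 : ℚ) else 1) • un a b) =
      ∑ a' ∈ Finset.range 24, ∑ b' ∈ Finset.range 24, (cf (nz a a') (ng a a') * cf (nz b b') (ng b b')) • un a' b' := by
  obtain ⟨y, hy, hk⟩ := run_sound ℚ two_ne_zero P hP _ _ (Monster.VecFast.run_of h)
  obtain ⟨z, hz, hk'⟩ := foldK_sound (G := fun a' => ∑ b' ∈ Finset.range 24,
      if nz b b' then (if xor (ng a a') (ng b b') then (-1 : ℚ) else 1) • un a' b' else 0)
    (fun a' x k hx => foldK_sound (G := fun b' => (if xor (ng a a') (ng b b') then (-1 : ℚ) else 1) • un a' b')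
      (fun b' x k hx => stp_sound hx) x k hx) _ _ hk
  rw [vec_start] at hy
  rw [← hy, ← vec_norm ℚ y, eq_of_eqP hk', vec_norm, hz]
  have h0 : vec ℚ (.sgn 0) = 0 := by
    funext i
    show ((-bt 0 i : ℤ) : ℚ) = 0
    rw [bt_zero]; simp
  rw [h0, zero_add]
  refine Finset.sum_congr rfl fun a' _ => ?_
  unfold cf
  cases nz a a'
  · simp
  · simp only [if_true]
    refine Finset.sum_congr rfl fun b' _ => ?_
    cases nz b b' <;> cases ng a a' <;> cases ng b b' <;> simp

/-- The check for all matrix entries. -/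
noncomputable def chk (P : Prog) (sc : Bool) (nz ng : ℕ → ℕ → Bool) : Bool :=
  all 24 fun a => all 24 fun b => chk1 P sc nz ng a b

/-! ### One run for a monomial program -/

private noncomputable def monoPU51 (P : Prog) : Bool :=
  Prog.rec (motive := fun _ => Bool) true (fun _ _ ih => ih) (fun _ _ ih => ih) (fun _ _ _ => false)
    (fun _ _ => false) (fun _ _ _ _ => false) P

private theorem monoP_semU51 (P : Prog) (hm : monoPU51 P = true) :
    ∃ (e : Equiv.Perm ℕ) (s : ℕ → Bool), ∀ (f : ℕ → ℚ) (i : ℕ), sem ℚ P f i = if s i then - f (e i) else f (e i) := by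
  induction P with
  | nil => exact ⟨1, fun _ => false, fun f i => rfl⟩
  | perm N P ih =>
    obtain ⟨e, s, h1⟩ := ih hm
    refine ⟨N.perm * e, s, fun f i => ?_⟩
    show sem ℚ P (lcomp ℚ N.perm f) i = _
    rw [h1]; rfl
  | neg M P ih =>
    obtain ⟨e, s, h1⟩ := ih hm
    refine ⟨e, fun i => xor (s i) (M.testBit (e i)), fun f i => ?_⟩
    show sem ℚ P (lneg ℚ M f) i = _
    rw [h1]
    show (if s i = true then -(if M.testBit (e i) = true then - f (e i) else f (e i)) else
      if M.testBit (e i) = true then - f (e i) else f (e i)) = _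
    cases hs : s i <;> cases hM : M.testBit (e i) <;> simp [hs, hM]
  | dbl M P ih => exact absurd (show false = true from hm) (by simp)
  | half P ih => exact absurd (show false = true from hm) (by simp)
  | bfly M d P ih => exact absurd (show false = true from hm) (by simp)

private noncomputable def uNU51 (y : Pl) (i : ℕ) : ℕ :=
  Pl.rec (motive := fun _ => ℕ) (fun _ => 0) (fun p _ ih => Nat.add (Nat.land (Nat.shiftRight p i) 1) (Nat.mul 2 ih)) y

private noncomputable def mNU51 (y : Pl) (i : ℕ) : ℕ :=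
  Pl.rec (motive := fun _ => ℕ) (fun s => Nat.land (Nat.shiftRight s i) 1) (fun _ _ ih => Nat.mul 2 ih) y

private theorem bt_NU51 (p i : ℕ) : bt p i = ((Nat.land (Nat.shiftRight p i) 1 : ℕ) : ℤ) := by
  have h : Nat.land (Nat.shiftRight p i) 1 = (p.testBit i).toNat := by
    show (p >>> i) &&& 1 = _
    rw [Nat.and_one_is_mod, Nat.shiftRight_eq_div_pow, Nat.toNat_testBit]
  rw [h]
  unfold bt
  cases p.testBit i <;> rfl

private theorem val_NU51 (y : Pl) (i : ℕ) : val y i = (uNU51 y i : ℤ) - (mNU51 y i : ℤ) := by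
  induction y with
  | sgn s =>
    show -bt s i = ((0 : ℕ) : ℤ) - ((Nat.land (Nat.shiftRight s i) 1 : ℕ) : ℤ)
    rw [bt_NU51, Nat.cast_zero, zero_sub]
  | cons p L ih =>
    show bt p i + 2 * val L i = ((Nat.land (Nat.shiftRight p i) 1 + 2 * uNU51 L i : ℕ) : ℤ) - ((2 * mNU51 L i : ℕ) : ℤ)
    rw [bt_NU51, ih]
    push_cast
    ring

private noncomputable def entU51 (z : Pl) (a b c : ℕ) (s : Bool) : Bool :=
  (fun j => Bool.rec (Nat.beq (uNU51 z j) (Nat.add c (mNU51 z j))) (Nat.beq (Nat.add (uNU51 z j) c) (mNU51 z j)) s)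
    (Nat.add (Nat.mul 32 (slotT.getD a 0)) (slotT.getD b 0))

private noncomputable def entsU51 (σ : ℕ → ℕ) (g : ℕ → Bool) (y : Pl) : Bool :=
  go (Monster.PlaneArith.low 1024 (Monster.PlaneArith.shr 61440 y)) fun z => all 24 fun a => all 24 fun b =>
    entU51 z (σ a) (σ b) (Nat.succ (Nat.add (Nat.mul 24 a) b)) (xor (g a) (g b))

private noncomputable def labPU51 : Pl :=
  .cons (Nat.shiftLeft 0x6592d5006592d5006592d5006592d5006592d5006592d5006592d5006592d5006592d5006592d5006592d5006592d5006592d5006592d5006592d5006592d5006592d5006592d5006592d5006592d5006592d5006592d5006592d5006592d5 61440)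
    (.cons (Nat.shiftLeft 0xb0b74600b0b74600b0b74600b0b74600b0b74600b0b74600b0b74600b0b74600b0b74600b0b74600b0b74600b0b74600b0b74600b0b74600b0b74600b0b74600b0b74600b0b74600b0b74600b0b74600b0b74600b0b74600b0b74600b0b746 61440)
    (.cons (Nat.shiftLeft 0xd8d39800d8d39800d8d39800d8d39800d8d39800d8d39800d8d39800d8d39800d8d39800d8d39800d8d39800d8d39800d8d39800d8d39800d8d39800d8d39800d8d39800d8d39800d8d39800d8d39800d8d39800d8d39800d8d39800d8d398 61440)
    (.cons (Nat.shiftLeft 0xee951f00116ae000116ae000ee951f00ee951f00116ae000ee951f00116ae000116ae000ee951f00ee951f00116ae000ee951f00ee951f00116ae000ee951f00116ae000116ae000ee951f00116ae000ee951f00116ae000ee951f00116ae0 61440)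
    (.cons (Nat.shiftLeft 0x191f00ee8c00001173ff0000191f00ffe6e000ee8c0000ffe6e000ee8c00001173ff00ffe6e00000191f001173ff00ffe6e00000191f001173ff0000191f00ee8c00001173ff00ffe6e000ee8c0000ffe6e0001173ff0000191f00ee8c00 61440)
    (.cons (Nat.shiftLeft 0x111f00ffffff001173ff0000111f000008000000000000fff7ff0000000000ee8c000000080000ffeee000ee8c0000fff7ff00ffeee000ee8c000000111f00ffffff001173ff00fff7ff00ffffff00000800001173ff00ffeee000000000 61440)
    (.cons (Nat.shiftLeft 0x111f00ffffff00ee8c0000ffeee000ffffff0000000000fff7ff00ffffff000000000000000000ffffff00000000000008000000000000ffffff0000111f00000000001173ff0000080000ffffff00ffffff00ee8c000000000000000000 61440)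
    (.cons (Nat.shiftLeft 0x111f00ffffff00ffffff0000000000ffffff00ffffff0000080000ffffff000000000000000000ffffff00ffffff0000000000ffffff0000000000ffeee000000000001173ff00ffffff0000000000000000000000000000000000000000 61440)
    (.cons (Nat.shiftLeft 0x111f00ffffff00ffffff00ffffff00ffffff00ffffff00ffffff000000000000000000ffffff00000000000000000000000000ffffff00ffffff0000000000ffffff00ee8c00000000000000000000000000000000000000000000000000 61440)
    (.cons (Nat.shiftLeft 0xffeee00000000000000000000000000000000000000000000000000000000000ffffff00000000000000000000000000ffffff0000000000000000000000000000000000000000000000000000000000000000000000000000000000000000 61440)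
    (.sgn 0))))))))))

private noncomputable def chkMU51 (P : Prog) (σ : ℕ → ℕ) (g : ℕ → Bool) : Bool :=
  and (monoPU51 P) (Monster.VecFast.runF P labPU51 (entsU51 σ g))

/-! ### The checks -/

open ProgTable

/-- masks of the basis of the code -/
def cbT : List ℕ :=
  [16777215, 2422785, 4845570, 3610628, 7221256, 7903248, 5621792, 1009728, 2019456, 4038912, 8077824,
    5405696]

/-- the tetrads -/
def tetT : List ℕ := [0, 0, 0, 0, 1, 2, 3, 1, 4, 3, 1, 3, 1, 5, 2, 4, 4, 2, 5, 4, 5, 5, 3, 2]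

def tabS : List ℕ := [1, 2, 3, 4, 5, 6, 7, 8, 9, 10, 11, 12, 13, 14, 15, 16, 17, 18, 19, 20, 21, 22, 0, 23]
def tabI : List ℕ := [23, 22, 11, 15, 17, 9, 19, 13, 20, 5, 16, 2, 21, 7, 18, 3, 10, 4, 14, 6, 8, 12, 1, 0]
def tabC : List ℕ := [0, 18, 6, 3, 2, 21, 1, 5, 16, 12, 7, 19, 8, 9, 17, 15, 13, 11, 4, 22, 10, 20, 14, 23]

/-- The nonzero entries for the letter `n`. -/
def nzT (n a a' : ℕ) : Bool :=
  if n < 36 then Nat.beq a a' else if n = 36 then Nat.beq (tabS.getD a 0) a' else
  if n = 37 then Nat.beq (tabC.getD a 0) a' else if n = 38 then Nat.beq (tabI.getD a 0) a' else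
  Nat.beq (tetT.getD a 0) (tetT.getD a' 0)

/-- The negative entries for the letter `n`. -/
def ngT (n a a' : ℕ) : Bool :=
  if n < 24 then false else if n < 36 then (cbT.getD (n - 24) 0).testBit a else if n < 39 then false else
  xor (Nat.beq a a') (Nat.ble 4 a)

private def sgTU51 (n a : ℕ) : ℕ :=
  if n < 36 then a else if n = 36 then tabS.getD a 0 else if n = 37 then tabC.getD a 0 else tabI.getD a 0

end Cfsg.Agent.MonsterX.MatAct
end

-- part: MonsterX/MatActChk
section
/-!
# The kernel checks of the action of the letters `0 … 39` on the symmetric matrices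
-/

set_option autoImplicit false
set_option maxRecDepth 100000
set_option Elab.async false

namespace Cfsg.Agent.MonsterX.MatAct

open ProgTable Cfsg.Agent.Monster.VecEngine Cfsg.Agent.Monster.VecSpace
open Cfsg.Agent.MonsterX.ProgBase Cfsg.Agent.MonsterX.Space

/-- The check for the letter `n`. -/
noncomputable def ck (n : ℕ) : Bool :=
  Bool.rec (chkMU51 (prog n) (sgTU51 n) fun a => ngT n a 0) (chk (prog n) true (nzT n) (ngT n)) (Nat.ble 39 n)


theorem ck_0 : ck 0 = true := by decide +kernel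

theorem ck_1 : ck 1 = true := by decide +kernel

theorem ck_2 : ck 2 = true := by decide +kernel

theorem ck_3 : ck 3 = true := by decide +kernel

theorem ck_4 : ck 4 = true := by decide +kernel

theorem ck_5 : ck 5 = true := by decide +kernel

theorem ck_6 : ck 6 = true := by decide +kernel

theorem ck_7 : ck 7 = true := by decide +kernel

theorem ck_8 : ck 8 = true := by decide +kernel

theorem ck_9 : ck 9 = true := by decide +kernel

theorem ck_10 : ck 10 = true := by decide +kernel

theorem ck_11 : ck 11 = true := by decide +kernel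

theorem ck_12 : ck 12 = true := by decide +kernel

theorem ck_13 : ck 13 = true := by decide +kernel

theorem ck_14 : ck 14 = true := by decide +kernel

theorem ck_15 : ck 15 = true := by decide +kernel

theorem ck_16 : ck 16 = true := by decide +kernel

theorem ck_17 : ck 17 = true := by decide +kernel

theorem ck_18 : ck 18 = true := by decide +kernel

theorem ck_19 : ck 19 = true := by decide +kernel

theorem ck_20 : ck 20 = true := by decide +kernel

theorem ck_21 : ck 21 = true := by decide +kernel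

theorem ck_22 : ck 22 = true := by decide +kernel

theorem ck_23 : ck 23 = true := by decide +kernel

theorem ck_24 : ck 24 = true := by decide +kernel

theorem ck_25 : ck 25 = true := by decide +kernel

theorem ck_26 : ck 26 = true := by decide +kernel

theorem ck_27 : ck 27 = true := by decide +kernel

theorem ck_28 : ck 28 = true := by decide +kernel

theorem ck_29 : ck 29 = true := by decide +kernel

theorem ck_30 : ck 30 = true := by decide +kernel

theorem ck_31 : ck 31 = true := by decide +kernel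

theorem ck_32 : ck 32 = true := by decide +kernel

theorem ck_33 : ck 33 = true := by decide +kernel

theorem ck_34 : ck 34 = true := by decide +kernel

theorem ck_35 : ck 35 = true := by decide +kernel

theorem ck_36 : ck 36 = true := by decide +kernel

theorem ck_37 : ck 37 = true := by decide +kernel

theorem ck_38 : ck 38 = true := by decide +kernel

theorem ck_39 : ck 39 = true := by decide +kernel

theorem ck_all (n : ℕ) (hn : n < 40) : ck n = true := by
  interval_cases n
  · exact ck_0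
  · exact ck_1
  · exact ck_2
  · exact ck_3
  · exact ck_4
  · exact ck_5
  · exact ck_6
  · exact ck_7
  · exact ck_8
  · exact ck_9
  · exact ck_10
  · exact ck_11
  · exact ck_12
  · exact ck_13
  · exact ck_14
  · exact ck_15
  · exact ck_16
  · exact ck_17
  · exact ck_18
  · exact ck_19
  · exact ck_20
  · exact ck_21
  · exact ck_22
  · exact ck_23
  · exact ck_24
  · exact ck_25
  · exact ck_26
  · exact ck_27
  · exact ck_28
  · exact ck_29
  · exact ck_30
  · exact ck_31
  · exact ck_32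
  · exact ck_33
  · exact ck_34
  · exact ck_35
  · exact ck_36
  · exact ck_37
  · exact ck_38
  · exact ck_39

/-- The transposition. -/
theorem ck_tr : all 24 (fun a => all 24 fun b => check [trP] (.cons (bp a b) (.sgn 0)) [] (.cons (bp b a) (.sgn 0))) =
    true := by decide +kernel

/-- The lanes of the matrix entries. -/
theorem ck_mat : all 24 (fun a => all 24 fun b => and (Nat.testBit U (ln a b)) (Nat.testBit matM (ln a b))) = true := by
  decide +kernel

/-- The mask of all matrix entries. -/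
noncomputable def orB (m n : ℕ) : ℕ :=
  Nat.rec (motive := fun _ => ℕ) 0 (fun a ih => Nat.lor
    (Nat.rec (motive := fun _ => ℕ) 0 (fun b jh => Nat.lor (bp a b) jh) n) ih) m

theorem testBit_orB {m n i : ℕ} (h : (orB m n).testBit i = true) : ∃ a < m, ∃ b < n, i = ln a b := by
  have key : ∀ (a n : ℕ), (Nat.rec (motive := fun _ => ℕ) 0 (fun b jh => Nat.lor (bp a b) jh) n : ℕ).testBit i = true →
      ∃ b < n, i = ln a b := by
    intro a n
    induction n with
    | zero => intro h; exact absurd (show Nat.testBit 0 i = true from h) (by simp)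
    | succ n ih =>
      intro h
      have h' : ((bp a n) ||| (Nat.rec (motive := fun _ => ℕ) 0 (fun b jh => Nat.lor (bp a b) jh) n : ℕ)).testBit i =
        true := h
      rw [Nat.testBit_or, Bool.or_eq_true] at h'
      rcases h' with h' | h'
      · rw [testBit_bp, decide_eq_true_eq] at h'
        exact ⟨n, by omega, h'⟩
      · obtain ⟨b, hb, e⟩ := ih h'
        exact ⟨b, by omega, e⟩
  induction m with
  | zero => exact absurd (show Nat.testBit 0 i = true from h) (by simp)
  | succ m ih =>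
    have h' : ((Nat.rec (motive := fun _ => ℕ) 0 (fun b jh => Nat.lor (bp m b) jh) n : ℕ) ||| orB m n).testBit i =
      true := h
    rw [Nat.testBit_or, Bool.or_eq_true] at h'
    rcases h' with h' | h'
    · obtain ⟨b, hb, e⟩ := key m n h'
      exact ⟨m, by omega, b, hb, e⟩
    · obtain ⟨a, ha, b, hb, e⟩ := ih h'
      exact ⟨a, by omega, b, hb, e⟩

theorem orB_eq : orB 24 24 = matM :=
  Nat.eq_of_beq_eq_true (show Nat.beq (orB 24 24) matM = true by decide +kernel)

/-- The lanes of `matM` are the lanes of the matrix entries. -/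
theorem exists_ln {i : ℕ} (h : matM.testBit i = true) : ∃ a < 24, ∃ b < 24, i = ln a b := by
  rw [← orB_eq] at h
  exact testBit_orB h

theorem slotT_lt : ∀ a < 24, slotT.getD a 0 < 24 := by decide +kernel

private theorem ents_soundU51 {σ : ℕ → ℕ} {g : ℕ → Bool} (hσ : ∀ a < 24, σ a < 24) {y : Pl} (h : entsU51 σ g y = true)
    {a b : ℕ} (ha : a < 24) (hb : b < 24) :
    val y (ln (σ a) (σ b)) = if xor (g a) (g b) then -((24 * a + b + 1 : ℕ) : ℤ) else ((24 * a + b + 1 : ℕ) : ℤ) := by
  unfold entsU51 at h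
  rw [go_eq] at h
  have h0 := all_spec (all_spec h ha) hb
  have h1 := slotT_lt _ (hσ a ha)
  have h2 := slotT_lt _ (hσ b hb)
  have h3 : val y (ln (σ a) (σ b)) = val (Monster.VecEngine.norm (Monster.PlaneArith.low 1024 (Monster.PlaneArith.shr 61440 y)))
      (32 * slotT.getD (σ a) 0 + slotT.getD (σ b) 0) := by
    rw [val_norm, Monster.PlaneArith.val_low _ _ _ (by omega), Monster.PlaneArith.val_shr, Nat.add_comm _ 61440]
    rfl
  rw [h3, val_NU51]
  generalize Monster.VecEngine.norm (Monster.PlaneArith.low 1024 (Monster.PlaneArith.shr 61440 y)) = z at h0 ⊢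
  generalize xor (g a) (g b) = s at h0 ⊢
  cases s
  · have h4 : uNU51 z (32 * slotT.getD (σ a) 0 + slotT.getD (σ b) 0) =
        24 * a + b + 1 + mNU51 z (32 * slotT.getD (σ a) 0 + slotT.getD (σ b) 0) := Nat.eq_of_beq_eq_true h0
    rw [if_neg Bool.false_ne_true]
    omega
  · have h4 : uNU51 z (32 * slotT.getD (σ a) 0 + slotT.getD (σ b) 0) + (24 * a + b + 1) =
        mNU51 z (32 * slotT.getD (σ a) 0 + slotT.getD (σ b) 0) := Nat.eq_of_beq_eq_true h0
    rw [if_pos rfl]
    omega

private theorem labP_valU51 {a b : ℕ} (ha : a < 24) (hb : b < 24) : val labPU51 (ln a b) = ((24 * a + b + 1 : ℕ) : ℤ) :=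
  ents_soundU51 (σ := fun a => a) (g := fun _ => false) (fun _ h => h) (by decide +kernel) ha hb

private theorem labP_nzU51 : Monster.PlaneArith.nz labPU51 = matM :=
  Nat.eq_of_beq_eq_true (show Nat.beq (Monster.PlaneArith.nz labPU51) matM = true by decide +kernel)

private theorem chkM_soundU51 {m : ℕ} {P : Prog} (hP : P.ok m = true) {σ : ℕ → ℕ} {g : ℕ → Bool}
    (hσ : ∀ a < 24, σ a < 24) (h : chkMU51 P σ g = true) {a b : ℕ} (ha : a < 24) (hb : b < 24) :
    sem ℚ P (un a b) = (if xor (g a) (g b) then (-1 : ℚ) else 1) • un (σ a) (σ b) := by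
  unfold chkMU51 at h
  rw [Bool.and_eq_true] at h
  obtain ⟨e, s, h1⟩ := monoP_semU51 P h.1
  obtain ⟨y, hy, hk⟩ := run_sound ℚ two_ne_zero P hP _ _ (Monster.VecFast.run_of h.2)
  have h2 := ents_soundU51 hσ hk ha hb
  have h3 : val y (ln (σ a) (σ b)) =
      if s (ln (σ a) (σ b)) then - val labPU51 (e (ln (σ a) (σ b))) else val labPU51 (e (ln (σ a) (σ b))) := by
    have h4 := (congrFun hy (ln (σ a) (σ b))).trans (h1 _ _)
    unfold vec at h4
    split_ifs at h4 ⊢ <;> exact_mod_cast h4
  rw [h2] at h3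
  have h5 : val labPU51 (e (ln (σ a) (σ b))) ≠ 0 := by
    intro h0
    rw [h0] at h3
    split_ifs at h3 <;> omega
  obtain ⟨a', ha', b', hb', h6⟩ := exists_ln (labP_nzU51 ▸ (Monster.PlaneArith.testBit_nz _ _).2 h5)
  rw [h6, labP_valU51 ha' hb'] at h3
  have h7 : s (ln (σ a) (σ b)) = xor (g a) (g b) ∧ a' = a ∧ b' = b := by
    revert h3
    cases s (ln (σ a) (σ b)) <;> cases xor (g a) (g b) <;> simp <;> omega
  obtain ⟨h8, rfl, rfl⟩ := h7
  funext i
  rw [h1, Pi.smul_apply]
  unfold un
  by_cases hi : i = ln (σ a') (σ b')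
  · rw [hi, h8, h6]
    cases xor (g a') (g b') <;> simp
  · have h9 : e i ≠ ln a' b' := fun h0 => hi (e.injective (h0.trans h6.symm))
    simp [hi, h9]

private theorem sgT_ltU51 : ∀ n < 39, ∀ a < 24, sgTU51 n a < 24 := by decide +kernel


private theorem ck_soundU51 {n : ℕ} (hn : n < 40) {m : ℕ} (hP : (prog n).ok m = true) {a b : ℕ} (ha : a < 24) (hb : b < 24) :
    sem ℚ (prog n) ((if Nat.ble 39 n then (4 : ℚ) else 1) • un a b) =
      ∑ a' ∈ Finset.range 24, ∑ b' ∈ Finset.range 24,
        (cf (nzT n a a') (ngT n a a') * cf (nzT n b b') (ngT n b b')) • un a' b' := by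
  have h := ck_all n hn
  unfold ck at h
  cases h39 : Nat.ble 39 n
  · rw [h39] at h
    have hn' : n < 39 := Nat.lt_of_not_le fun h0 => by rw [Nat.ble_eq_true_of_le h0] at h39; exact absurd h39 (by simp)
    have h1 : ∀ a a', nzT n a a' = Nat.beq (sgTU51 n a) a' := by
      intro a a'
      unfold nzT sgTU51
      split_ifs <;> first | rfl | omega
    have h2 : ∀ a a', ngT n a a' = ngT n a 0 := by
      intro a a'
      unfold ngT
      split_ifs <;> rfl
    have h3 : ∀ a a' (x : Bool), a' ≠ sgTU51 n a → cf (nzT n a a') x = 0 := by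
      intro a a' x h0
      unfold cf
      rw [h1, if_neg fun h4 => h0 (Nat.eq_of_beq_eq_true h4).symm]
    rw [if_neg Bool.false_ne_true, one_smul, chkM_soundU51 hP (sgT_ltU51 n hn') h ha hb,
      Finset.sum_eq_single_of_mem (sgTU51 n a) (Finset.mem_range.2 (sgT_ltU51 n hn' a ha))
        (fun a' _ h0 => Finset.sum_eq_zero fun b' _ => by rw [h3 a a' _ h0, zero_mul, zero_smul]),
      Finset.sum_eq_single_of_mem (sgTU51 n b) (Finset.mem_range.2 (sgT_ltU51 n hn' b hb))
        (fun b' _ h0 => by rw [h3 b b' _ h0, mul_zero, zero_smul]),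
      h1, h1, Nat.beq_refl, Nat.beq_refl, h2 a (sgTU51 n a), h2 b (sgTU51 n b)]
    unfold cf
    cases ngT n a 0 <;> cases ngT n b 0 <;> simp
  · rw [h39] at h
    exact chk1_sound (sc := true) hP (all_spec (all_spec h ha) hb)

theorem slotT_inj : ∀ a < 24, ∀ b < 24, slotT.getD a 0 = slotT.getD b 0 → a = b := by decide +kernel

theorem ln_inj {a b a' b' : ℕ} (ha : a < 24) (hb : b < 24) (ha' : a' < 24) (hb' : b' < 24)
    (h : ln a b = ln a' b') : a = a' ∧ b = b' := by
  have h1 := slotT_lt b hb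
  have h2 := slotT_lt b' hb'
  unfold ln at h
  exact ⟨slotT_inj a ha a' ha' (by omega), slotT_inj b hb b' hb' (by omega)⟩

end Cfsg.Agent.MonsterX.MatAct
end

-- part: MonsterX/CoGens
section
/-!
# The elements of `Co0` induced by the letters `0 … 39` of the Monster model

`A n = 1` for `n < 24`, the sign change at the word `n - 24` of the basis for `24 ≤ n < 36`, the permutations
`x ↦ x + 1` (`36`), `cubeTwist` (`37`), `projInv` (`38`), Conway's map for the sextet of `{0, 1, 2, 3}` with sign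
changes on `{0, 1, 2, 3}` (`39`).
-/

set_option autoImplicit false

namespace Cfsg.Agent.MonsterX.CoGens

open Cfsg Cfsg.Agent.Leech.Code Cfsg.Agent.Leech.Basic Cfsg.Agent.Leech.Co0Elts
  Cfsg.Agent.Leech.Xi Cfsg.Agent.SporadicA Cfsg.Agent.SporadicA.M24Gens
  Cfsg.Agent.MonsterX.FrameStab Cfsg.Agent.MonsterX.MatAct

/-- A lattice vector with rational coordinates. -/
abbrev rt (v : leechLattice) : GolayPt → ℚ := fun i => ((v : GolayPt → ℤ) i : ℚ)

/-! ### Sign changes -/

/-- The words of the basis. -/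
def cw (i : ℕ) : Finset GolayPt := GolayBase.fin (cb.getD i 0)

theorem cb_code : ∀ i < 12, GolayBase.isCode (cb.getD i 0) = true ∧ cb.getD i 0 < 2 ^ 24 := by
  decide +kernel

theorem cw_mem (i : ℕ) (hi : i < 12) : cw i ∈ Words :=
  (GolayBase.fin_mem_supports_iff (cb_code i hi).2).2 (cb_code i hi).1

/-- The sign change at a word of the basis. -/
noncomputable def sg (i : ℕ) : Co0 := if h : i < 12 then sgn (cw i) (cw_mem i h) else 1

theorem sg_coe {i : ℕ} (hi : i < 12) (v : leechLattice) (p : GolayPt) :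
    ((sg i • v : leechLattice) : GolayPt → ℤ) p =
      if (cb.getD i 0).testBit (pidx p) then -(v : GolayPt → ℤ) p else (v : GolayPt → ℤ) p := by
  unfold sg
  rw [dif_pos hi, sgn_coe, sgnMap_apply]
  have h : p ∈ cw i ↔ (cb.getD i 0).testBit (pidx p) = true := GolayBase.mem_fin
  by_cases hp : p ∈ cw i
  · rw [if_pos hp, if_pos (h.1 hp)]
  · rw [if_neg hp, if_neg (fun h' => hp (h.2 h'))]

theorem isSign_sg {i : ℕ} (hi : i < 12) : IsSign (sg i) (cb.getD i 0) := fun v p => sg_coe hi v p

/-! ### Permutations -/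

/-- The permutation `x ↦ x + 1`. -/
def shiftP : Equiv.Perm GolayPt := Equiv.optionCongr (Equiv.addRight (1 : ZMod 23))

/-- The element `x ↦ x + 1`. -/
noncomputable def pS : Co0 := perm shiftP shift_mem

/-- The element of `cubeTwist`. -/
noncomputable def pC : Co0 := perm cubeTwist cubeTwist_mem

/-- The element of `projInv`. -/
noncomputable def pI : Co0 := perm projInv projInv_mem

theorem isPerm_pS : IsPerm pS (Equiv.optionCongr (Equiv.addRight (1 : ZMod 23))) := fun _ _ => rfl

theorem isPerm_pC : IsPerm pC cubeTwist := fun _ _ => rfl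

theorem isPerm_pI : IsPerm pI projInv := fun _ _ => rfl

/-! ### The sextet -/

/-- masks of the tetrads of the sextet of `{0, 1, 2, 3}` -/
def masks : List ℕ := [15, 5264, 8536096, 4196928, 622848, 3416064]

/-- the sextet of `{0, 1, 2, 3}` -/
def S₀ : Finset (Finset GolayPt) := (masks.map GolayBase.fin).toFinset

theorem mem_S₀ {t : Finset GolayPt} : t ∈ S₀ ↔ ∃ m ∈ masks, GolayBase.fin m = t := by
  unfold S₀
  rw [List.mem_toFinset, List.mem_map]

theorem masks_lt : ∀ m ∈ masks, m < 2 ^ 24 := by decide +kernel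

theorem masks_card : ∀ m ∈ masks, GolayBase.popcount m = 4 := by decide +kernel

theorem masks_pair : ∀ a ∈ masks, ∀ b ∈ masks, a ≠ b →
    GolayBase.isCode (a ||| b) = true ∧ GolayBase.popcount (a ||| b) = 8 ∧ a ||| b < 2 ^ 24 := by
  decide +kernel

theorem masks_nodup : masks.Nodup := by decide +kernel

theorem S₀_mem : S₀ ∈ sextets := by
  refine ⟨?_, fun t ht => ?_, fun t ht u hu htu => ?_⟩
  · unfold S₀
    rw [List.toFinset_card_of_nodup]
    · rfl
    · refine (List.nodup_map_iff_inj_on masks_nodup).2 fun a ha b hb h => ?_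
      exact GolayBase.fin_injective (masks_lt a ha) (masks_lt b hb) h
  · obtain ⟨m, hm, rfl⟩ := mem_S₀.1 ht
    rw [GolayBase.card_fin, masks_card m hm]
  · obtain ⟨a, ha, rfl⟩ := mem_S₀.1 ht
    obtain ⟨b, hb, rfl⟩ := mem_S₀.1 hu
    obtain ⟨h1, h2, h3⟩ := masks_pair a ha b hb fun h => htu (h ▸ rfl)
    rw [← GolayBase.fin_or]
    exact (GolayBase.fin_mem_octads_iff h3).2 ⟨h1, h2⟩

/-- the tetrad `{0, 1, 2, 3}` -/
def T₀ : Finset GolayPt := GolayBase.fin 15

theorem T₀_mem : T₀ ∈ S₀ := mem_S₀.2 ⟨15, by decide, rfl⟩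

/-- Conway's map of the model -/
noncomputable def xiA : Co0 := xi S₀ T₀ S₀_mem T₀_mem

theorem mem_T₀ (p : GolayPt) : p ∈ T₀ ↔ ¬ 4 ≤ pidx p := by
  revert p; decide +kernel

/-- Two points are in the same tetrad iff they have the same number. -/
theorem mem_tet (p q : GolayPt) : q ∈ tet S₀ p ↔ tetT.getD (pidx q) 0 = tetT.getD (pidx p) 0 := by
  obtain ⟨t, ht, hp⟩ := sextet_exists S₀_mem p
  rw [tet_eq S₀_mem ht hp]
  obtain ⟨m, hm, rfl⟩ := mem_S₀.1 ht
  rw [GolayBase.mem_fin] at hp ⊢
  have key : ∀ m ∈ masks, ∀ p q : GolayPt, m.testBit (GolayBase.idx p) = true →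
      (m.testBit (GolayBase.idx q) = true ↔ tetT.getD (pidx q) 0 = tetT.getD (pidx p) 0) := by
    decide +kernel
  exact key m hm p q hp

theorem xiA_coe (v : leechLattice) (p : GolayPt) :
    2 * rt (xiA • v) p = (if 4 ≤ pidx p then 1 else -1) *
      (2 * rt v p - ∑ q, if tetT.getD (pidx q) 0 = tetT.getD (pidx p) 0 then rt v q else 0) := by
  have h1 : ((xiA • v : leechLattice) : GolayPt → ℤ) p = xiMap S₀ T₀ v p := rfl
  have h2 : (2 : ℚ) * (hsum S₀ (v : GolayPt → ℤ) p : ℚ) =
      ∑ q, if tetT.getD (pidx q) 0 = tetT.getD (pidx p) 0 then rt v q else 0 := by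
    have h3 := two_mul_hsum S₀_mem v.2 p
    have h4 : ((2 * hsum S₀ (v : GolayPt → ℤ) p : ℤ) : ℚ) = ((∑ j ∈ tet S₀ p, (v : GolayPt → ℤ) j : ℤ) : ℚ) := by
      rw [h3]
    push_cast at h4
    rw [h4, ← Finset.sum_filter]
    refine Finset.sum_congr ?_ fun _ _ => rfl
    ext q
    rw [Finset.mem_filter, mem_tet]
    simp
  show 2 * ((((xiA • v : leechLattice) : GolayPt → ℤ) p : ℤ) : ℚ) = _
  rw [h1, xiMap_apply, ← h2]
  by_cases hp : p ∈ T₀
  · rw [if_pos hp, if_neg ((mem_T₀ p).1 hp)]
    push_cast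
    ring
  · have h4 : 4 ≤ pidx p := by
      by_contra h
      exact hp ((mem_T₀ p).2 h)
    rw [if_neg hp, if_pos h4]
    push_cast
    ring

/-! ### All letters -/

/-- The element of `Co0` induced by the letter `n`. -/
noncomputable def A (n : ℕ) : Co0 :=
  if n < 24 then 1 else if n < 36 then sg (n - 24) else if n = 36 then pS else if n = 37 then pC else
  if n = 38 then pI else xiA

theorem A_lt {n : ℕ} (h : n < 24) : A n = 1 := if_pos h

theorem A_sg {i : ℕ} (h : i < 12) : A (24 + i) = sg i := by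
  unfold A
  rw [if_neg (by omega), if_pos (by omega)]
  congr 1; omega

theorem A_36 : A 36 = pS := rfl

theorem A_37 : A 37 = pC := rfl

theorem A_38 : A 38 = pI := rfl

theorem A_39 : A 39 = xiA := rfl

theorem pidx_lt (p : GolayPt) : pidx p < 24 := by revert p; decide

theorem cbT_eq : cbT = cb := rfl

/-- The sum of a function with one nonzero term. -/
theorem sum_cf_single (f : GolayPt → Bool) (g : GolayPt → Bool) (x : GolayPt → ℚ) (p₀ : GolayPt)
    (h : ∀ p, f p = true ↔ p = p₀) :
    ∑ p, cf (f p) (g p) * x p = (if g p₀ then -1 else 1) * x p₀ := by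
  rw [Finset.sum_eq_single p₀]
  · unfold cf
    rw [if_pos ((h p₀).2 rfl)]
  · intro p _ hp
    unfold cf
    rw [if_neg (fun h' => hp ((h p).1 h')), zero_mul]
  · intro h; exact absurd (Finset.mem_univ _) h

/-- The matrix of the letter `n`. -/
theorem A_coe {n : ℕ} (hn : n < 40) (v : leechLattice) (p' : GolayPt) :
    (if Nat.ble 39 n then 2 else 1) * rt (A n • v) p' =
      ∑ p, cf (nzT n (pidx p) (pidx p')) (ngT n (pidx p) (pidx p')) * rt v p := by
  have beq_iff : ∀ a b : ℕ, Nat.beq a b = true ↔ a = b := fun a b => by simp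
  have ble_iff : ∀ a b : ℕ, Nat.ble a b = true ↔ a ≤ b := fun a b => by simp
  rcases Nat.lt_or_ge n 24 with h | h
  · rw [A_lt h, one_smul, sum_cf_single _ _ _ p']
    · rw [if_neg (by simp; omega)]
      have : ngT n (pidx p') (pidx p') = false := if_pos h
      rw [this]; rfl
    · intro p
      unfold nzT
      rw [if_pos (by omega), beq_iff]
      exact ⟨fun h => pidx_injective h, fun h => by rw [h]⟩
  rcases Nat.lt_or_ge n 36 with h1 | h1
  · obtain ⟨i, rfl⟩ := Nat.exists_eq_add_of_le h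
    have hi : i < 12 := by omega
    rw [A_sg hi, sum_cf_single _ _ _ p']
    · rw [if_neg (by simp; omega), one_mul]
      have : ngT (24 + i) (pidx p') (pidx p') = (cb.getD i 0).testBit (pidx p') := by
        unfold ngT
        rw [if_neg (by omega), if_pos h1, cbT_eq]
        congr 2; omega
      rw [this]
      show ((((sg i • v : leechLattice) : GolayPt → ℤ) p' : ℤ) : ℚ) = _
      rw [sg_coe hi]
      cases (cb.getD i 0).testBit (pidx p') <;> simp
    · intro p
      unfold nzT
      rw [if_pos (by omega), beq_iff]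
      exact ⟨fun h => pidx_injective h, fun h => by rw [h]⟩
  obtain rfl | rfl | rfl | rfl : n = 36 ∨ n = 37 ∨ n = 38 ∨ n = 39 := by omega
  · rw [A_36, sum_cf_single _ _ _ (shiftP.symm p')]
    · show (1 : ℚ) * _ = 1 * _
      rfl
    · intro p
      show Nat.beq (MatAct.tabS.getD (pidx p) 0) (pidx p') = true ↔ _
      have := shift_table p
      rw [beq_iff, show MatAct.tabS = M24Gens.tabS from rfl, ← this]
      exact ⟨fun h => by rw [Equiv.eq_symm_apply]; exact pidx_injective h,
        fun h => by rw [h]; exact congrArg pidx (shiftP.apply_symm_apply p')⟩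
  · rw [A_37, sum_cf_single _ _ _ (cubeTwist.symm p')]
    · show (1 : ℚ) * _ = 1 * _
      rfl
    · intro p
      show Nat.beq (MatAct.tabC.getD (pidx p) 0) (pidx p') = true ↔ _
      have := cubeTwist_table p
      rw [beq_iff, show MatAct.tabC = M24Gens.tabC from rfl, ← this]
      exact ⟨fun h => by rw [Equiv.eq_symm_apply]; exact pidx_injective h,
        fun h => by rw [h]; exact congrArg pidx (cubeTwist.apply_symm_apply p')⟩
  · rw [A_38, sum_cf_single _ _ _ (projInv.symm p')]
    · show (1 : ℚ) * _ = 1 * _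
      rfl
    · intro p
      show Nat.beq (MatAct.tabI.getD (pidx p) 0) (pidx p') = true ↔ _
      have := projInv_table p
      rw [beq_iff, show MatAct.tabI = M24Gens.tabI from rfl, ← this]
      exact ⟨fun h => by rw [Equiv.eq_symm_apply]; exact pidx_injective h,
        fun h => by rw [h]; exact congrArg pidx (projInv.apply_symm_apply p')⟩
  · rw [A_39]
    show (2 : ℚ) * _ = _
    rw [xiA_coe]
    -- pointwise
    have h4 : ∀ p : GolayPt, tetT.getD (pidx p) 0 = tetT.getD (pidx p') 0 → (4 ≤ pidx p ↔ 4 ≤ pidx p') := by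
      revert p'; decide +kernel
    have h5 : ∀ p, cf (nzT 39 (pidx p) (pidx p')) (ngT 39 (pidx p) (pidx p')) * rt v p =
        (if 4 ≤ pidx p' then 1 else -1) * ((if p = p' then 2 * rt v p else 0) -
          (if tetT.getD (pidx p) 0 = tetT.getD (pidx p') 0 then rt v p else 0)) := by
      intro p
      show cf (Nat.beq (tetT.getD (pidx p) 0) (tetT.getD (pidx p') 0))
        (xor (Nat.beq (pidx p) (pidx p')) (Nat.ble 4 (pidx p))) * rt v p = _
      by_cases ht : tetT.getD (pidx p) 0 = tetT.getD (pidx p') 0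
      · have e1 : Nat.beq (tetT.getD (pidx p) 0) (tetT.getD (pidx p') 0) = true := (beq_iff _ _).2 ht
        rw [e1, if_pos ht]
        have h6 := h4 p ht
        by_cases hp : p = p'
        · have e2 : Nat.beq (pidx p) (pidx p') = true := (beq_iff _ _).2 (by rw [hp])
          rw [e2, if_pos hp]
          by_cases h7 : 4 ≤ pidx p'
          · have e3 : Nat.ble 4 (pidx p) = true := (ble_iff _ _).2 (h6.2 h7)
            rw [e3, if_pos h7]
            show (1 : ℚ) * _ = _
            ring
          · have e3 : Nat.ble 4 (pidx p) = false := by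
              rw [Bool.eq_false_iff]; exact fun h => h7 (h6.1 ((ble_iff _ _).1 h))
            rw [e3, if_neg h7]
            show (-1 : ℚ) * _ = _
            ring
        · have e2 : Nat.beq (pidx p) (pidx p') = false := by
            rw [Bool.eq_false_iff]; exact fun h => hp (pidx_injective ((beq_iff _ _).1 h))
          rw [e2, if_neg hp]
          by_cases h7 : 4 ≤ pidx p'
          · have e3 : Nat.ble 4 (pidx p) = true := (ble_iff _ _).2 (h6.2 h7)
            rw [e3, if_pos h7]
            show (-1 : ℚ) * _ = _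
            ring
          · have e3 : Nat.ble 4 (pidx p) = false := by
              rw [Bool.eq_false_iff]; exact fun h => h7 (h6.1 ((ble_iff _ _).1 h))
            rw [e3, if_neg h7]
            show (1 : ℚ) * _ = _
            ring
      · have e1 : Nat.beq (tetT.getD (pidx p) 0) (tetT.getD (pidx p') 0) = false := by
          rw [Bool.eq_false_iff]; exact fun h => ht ((beq_iff _ _).1 h)
        have hp : p ≠ p' := fun h => ht (by rw [h])
        rw [e1, if_neg ht, if_neg hp]
        show (0 : ℚ) * _ = _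
        ring
    rw [Finset.sum_congr rfl fun p _ => h5 p, ← Finset.mul_sum, Finset.sum_sub_distrib]
    congr 2
    simp

end Cfsg.Agent.MonsterX.CoGens
end

-- part: MonsterX/USide
section
/-!
# The vectors `u v` of the concrete model and the action of the letters on them

`uq x` is the symmetric matrix `x x^T / 16` (lanes of `matM`), `u v = uq v` for a lattice vector `v`.
`E n (u v) = u (A n • v)` for all letters `n < 40` (`act_u`).
-/

set_option autoImplicit false
set_option maxRecDepth 100000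

namespace Cfsg.Agent.MonsterX.USide

open Cfsg Cfsg.Agent.Lib.PermNet Cfsg.Agent.Monster.VecEngine Cfsg.Agent.Monster Cfsg.Agent.Monster.VecSpace
open Cfsg.Agent.MonsterX.ProgBase Cfsg.Agent.MonsterX.Space Cfsg.Agent.MonsterX.MatAct
open Cfsg.Agent.MonsterX.CoGens Cfsg.Agent.MonsterX.ProgTable Cfsg.Agent.MonsterX.GensT Cfsg.Agent.MonsterX.Conc
open Cfsg.Agent.SporadicA.M24Gens (pidx pidx_injective)

/-! ### Sums over the points -/

theorem sum_range_pt {M : Type*} [AddCommMonoid M] (f : ℕ → M) :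
    ∑ a ∈ Finset.range 24, f a = ∑ p : GolayPt, f (pidx p) := by
  symm
  refine Finset.sum_bij (fun p _ => pidx p) (fun p _ => Finset.mem_range.2 (pidx_lt p))
    (fun p _ q _ h => pidx_injective h) (fun a ha => ?_) fun p _ => rfl
  have ha' := Finset.mem_range.1 ha
  exact ⟨Cfsg.Agent.SporadicA.GolayBase.pt a, Finset.mem_univ _, Cfsg.Agent.SporadicA.GolayBase.idx_pt ha'⟩

/-! ### Unit vectors on the lanes of `U` -/

/-- The unit vector of the entry `(p, q)`. -/
noncomputable def uv (p q : GolayPt) : Lane U → ℚ := res ℚ U (un (pidx p) (pidx q))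

theorem ln_U (p q : GolayPt) : U.testBit (ln (pidx p) (pidx q)) = true ∧ matM.testBit (ln (pidx p) (pidx q)) = true := by
  have h := all_spec (all_spec ck_mat (pidx_lt p)) (pidx_lt q)
  have h' : and (Nat.testBit U (ln (pidx p) (pidx q))) (Nat.testBit matM (ln (pidx p) (pidx q))) = true := h
  rw [Bool.and_eq_true] at h'
  exact h'

/-- The lane of the entry `(p, q)`. -/
noncomputable def lane (p q : GolayPt) : Lane U := ⟨ln (pidx p) (pidx q), (ln_U p q).1⟩

theorem lane_inj {p q p' q' : GolayPt} (h : lane p q = lane p' q') : p = p' ∧ q = q' := by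
  have h1 := ln_inj (pidx_lt p) (pidx_lt q) (pidx_lt p') (pidx_lt q') (congrArg Subtype.val h)
  exact ⟨pidx_injective h1.1, pidx_injective h1.2⟩

theorem uv_apply (p q : GolayPt) (i : Lane U) : uv p q i = if i = lane p q then 1 else 0 := by
  show (if i.1 = ln (pidx p) (pidx q) then (1 : ℚ) else 0) = _
  by_cases h : i = lane p q
  · have h1 : i.1 = ln (pidx p) (pidx q) := congrArg Subtype.val h
    rw [if_pos h, if_pos h1]
  · have h1 : ¬ i.1 = ln (pidx p) (pidx q) := fun h' => h (Subtype.ext h')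
    rw [if_neg h, if_neg h1]

theorem exists_lane {i : Lane U} (h : matM.testBit i.1 = true) : ∃ p q, i = lane p q := by
  obtain ⟨a, ha, b, hb, e⟩ := exists_ln h
  refine ⟨Cfsg.Agent.SporadicA.GolayBase.pt a, Cfsg.Agent.SporadicA.GolayBase.pt b, Subtype.ext ?_⟩
  show i.1 = ln (pidx _) (pidx _)
  have h1 : pidx (Cfsg.Agent.SporadicA.GolayBase.pt a) = a := Cfsg.Agent.SporadicA.GolayBase.idx_pt ha
  have h2 : pidx (Cfsg.Agent.SporadicA.GolayBase.pt b) = b := Cfsg.Agent.SporadicA.GolayBase.idx_pt hb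
  rw [h1, h2, e]

theorem dotU_uv (p q : GolayPt) (g : Lane U → ℚ) : dotU ℚ U (uv p q) g = g (lane p q) := by
  unfold dotU
  rw [Finset.sum_eq_single (lane p q)]
  · rw [uv_apply, if_pos rfl, one_mul]
  · intro i _ hi
    rw [uv_apply, if_neg hi, zero_mul]
  · intro h; exact absurd (Finset.mem_univ _) h

theorem tr_uv (p q : GolayPt) : semU ℚ U trP (uv p q) = uv q p := by
  have h := all_spec (all_spec ck_tr (pidx_lt p)) (pidx_lt q)
  have h1 := checkU_sound ℚ two_ne_zero (m := 262144) (U := U) (w₁ := [trP]) (w₂ := [])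
    (fun P hP => by rw [List.mem_singleton.1 hP]; exact trP_good.pres)
    (fun P hP => absurd hP (by simp)) h
  have h2 : ∀ a b : ℕ, vecU ℚ U (.cons (bp a b) (.sgn 0)) = res ℚ U (un a b) := by
    intro a b
    funext i
    show ((bt (bp a b) i.1 + 2 * -bt 0 i.1 : ℤ) : ℚ) = _
    rw [bt_zero]
    push_cast
    rw [bt_bp]
    simp
  rw [h2, h2] at h1
  exact h1

/-! ### The vectors `u` -/

/-- The matrix `x x^T / 16` as a function on the lanes. -/
noncomputable def uf (x : GolayPt → ℚ) : Lane U → ℚ := ∑ p, ∑ q, (x p * x q / 16) • uv p q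

theorem uf_lane (x : GolayPt → ℚ) (p q : GolayPt) : uf x (lane p q) = x p * x q / 16 := by
  unfold uf
  rw [Finset.sum_apply, Finset.sum_eq_single p]
  · rw [Finset.sum_apply, Finset.sum_eq_single q]
    · rw [Pi.smul_apply, uv_apply, if_pos rfl, smul_eq_mul, mul_one]
    · intro q' _ hq'
      rw [Pi.smul_apply, uv_apply, if_neg (fun h => hq' (lane_inj h).2.symm), smul_zero]
    · intro h; exact absurd (Finset.mem_univ _) h
  · intro p' _ hp'
    rw [Finset.sum_apply]
    refine Finset.sum_eq_zero fun q' _ => ?_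
    rw [Pi.smul_apply, uv_apply, if_neg (fun h => hp' (lane_inj h).1.symm), smul_zero]
  · intro h; exact absurd (Finset.mem_univ _) h

theorem uf_other (x : GolayPt → ℚ) {i : Lane U} (h : ¬ matM.testBit i.1 = true) : uf x i = 0 := by
  unfold uf
  rw [Finset.sum_apply]
  refine Finset.sum_eq_zero fun p _ => ?_
  rw [Finset.sum_apply]
  refine Finset.sum_eq_zero fun q _ => ?_
  rw [Pi.smul_apply, uv_apply, if_neg (fun e => h (by rw [e]; exact (ln_U p q).2)), smul_zero]

theorem uf_mem (x : GolayPt → ℚ) : uf x ∈ Vs := by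
  rw [mem_Vs]
  unfold uf
  simp only [map_sum, map_smul, tr_uv]
  rw [Finset.sum_comm]
  refine Finset.sum_congr rfl fun q _ => Finset.sum_congr rfl fun p _ => ?_
  rw [mul_comm]

/-- The matrix `x x^T / 16`. -/
noncomputable def uq (x : GolayPt → ℚ) : V := ⟨uf x, uf_mem x⟩

/-- The vector of the model attached to a lattice vector. -/
noncomputable def u (v : leechLattice) : V := uq (rt v)

theorem F_uq (x : GolayPt → ℚ) (g : V) : F (uq x) g = ∑ p, ∑ q, x p * x q / 16 * g.1 (lane p q) := by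
  rw [F_apply]
  show dotU ℚ U (uf x) g.1 = _
  have h : ∀ f : Lane U → ℚ, dotU ℚ U f g.1 = ∑ i, f i * g.1 i := fun _ => rfl
  rw [h]
  unfold uf
  simp only [Finset.sum_apply, Pi.smul_apply, smul_eq_mul, Finset.sum_mul]
  rw [Finset.sum_comm]
  refine Finset.sum_congr rfl fun p _ => ?_
  rw [Finset.sum_comm]
  refine Finset.sum_congr rfl fun q _ => ?_
  simp only [mul_assoc]
  rw [← Finset.mul_sum]
  congr 1
  exact dotU_uv p q g.1

theorem F_uq_uq (x y : GolayPt → ℚ) : F (uq x) (uq y) = (∑ p, x p * y p) ^ 2 / 256 := by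
  rw [F_uq]
  have h : ∀ p q, (uq y).1 (lane p q) = y p * y q / 16 := uf_lane y
  simp only [h]
  have h2 : ∀ p q, x p * x q / 16 * (y p * y q / 16) = (x p * y p) * (x q * y q) / 256 := by
    intro p q; ring
  simp only [h2, ← Finset.sum_div, ← Finset.mul_sum, ← Finset.sum_mul]
  rw [sq]

theorem dot_rt (v w : leechLattice) :
    ((dotInt (v : GolayPt → ℤ) (w : GolayPt → ℤ) : ℤ) : ℚ) = ∑ p, rt v p * rt w p := by
  unfold dotInt
  push_cast
  rfl

/-- The inner products of the vectors `u v`. -/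
theorem B_uu (v w : leechLattice) :
    F (u v) (u w) = ((dotInt (v : GolayPt → ℤ) (w : GolayPt → ℤ) : ℤ) : ℚ) ^ 2 / 256 := by
  rw [dot_rt]
  exact F_uq_uq _ _

/-! ### The action of the letters -/

theorem semU_uv {n : ℕ} (hn : n < 40) (p q : GolayPt) :
    semU ℚ U (prog n) ((if Nat.ble 39 n then (4 : ℚ) else 1) • uv p q) =
      ∑ p', ∑ q', (cf (nzT n (pidx p) (pidx p')) (ngT n (pidx p) (pidx p')) *
        cf (nzT n (pidx q) (pidx q')) (ngT n (pidx q) (pidx q'))) • uv p' q' := by
  have h1 := ck_soundU51 hn (prog_goodT n).good.pres.ok (pidx_lt p) (pidx_lt q)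
  have h2 := congrArg (res ℚ U) h1
  rw [res_sem ℚ (prog_goodT n).good.pres, map_smul] at h2
  refine h2.trans ?_
  rw [sum_range_pt, map_sum]
  refine Finset.sum_congr rfl fun p' _ => ?_
  rw [sum_range_pt, map_sum]
  refine Finset.sum_congr rfl fun q' _ => ?_
  rw [map_smul]
  rfl

theorem semU_uf {n : ℕ} (hn : n < 40) (v : leechLattice) :
    semU ℚ U (prog n) (uf (rt v)) = uf (rt (A n • v)) := by
  -- `s = 1` or `2`
  have hs : ∃ s : ℚ, s ≠ 0 ∧ (if Nat.ble 39 n then (2 : ℚ) else 1) = s ∧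
      (if Nat.ble 39 n then (4 : ℚ) else 1) = s ^ 2 := by
    cases Nat.ble 39 n
    · exact ⟨1, one_ne_zero, rfl, by norm_num⟩
    · exact ⟨2, two_ne_zero, rfl, by norm_num⟩
  obtain ⟨s, hs0, hs1, hs2⟩ := hs
  have hu : ∀ p q, semU ℚ U (prog n) (uv p q) = (s ^ 2)⁻¹ •
      ∑ p', ∑ q', (cf (nzT n (pidx p) (pidx p')) (ngT n (pidx p) (pidx p')) *
        cf (nzT n (pidx q) (pidx q')) (ngT n (pidx q) (pidx q'))) • uv p' q' := by
    intro p q
    rw [← semU_uv hn p q, hs2, map_smul, smul_smul, inv_mul_cancel₀ (pow_ne_zero 2 hs0), one_smul]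
  have hA : ∀ p', rt (A n • v) p' = s⁻¹ *
      ∑ p, cf (nzT n (pidx p) (pidx p')) (ngT n (pidx p) (pidx p')) * rt v p := by
    intro p'
    rw [← A_coe hn v p', hs1, ← mul_assoc, inv_mul_cancel₀ hs0, one_mul]
  unfold uf
  simp only [map_sum, map_smul, hu, hA]
  simp only [Finset.smul_sum, smul_smul]
  -- the left side
  have e1 : ∑ p, ∑ q, ∑ p', ∑ q', (rt v p * rt v q / 16 * ((s ^ 2)⁻¹ *
        (cf (nzT n (pidx p) (pidx p')) (ngT n (pidx p) (pidx p')) *
          cf (nzT n (pidx q) (pidx q')) (ngT n (pidx q) (pidx q'))))) • uv p' q' =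
      ∑ p', ∑ q', ∑ p, ∑ q, (rt v p * rt v q / 16 * ((s ^ 2)⁻¹ *
        (cf (nzT n (pidx p) (pidx p')) (ngT n (pidx p) (pidx p')) *
          cf (nzT n (pidx q) (pidx q')) (ngT n (pidx q) (pidx q'))))) • uv p' q' := by
    calc _ = ∑ p, ∑ p', ∑ q, ∑ q', (rt v p * rt v q / 16 * ((s ^ 2)⁻¹ *
        (cf (nzT n (pidx p) (pidx p')) (ngT n (pidx p) (pidx p')) *
          cf (nzT n (pidx q) (pidx q')) (ngT n (pidx q) (pidx q'))))) • uv p' q' :=
          Finset.sum_congr rfl fun p _ => Finset.sum_comm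
      _ = ∑ p', ∑ p, ∑ q, ∑ q', (rt v p * rt v q / 16 * ((s ^ 2)⁻¹ *
        (cf (nzT n (pidx p) (pidx p')) (ngT n (pidx p) (pidx p')) *
          cf (nzT n (pidx q) (pidx q')) (ngT n (pidx q) (pidx q'))))) • uv p' q' := Finset.sum_comm
      _ = ∑ p', ∑ p, ∑ q', ∑ q, (rt v p * rt v q / 16 * ((s ^ 2)⁻¹ *
        (cf (nzT n (pidx p) (pidx p')) (ngT n (pidx p) (pidx p')) *
          cf (nzT n (pidx q) (pidx q')) (ngT n (pidx q) (pidx q'))))) • uv p' q' :=
          Finset.sum_congr rfl fun p' _ => Finset.sum_congr rfl fun p _ => Finset.sum_comm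
      _ = _ := Finset.sum_congr rfl fun p' _ => Finset.sum_comm
  rw [e1]
  refine Finset.sum_congr rfl fun p' _ => Finset.sum_congr rfl fun q' _ => ?_
  simp only [← Finset.sum_smul]
  congr 1
  rw [show ∀ a b : ℚ, s⁻¹ * a * (s⁻¹ * b) / 16 = (s ^ 2)⁻¹ * (a * b) / 16 by
    intro a b; rw [sq, mul_inv]; ring]
  rw [Finset.sum_mul_sum]
  simp only [Finset.mul_sum, Finset.sum_div]
  refine Finset.sum_congr rfl fun p _ => Finset.sum_congr rfl fun q _ => ?_
  ring

/-- The action of the letters on the vectors `u v`. -/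
theorem act_u {n : ℕ} (hn : n < 40) (v : leechLattice) : E n (u v) = u (A n • v) := by
  apply Subtype.ext
  rw [E_coe]
  exact semU_uf hn v

end Cfsg.Agent.MonsterX.USide
end
end

section
prune_inst 0xfffffefffcfddfffff7e7ff7ffcffc3ffb3fffeffffd43ffebefff5bff9fedcfedfbaf8de492fedff7e23e18ba7b53ff7eefffe16fdc7ffffdfff41ffbee4ff7ff350971fd9cbe0fbc0fff93f17f8a7f000000000000000000000000000041000200000000

-- part: MonsterX/UOnto
section
prune_inst 0x1000000000000000008001001c0004000000000b8000000002000600020000000620b010000000000c0400000000000000200020000000000400011800800881000020000100220006000002500000000000000000000000000000000000000000000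
set_option linter.all false
open scoped Cfsg.Agent.FastGrp

/-!
# Every element of `Co0` is induced by an element of `C`; the span of the vectors `u v`
-/

set_option autoImplicit false

namespace Cfsg.Agent.MonsterX.UOnto

open Cfsg Cfsg.Agent.Monster.VecEngine Cfsg.Agent.Monster Cfsg.Agent.Monster.VecSpace
open Cfsg.Agent.MonsterX.ProgBase Cfsg.Agent.MonsterX.Space Cfsg.Agent.MonsterX.MatAct
open Cfsg.Agent.MonsterX.CoGens Cfsg.Agent.MonsterX.USide Cfsg.Agent.MonsterX.FrameStab
open Cfsg.Agent.SporadicStructure.StdCross Cfsg.Agent.SporadicStructure.Co0Base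
open Cfsg.Agent.SporadicA.M24Gens (pidx pidx_injective)

/-! ### Induced elements -/

/-- `k` acts on the vectors `u v` through `A`. -/
def Ind (k : V ≃ₗ[ℚ] V) (A : Co0) : Prop := ∀ v, k (u v) = u (A • v)

theorem Ind.one : Ind 1 1 := fun v => by rw [one_smul]; rfl

theorem Ind.mul {k l : V ≃ₗ[ℚ] V} {A B : Co0} (hk : Ind k A) (hl : Ind l B) : Ind (k * l) (A * B) :=
  fun v => by rw [mul_smul, LinearEquiv.mul_apply, hl, hk]

theorem Ind.inv {k : V ≃ₗ[ℚ] V} {A : Co0} (hk : Ind k A) : Ind k⁻¹ A⁻¹ := fun v => by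
  have h := hk (A⁻¹ • v)
  rw [smul_inv_smul] at h
  rw [← h, ← LinearEquiv.mul_apply, inv_mul_cancel]
  rfl

theorem ind_E {n : ℕ} (hn : n < 40) : Ind (Conc.E n) (CoGens.A n) := act_u hn

/-- The elements of `Co0` induced by elements of `D`. -/
def indSub (D : Subgroup (V ≃ₗ[ℚ] V)) : Subgroup Co0 where
  carrier := {A | ∃ d ∈ D, Ind d A}
  one_mem' := ⟨1, D.one_mem, Ind.one⟩
  mul_mem' := by
    rintro A B ⟨d, hd, hA⟩ ⟨e, he, hB⟩
    exact ⟨d * e, D.mul_mem hd he, hA.mul hB⟩
  inv_mem' := by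
    rintro A ⟨d, hd, hA⟩
    exact ⟨d⁻¹, D.inv_mem hd, hA.inv⟩

/-- The elements of `Co0` preserving the standard frame are induced by elements of `N`. -/
theorem onto_N (A : Co0) (hA : PreservesCross A) : ∃ k ∈ Conc.N, Ind k A := by
  have key : A ∈ indSub Conc.N := by
    refine mem_of_preserves _ ?_ ?_ ?_ ?_ A hA
    · intro i hi
      refine ⟨sg i, ⟨Conc.E (24 + i), Conc.E_mem_N (by omega), ?_⟩, isSign_sg hi⟩
      rw [← A_sg hi]
      exact ind_E (by omega)
    · exact ⟨pS, ⟨Conc.E 36, Conc.E_mem_N (by norm_num), ind_E (by norm_num)⟩, isPerm_pS⟩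
    · exact ⟨pI, ⟨Conc.E 38, Conc.E_mem_N (by norm_num), ind_E (by norm_num)⟩, isPerm_pI⟩
    · exact ⟨pC, ⟨Conc.E 37, Conc.E_mem_N (by norm_num), ind_E (by norm_num)⟩, isPerm_pC⟩
  exact key

/-- The stabiliser of the standard frame. -/
def crossStab : Subgroup Co0 where
  carrier := {g | ∀ v : leechLattice, (v : GolayPt → ℤ) ∈ stdCross →
    ((g • v : leechLattice) : GolayPt → ℤ) ∈ stdCross}
  one_mem' := fun v hv => by rw [one_smul]; exact hv
  mul_mem' := fun {a b} ha hb v hv => by rw [mul_smul]; exact ha _ (hb v hv)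
  inv_mem' := fun {a} ha => by
    have h : PreservesCross a⁻¹ := (preserves_iff _).2 (fixesFrame_inv ((preserves_iff _).1 ha))
    exact h

theorem xiA_not_mem : xiA ∉ crossStab := by
  intro h
  have h1 := h (e8 (some 0)) (e8_mem_stdCross _)
  obtain ⟨i, s, hs, he⟩ := h1
  -- the coordinates at `1` and `2` are nonzero
  have h8 : ∀ p : GolayPt, rt (e8 (some 0)) p = if p = some 0 then 8 else 0 := by
    intro p
    show (((e8 (some 0) : leechLattice) : GolayPt → ℤ) p : ℚ) = _
    have : ((e8 (some 0) : leechLattice) : GolayPt → ℤ) = Pi.single (some 0) 8 := rfl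
    rw [this, Pi.single_apply]
    split_ifs <;> simp
  have key : ∀ p : GolayPt, p ≠ some 0 → ¬ 4 ≤ pidx p → ((xiA • e8 (some 0) : leechLattice) : GolayPt → ℤ) p = 4 := by
    intro p hp hp4
    have h2 := xiA_coe (e8 (some 0)) p
    rw [if_neg hp4, h8, if_neg hp] at h2
    simp only [h8] at h2
    have h3 : (∑ q : GolayPt, if tetT.getD (pidx q) 0 = tetT.getD (pidx p) 0 then
        (if q = some 0 then (8 : ℚ) else 0) else 0) = 8 := by
      rw [Finset.sum_eq_single (some 0)]
      · have h5 : tetT.getD (pidx (some 0)) 0 = tetT.getD (pidx p) 0 := by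
          revert p; decide +kernel
        rw [if_pos h5, if_pos rfl]
      · intro q _ hq
        rw [if_neg hq]; split_ifs <;> rfl
      · intro h; exact absurd (Finset.mem_univ _) h
    rw [h3] at h2
    have h4 : ((((xiA • e8 (some 0) : leechLattice) : GolayPt → ℤ) p : ℤ) : ℚ) = 4 := by
      show rt (xiA • e8 (some 0)) p = 4
      linarith
    exact_mod_cast h4
  have k1 := key (some 1) (by decide) (by decide)
  have k2 := key (some 2) (by decide) (by decide)
  rw [he, Pi.single_apply] at k1 k2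
  by_cases hi : (some 1 : GolayPt) = i
  · rw [← hi, if_neg (by decide)] at k2
    omega
  · rw [if_neg hi] at k1
    omega

/-- **Every element of `Co0` is induced by an element of `C`.** -/
theorem onto (A : Co0) : ∃ k ∈ Conc.C, Ind k A := by
  have hco : IsCoatom crossStab := Cfsg.Agent.S1572.result crossStab rfl
  have hle : crossStab ≤ indSub Conc.C := by
    intro A hA
    obtain ⟨k, hk, h⟩ := onto_N A hA
    exact ⟨k, Conc.N_le_C hk, h⟩
  have hx : xiA ∈ indSub Conc.C := ⟨Conc.E 39, Conc.E_mem_C (by norm_num), ind_E (by norm_num)⟩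
  have hlt : crossStab < indSub Conc.C := lt_of_le_of_ne hle fun h => xiA_not_mem (by rw [h]; exact hx)
  have htop := hco.2 _ hlt
  have : A ∈ indSub Conc.C := by rw [htop]; trivial
  exact this

/-- Every element of `C` induces an element of `Co0`. -/
theorem exists_ind (k : V ≃ₗ[ℚ] V) (hk : k ∈ Conc.C) : ∃ A, Ind k A := by
  unfold Conc.C at hk
  induction hk using Subgroup.closure_induction with
  | mem x hx =>
    obtain ⟨n, hn, rfl⟩ := hx
    exact ⟨_, ind_E hn⟩
  | one => exact ⟨1, Ind.one⟩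
  | mul x y _ _ hx hy =>
    obtain ⟨A, hA⟩ := hx
    obtain ⟨B, hB⟩ := hy
    exact ⟨A * B, hA.mul hB⟩
  | inv x _ hx =>
    obtain ⟨A, hA⟩ := hx
    exact ⟨A⁻¹, hA.inv⟩

/-- Every element of `Q` induces `1`. -/
theorem ind_Q (k : V ≃ₗ[ℚ] V) (hk : k ∈ Conc.Q) : Ind k 1 := by
  unfold Conc.Q at hk
  induction hk using Subgroup.closure_induction with
  | mem x hx =>
    obtain ⟨n, hn, rfl⟩ := hx
    have := ind_E (show n < 40 by omega)
    rwa [A_lt hn] at this
  | one => exact Ind.one
  | mul x y _ _ hx hy => have := hx.mul hy; rwa [mul_one] at this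
  | inv x _ hx => have := hx.inv; rwa [inv_one] at this

/-! ### The span of the vectors `u v` -/

theorem uf_add (x y : GolayPt → ℚ) :
    uf (x + y) = uf x + uf y + ∑ p, ∑ q, ((x p * y q + y p * x q) / 16) • uv p q := by
  unfold uf
  rw [← Finset.sum_add_distrib, ← Finset.sum_add_distrib]
  refine Finset.sum_congr rfl fun p _ => ?_
  rw [← Finset.sum_add_distrib, ← Finset.sum_add_distrib]
  refine Finset.sum_congr rfl fun q _ => ?_
  rw [← add_smul, ← add_smul]
  congr 1
  rw [Pi.add_apply, Pi.add_apply]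
  ring

theorem rt_e8 (i : GolayPt) : rt (e8 i) = Pi.single i 8 := by
  funext p
  show (((e8 i : leechLattice) : GolayPt → ℤ) p : ℚ) = _
  have : ((e8 i : leechLattice) : GolayPt → ℤ) = Pi.single i 8 := rfl
  rw [this, Pi.single_apply, Pi.single_apply]
  split_ifs <;> simp

theorem sum_single_single (i j : GolayPt) (c : ℚ) (g : GolayPt → GolayPt → Lane U → ℚ) :
    ∑ p, ∑ q, ((Pi.single i (8 : ℚ) : GolayPt → ℚ) p * (Pi.single j (8 : ℚ) : GolayPt → ℚ) q * c) • g p q =
      (64 * c) • g i j := by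
  rw [Finset.sum_eq_single i]
  · rw [Finset.sum_eq_single j]
    · rw [Pi.single_eq_same, Pi.single_eq_same]
      congr 1; ring
    · intro q _ hq
      rw [Pi.single_eq_of_ne hq, mul_zero, zero_mul, zero_smul]
    · intro h; exact absurd (Finset.mem_univ _) h
  · intro p _ hp
    refine Finset.sum_eq_zero fun q _ => ?_
    rw [Pi.single_eq_of_ne hp, zero_mul, zero_mul, zero_smul]
  · intro h; exact absurd (Finset.mem_univ _) h

/-- The symmetric matrix unit. -/
noncomputable def sv (p q : GolayPt) : V := ⟨uv p q + uv q p, by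
  rw [mem_Vs, map_add, tr_uv, tr_uv, add_comm]⟩

theorem sv_eq (i j : GolayPt) : (4 : ℚ) • sv i j = u (e8 i + e8 j) - u (e8 i) - u (e8 j) := by
  apply Subtype.ext
  show (4 : ℚ) • (uv i j + uv j i) = uf (rt (e8 i + e8 j)) - uf (rt (e8 i)) - uf (rt (e8 j))
  have h : rt (e8 i + e8 j) = rt (e8 i) + rt (e8 j) := by
    funext p
    show ((((e8 i + e8 j : leechLattice) : GolayPt → ℤ) p : ℤ) : ℚ) = _
    rw [AddSubgroup.coe_add, Pi.add_apply]
    push_cast
    rfl
  rw [h, uf_add, rt_e8, rt_e8]
  have h2 : ∀ p q : GolayPt, ((Pi.single i (8 : ℚ) : GolayPt → ℚ) p * (Pi.single j (8 : ℚ) : GolayPt → ℚ) q +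
      (Pi.single j (8 : ℚ) : GolayPt → ℚ) p * (Pi.single i (8 : ℚ) : GolayPt → ℚ) q) / 16 =
      (Pi.single i (8 : ℚ) : GolayPt → ℚ) p * (Pi.single j (8 : ℚ) : GolayPt → ℚ) q * (1 / 16) +
      (Pi.single j (8 : ℚ) : GolayPt → ℚ) p * (Pi.single i (8 : ℚ) : GolayPt → ℚ) q * (1 / 16) := by
    intro p q; ring
  simp only [h2, add_smul, Finset.sum_add_distrib, sum_single_single]
  rw [smul_add]
  have h3 : (64 * (1 / 16) : ℚ) = 4 := by norm_num
  rw [h3]
  abel

theorem sv_mem (i j : GolayPt) : sv i j ∈ Submodule.span ℚ (Set.range u) := by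
  have h : sv i j = (4 : ℚ)⁻¹ • (u (e8 i + e8 j) - u (e8 i) - u (e8 j)) := by
    rw [← sv_eq, smul_smul, inv_mul_cancel₀ (by norm_num), one_smul]
  rw [h]
  refine Submodule.smul_mem _ _ (Submodule.sub_mem _ (Submodule.sub_mem _ ?_ ?_) ?_) <;>
    exact Submodule.subset_span ⟨_, rfl⟩

theorem trL_lane (p q : GolayPt) : trL (lane p q) = lane q p := by
  have h1 : ∀ i : Lane U, uv p q (trL i) = uv q p i := by
    intro i
    rw [← tr_uv p q, semU_trP]
  have h2 := h1 (trL (lane p q))
  rw [trL_trL, uv_apply, if_pos rfl, uv_apply] at h2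
  by_contra h
  rw [if_neg h] at h2
  exact one_ne_zero h2

/-- A vector supported on the matrix lanes is in the span of the vectors `u v`. -/
theorem mem_span_u (f : V) (hf : ∀ i : Lane U, ¬ matM.testBit i.1 = true → f.1 i = 0) :
    f ∈ Submodule.span ℚ (Set.range u) := by
  have h : f = ∑ p, ∑ q, (f.1 (lane p q) / 2) • sv p q := by
    apply Subtype.ext
    have hc : ((∑ p, ∑ q, (f.1 (lane p q) / 2) • sv p q : V) : Lane U → ℚ) =
        ∑ p, ∑ q, (f.1 (lane p q) / 2) • (uv p q + uv q p) := by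
      rw [AddSubmonoidClass.coe_finsetSum]
      refine Finset.sum_congr rfl fun p _ => ?_
      rw [AddSubmonoidClass.coe_finsetSum]
      rfl
    rw [hc]
    have h1 : ∑ p, ∑ q, (f.1 (lane p q) / 2) • (uv p q + uv q p) = ∑ p, ∑ q, f.1 (lane p q) • uv p q := by
      simp only [smul_add, Finset.sum_add_distrib]
      have h2 : ∑ p, ∑ q, (f.1 (lane p q) / 2) • uv q p = ∑ p, ∑ q, (f.1 (lane p q) / 2) • uv p q := by
        rw [Finset.sum_comm]
        refine Finset.sum_congr rfl fun q _ => Finset.sum_congr rfl fun p _ => ?_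
        have h3 := mem_Vs_iff.1 f.2 (lane p q)
        rw [trL_lane] at h3
        rw [h3]
      rw [h2, ← Finset.sum_add_distrib]
      refine Finset.sum_congr rfl fun p _ => ?_
      rw [← Finset.sum_add_distrib]
      refine Finset.sum_congr rfl fun q _ => ?_
      rw [← add_smul]; congr 1; ring
    rw [h1]
    funext i
    rw [Finset.sum_apply]
    by_cases hi : matM.testBit i.1 = true
    · obtain ⟨p, q, rfl⟩ := exists_lane hi
      rw [Finset.sum_eq_single p]
      · rw [Finset.sum_apply, Finset.sum_eq_single q]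
        · rw [Pi.smul_apply, uv_apply, if_pos rfl, smul_eq_mul, mul_one]
        · intro q' _ hq'
          rw [Pi.smul_apply, uv_apply, if_neg (fun h => hq' (lane_inj h).2.symm), smul_zero]
        · intro h; exact absurd (Finset.mem_univ _) h
      · intro p' _ hp'
        rw [Finset.sum_apply]
        refine Finset.sum_eq_zero fun q' _ => ?_
        rw [Pi.smul_apply, uv_apply, if_neg (fun h => hp' (lane_inj h).1.symm), smul_zero]
      · intro h; exact absurd (Finset.mem_univ _) h
    · rw [hf i hi]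
      symm
      refine Finset.sum_eq_zero fun p _ => ?_
      rw [Finset.sum_apply]
      refine Finset.sum_eq_zero fun q _ => ?_
      rw [Pi.smul_apply, uv_apply, if_neg (fun e => hi (by rw [e]; exact (ln_U p q).2)), smul_zero]
  rw [h]
  exact Submodule.sum_mem _ fun p _ => Submodule.sum_mem _ fun q _ => Submodule.smul_mem _ _ (sv_mem p q)

end Cfsg.Agent.MonsterX.UOnto
end

-- part: MonsterX/FrameConc
section
set_option linter.all false
open scoped Cfsg.Agent.FastGrp

/-!
# The frames of the concrete model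

`ULink u`: the map `u : leechLattice → V` onto the rank one vectors of the `300`-dimensional part, and the
action of the letters on it.  Everything else on frames follows for `K = Conc.C`, `D = Conc.N`, `ξ = Conc.ξ`.
-/

set_option autoImplicit false

namespace Cfsg.Agent.MonsterX.FrameConc

open Cfsg Cfsg.Agent.MonsterX.Space Cfsg.Agent.MonsterX.Conc
open Cfsg.Agent.MonsterX.FrameStab Cfsg.Agent.MonsterX.FrameAct Cfsg.Agent.MonsterX.FrameLet
open Cfsg.Agent.MonsterX.FrameInst Cfsg.Agent.MonsterX.FrameCover Cfsg.Agent.MonsterX.FrameGam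
open Cfsg.Agent.MonsterX.CertFrame

/-- `g` acts on the vectors `u v` through `A`. -/
def Acts (u : leechLattice → V) (g : V ≃ₗ[ℚ] V) (A : Co0) : Prop := ∀ v, g (u v) = u (A • v)

/-- The action of the letters on the vectors `u v`. -/
structure ULink (u : leechLattice → V) : Prop where
  q : ∀ n < 24, Acts u (E n) 1
  sign : ∀ i < 12, ∃ A, Acts u (E (24 + i)) A ∧ IsSign A (cb.getD i 0)
  shift : ∃ A, Acts u (E 36) A ∧ IsPerm A (Equiv.optionCongr (Equiv.addRight (1 : ZMod 23)))
  cube : ∃ A, Acts u (E 37) A ∧ IsPerm A cubeTwist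
  inv : ∃ A, Acts u (E 38) A ∧ IsPerm A projInv
  xi : ∃ A, Acts u (E 39) A ∧ IsXi A
  shift_inv : E 42 = (E 36)⁻¹
  cube_inv : E 43 = (E 37)⁻¹
  xi_sq : E 39 * E 39 = 1
  /-- elements of `Co0` are determined up to sign by their action on the vectors `u v` -/
  pm : ∀ A : Co0, (∀ v, u (A • v) = u v) →
    (∀ v : leechLattice, A • v = v) ∨ (∀ v : leechLattice, A • v = -v)
  /-- the kernel of the action on the vectors `u v` is `2^{1+24}` -/
  ker : ∀ k ∈ C, (∀ v, k (u v) = u v) → k ∈ Q

variable {u : leechLattice → V}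

theorem Acts.one : Acts u 1 1 := fun v => by rw [one_smul]; rfl

theorem Acts.mul {g h : V ≃ₗ[ℚ] V} {A B : Co0} (hg : Acts u g A) (hh : Acts u h B) :
    Acts u (g * h) (A * B) := fun v => by
  rw [LinearEquiv.mul_apply, hh, hg, mul_smul]

theorem Acts.inv {g : V ≃ₗ[ℚ] V} {A : Co0} (hg : Acts u g A) : Acts u g⁻¹ A⁻¹ := fun v => by
  have h1 := hg (A⁻¹ • v)
  rw [smul_inv_smul] at h1
  rw [← h1, ← LinearEquiv.mul_apply, inv_mul_cancel]
  rfl

theorem ULink.exists_letter (U : ULink u) {n : ℕ} (hn : n < 40) : ∃ A, Acts u (E n) A := by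
  by_cases h1 : n < 24
  · exact ⟨1, U.q n h1⟩
  by_cases h2 : n < 36
  · obtain ⟨i, rfl⟩ : ∃ i, n = 24 + i := ⟨n - 24, by omega⟩
    obtain ⟨A, hA, _⟩ := U.sign i (by omega)
    exact ⟨A, hA⟩
  have h3 : n = 36 ∨ n = 37 ∨ n = 38 ∨ n = 39 := by omega
  rcases h3 with rfl | rfl | rfl | rfl
  · exact ⟨_, U.shift.choose_spec.1⟩
  · exact ⟨_, U.cube.choose_spec.1⟩
  · exact ⟨_, U.inv.choose_spec.1⟩
  · exact ⟨_, U.xi.choose_spec.1⟩

theorem ULink.exists_acts (U : ULink u) (k : V ≃ₗ[ℚ] V) (hk : k ∈ C) : ∃ A, Acts u k A := by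
  unfold C at hk
  induction hk using Subgroup.closure_induction with
  | mem g hg =>
    obtain ⟨n, hn, rfl⟩ := hg
    exact U.exists_letter hn
  | one => exact ⟨1, Acts.one⟩
  | mul x y _ _ hx hy =>
    obtain ⟨A, hA⟩ := hx
    obtain ⟨B, hB⟩ := hy
    exact ⟨A * B, hA.mul hB⟩
  | inv x _ hx =>
    obtain ⟨A, hA⟩ := hx
    exact ⟨A⁻¹, hA.inv⟩

/-- The relation "`k` induces `A`". -/
def R (u : leechLattice → V) (k : C) (A : Co0) : Prop := Acts u (k : V ≃ₗ[ℚ] V) A

theorem ULink.ind (U : ULink u) : Ind C (R u) where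
  one := Acts.one
  mul := fun h1 h2 => Acts.mul h1 h2
  inv := fun h1 => Acts.inv h1
  ex := fun h => U.exists_acts h h.2
  pm := fun {A} h1 => U.pm A fun v => (h1 v).symm

/-- The letters as elements of `C` (the letters `≥ 40` other than `42`, `43` are replaced by `1`). -/
noncomputable def EC (a : ℕ) : C := by
  classical
  exact if h : E a ∈ C then ⟨E a, h⟩ else 1

theorem EC_coe {a : ℕ} (h : E a ∈ C) : (EC a : V ≃ₗ[ℚ] V) = E a := by
  unfold EC
  rw [dif_pos h]

theorem EC_coe_lt {a : ℕ} (h : a < 40) : (EC a : V ≃ₗ[ℚ] V) = E a := EC_coe (E_mem_C h)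

theorem ULink.mem_42 (U : ULink u) : E 42 ∈ C := by
  rw [U.shift_inv]
  exact C.inv_mem (E_mem_C (by norm_num))

theorem ULink.mem_43 (U : ULink u) : E 43 ∈ C := by
  rw [U.cube_inv]
  exact C.inv_mem (E_mem_C (by norm_num))

theorem ULink.letters (U : ULink u) : Letters U.ind EC where
  q := fun a ha => by
    show Acts u _ _
    rw [EC_coe_lt (by omega)]
    exact U.q a ha
  sign := fun i hi => by
    obtain ⟨A, hA, hA'⟩ := U.sign i hi
    refine ⟨A, ?_, hA'⟩
    show Acts u _ _
    rw [EC_coe_lt (by omega)]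
    exact hA
  shift := by
    obtain ⟨A, hA, hA'⟩ := U.shift
    refine ⟨A, ?_, hA'⟩
    show Acts u _ _
    rw [EC_coe_lt (by norm_num)]
    exact hA
  cube := by
    obtain ⟨A, hA, hA'⟩ := U.cube
    refine ⟨A, ?_, hA'⟩
    show Acts u _ _
    rw [EC_coe_lt (by norm_num)]
    exact hA
  inv := by
    obtain ⟨A, hA, hA'⟩ := U.inv
    refine ⟨A, ?_, hA'⟩
    show Acts u _ _
    rw [EC_coe_lt (by norm_num)]
    exact hA
  xi := by
    obtain ⟨A, hA, hA'⟩ := U.xi
    refine ⟨A, ?_, hA'⟩
    show Acts u _ _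
    rw [EC_coe_lt (by norm_num)]
    exact hA
  shift_inv := by
    apply Subtype.ext
    rw [EC_coe U.mem_42, U.shift_inv]
    show _ = ((EC 36 : C) : V ≃ₗ[ℚ] V)⁻¹
    rw [EC_coe_lt (by norm_num)]
  cube_inv := by
    apply Subtype.ext
    rw [EC_coe U.mem_43, U.cube_inv]
    show _ = ((EC 37 : C) : V ≃ₗ[ℚ] V)⁻¹
    rw [EC_coe_lt (by norm_num)]

/-- **The frames of the concrete model.** -/
theorem ULink.frames (U : ULink u) : Frames C N ξ (coded U.ind).y0 (nb U.ind) := by
  have h39 : ((EC 39 : C) : V ≃ₗ[ℚ] V) = ξ := EC_coe_lt (by norm_num)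
  have h := FrameInst.frames C N U.ind EC U.letters
    (by
      unfold N
      congr 1
      ext g
      constructor
      · rintro ⟨n, hn, rfl⟩
        exact ⟨n, hn, (EC_coe_lt (by omega)).symm⟩
      · rintro ⟨n, hn, rfl⟩
        exact ⟨n, hn, EC_coe_lt (by omega)⟩)
    (by rw [h39]; exact C_eq)
    (fun k hk => Q_le_N (U.ker k k.2 fun v => by
      have h1 := hk v
      rw [one_smul] at h1
      exact h1))
    (by rw [h39]; exact U.xi_sq)
  rw [h39] at h
  exact h

end Cfsg.Agent.MonsterX.FrameConc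
end

-- part: MonsterX/FrameU
section
prune_inst 0x3022000000000080030020000c000000002000010000004000012300004001000680100080000e0040000000000000400020000000000000000000000002400002240d04340000000004000000000000000000000000000000000000000000000
set_option linter.all false
open scoped Cfsg.Agent.FastGrp

/-!
# The hypotheses of `ULink` for the concrete model

Everything except `ξ ^ 2 = 1` and the kernel.
-/

set_option autoImplicit false

namespace Cfsg.Agent.MonsterX.FrameU

open Cfsg Cfsg.Agent.LeechMat.Core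
open Cfsg.Agent.MonsterX.Space Cfsg.Agent.MonsterX.Conc Cfsg.Agent.MonsterX.FrameConc
open Cfsg.Agent.MonsterX.FrameStab Cfsg.Agent.MonsterX.FrameLet Cfsg.Agent.MonsterX.KSide
open Cfsg.Agent.MonsterX.CoGens Cfsg.Agent.MonsterX.MatAct

/-- The sextet element. -/
theorem isXi_xiA : IsXi xiA := by
  intro v p
  have h1 := xiA_coe v p
  have h2 : ∀ q : GolayPt, tetT.getD (Cfsg.Agent.SporadicA.M24Gens.pidx q) 0 = tetL.getD (Cfsg.Agent.LeechMat.Code.pos q) 0 := by
    decide +kernel
  have h3 : ∀ q : GolayPt, (4 ≤ Cfsg.Agent.SporadicA.M24Gens.pidx q ↔ ¬ tetL.getD (Cfsg.Agent.LeechMat.Code.pos q) 0 = 0) := by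
    decide +kernel
  simp only [h2] at h1
  have h4 : ((2 * ((xiA • v : leechLattice) : GolayPt → ℤ) p : ℤ) : ℚ) =
      (((if tetL.getD (Cfsg.Agent.LeechMat.Code.pos p) 0 = 0 then -1 else 1) * (2 * (v : GolayPt → ℤ) p -
      ∑ q : GolayPt, if tetL.getD (Cfsg.Agent.LeechMat.Code.pos q) 0 = tetL.getD (Cfsg.Agent.LeechMat.Code.pos p) 0 then (v : GolayPt → ℤ) q else 0) : ℤ) : ℚ) := by
    have h5 : ((2 * ((xiA • v : leechLattice) : GolayPt → ℤ) p : ℤ) : ℚ) = 2 * rt (xiA • v) p := by
      push_cast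
      rfl
    rw [h5, h1]
    push_cast
    by_cases h6 : tetL.getD (Cfsg.Agent.LeechMat.Code.pos p) 0 = 0
    · rw [if_pos h6, if_neg (fun h7 => (h3 p).1 h7 h6)]
    · rw [if_neg h6, if_pos ((h3 p).2 h6)]
  exact_mod_cast h4

/-- Elements of `Co0` are determined up to sign by the vectors `u v`. -/
theorem pm (A : Co0) (h : ∀ v, USide.u (A • v) = USide.u v) :
    (∀ v : leechLattice, A • v = v) ∨ (∀ v : leechLattice, A • v = -v) := by
  have hpm : ∀ v : leechLattice, A • v = v ∨ A • v = -v := by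
    intro v
    have h1 : F (USide.u v) (USide.u (A • v)) = F (USide.u v) (USide.u v) := by rw [h]
    rw [USide.B_uu, USide.B_uu] at h1
    have h2 : ((dot v (A • v) : ℤ) : ℚ) ^ 2 = ((dot v v : ℤ) : ℚ) ^ 2 := by linarith
    have h3 : (dot v (A • v)) ^ 2 = (dot v v) ^ 2 := by exact_mod_cast h2
    have hd : dot v v = nrm v := (sqNorm_eq_dotInt _).symm
    rcases sq_eq_sq_iff_eq_or_eq_neg.1 h3 with h4 | h4
    · left
      have h5 : nrm (A • v - v) = 0 := by
        show sqNorm _ = 0
        rw [AddSubgroup.coe_sub, sqNorm_sub, co0_sqNorm, dotInt_comm]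
        have : dotInt (v : GolayPt → ℤ) ((A • v : leechLattice) : GolayPt → ℤ) = dot v v := h4
        rw [this, hd]
        ring
      exact sub_eq_zero.1 (Subtype.ext (sqNorm_eq_zero h5))
    · right
      have h5 : nrm (A • v + v) = 0 := by
        show sqNorm _ = 0
        rw [AddSubgroup.coe_add, sqNorm_add, co0_sqNorm, dotInt_comm]
        have : dotInt (v : GolayPt → ℤ) ((A • v : leechLattice) : GolayPt → ℤ) = -dot v v := h4
        rw [this, hd]
        ring
      exact eq_neg_of_add_eq_zero_left (Subtype.ext (sqNorm_eq_zero h5))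
  by_contra hcon
  push Not at hcon
  obtain ⟨⟨v, hv⟩, ⟨w, hw⟩⟩ := hcon
  have hv' : A • v = -v := (hpm v).resolve_left hv
  have hw' : A • w = w := (hpm w).resolve_right hw
  rcases hpm (v + w) with h1 | h1
  · rw [co0_smul_add, hv', hw'] at h1
    exact hv (by rw [hv', add_right_cancel h1])
  · rw [co0_smul_add, hv', hw', neg_add] at h1
    exact hw (by rw [hw']; exact add_left_cancel h1)

theorem acts {n : ℕ} (hn : n < 40) : _root_.Cfsg.Agent.MonsterX.FrameConc.Acts USide.u (E n) (A n) := fun v => USide.act_u hn v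

/-- `ULink` from `ξ ^ 2 = 1` and the kernel. -/
theorem ulink (hxi : E 39 * E 39 = 1)
    (hker : ∀ k ∈ C, (∀ v, k (USide.u v) = USide.u v) → k ∈ Q) : ULink USide.u where
  q := fun n hn => by
    have h := acts (n := n) (by omega)
    rw [A_lt hn] at h
    exact h
  sign := fun i hi => ⟨sg i, by
    have h := acts (n := 24 + i) (by omega)
    rw [A_sg hi] at h
    exact h, isSign_sg hi⟩
  shift := ⟨pS, acts (n := 36) (by norm_num), isPerm_pS⟩
  cube := ⟨pC, acts (n := 37) (by norm_num), isPerm_pC⟩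
  inv := ⟨pI, acts (n := 38) (by norm_num), isPerm_pI⟩
  xi := ⟨xiA, acts (n := 39) (by norm_num), isXi_xiA⟩
  shift_inv := ProgM.Inv.E_paInv
  cube_inv := ProgM.Inv.E_pdInv
  xi_sq := hxi
  pm := pm
  ker := hker

end Cfsg.Agent.MonsterX.FrameU
end

-- part: MonsterX/OrdChk
section
prune_inst 0x1000302200000000000002003c0048000000002b800141000a400601210100400720b690120081000e2448088008110001290210000020008e00411900800c83400022340c04170006804802400000000000000000000000000000000000000000000
set_option linter.all false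
open scoped Cfsg.Agent.FastGrp

/-!
# Orders of the products `t₀ t_y`, `y` an axis: checks on vectors

`y = W (w ++ u) a₀` (`w` the word of `d j`, `u` a word in the letters of `C`).  `pairC k w u` is a kernel check
(`k = 0, 1, 2, 3, 4`) which gives `(t₀ t_y) ^ n = 1` with `n = 1, 2, 4, 6, 5`.
-/

set_option autoImplicit false

namespace Cfsg.Agent.MonsterX.OrdChk

open Cfsg.Agent.Monster.VecEngine Cfsg.Agent.Monster.VecSpace Cfsg.Agent.MonsterX.Space
open Cfsg.Agent.MonsterX.ProgTable Cfsg.Agent.MonsterX.GensT Cfsg.Agent.MonsterX.ProgBase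
open Cfsg.Agent.MonsterX.Conc Cfsg.Agent.MonsterX.Model Cfsg.Agent.MonsterX.InstData

/-! ### Evaluation of words -/

theorem good_list (w : List ℕ) : ∀ P ∈ w.map prog, GoodT P := progs_goodT w

/-- The result of a run is the vector of the word. -/
theorem run_W {w : List ℕ} {x : Pl} {k : Pl → Bool} (h : runL (CertVec.dec prog w) x k = true) :
    ∃ y, W w (vecV x) = vecV y ∧ k y = true := by
  rw [CertVec.dec_eq] at h
  obtain ⟨y, hy, hk⟩ := runL_sound ℚ two_ne_zero (w.map prog) (fun P hP => (good_list w P hP).good.ok) x k h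
  refine ⟨y, ?_, hk⟩
  unfold W vecV
  rw [WP_pr (good_list w)]
  congr 1
  rw [vecU_eq, vecU_eq, hy, res_semL ℚ (fun P hP => (good_list w P hP).good.pres)]

/-- `256` times the base axis. -/
noncomputable def A : Pl := up 8 a0B

theorem vecV_A : vecV A = (2 : ℚ) ^ 8 • vecV a0B := vecV_up 8 a0B

/-- `t₀` fixes the vector `W w a₀`. -/
noncomputable def fixC (w : List ℕ) : Bool :=
  Monster.VecFast.runLF (CertVec.dec prog w) A fun y => Monster.VecFast.checkFixF (CertVec.dec prog [13, 14]) y

theorem smul_cancel {x y : V} (h : (2 : ℚ) ^ 8 • x = (2 : ℚ) ^ 8 • y) : x = y :=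
  smul_right_injective V (pow_ne_zero 8 (two_ne_zero : (2 : ℚ) ≠ 0)) h

theorem fixC_sound {w : List ℕ} (h : fixC w = true) : M.t₀ (W w M.a₀) = W w M.a₀ := by
  obtain ⟨y, hy, hk⟩ := run_W (Monster.VecFast.runL_of h)
  rw [CertVec.dec_eq, ← Monster.VecFast.checkFix_eq] at hk
  have h1 : W [13, 14] (vecV y) = vecV y := W_fix_of_check hk
  rw [← hy, vecV_A, map_smul, map_smul] at h1
  rw [M_a₀]
  exact smul_cancel h1

/-- `W w₁ a₀ = W w₂ a₀`. -/
noncomputable def eqC (w₁ w₂ : List ℕ) : Bool :=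
  Monster.VecFast.checkF (CertVec.dec prog w₁) A (CertVec.dec prog w₂) A

theorem eqC_sound {w₁ w₂ : List ℕ} (h : eqC w₁ w₂ = true) : W w₁ M.a₀ = W w₂ M.a₀ := by
  unfold eqC at h
  rw [CertVec.dec_eq, CertVec.dec_eq, ← Monster.VecFast.check_eq] at h
  have h1 := W_eq_of_check h
  rw [vecV_A, map_smul, map_smul] at h1
  rw [M_a₀]
  exact smul_cancel h1

/-! ### Inverse words -/

/-- The inverse letter. -/
noncomputable def iv (n : ℕ) : ℕ :=
  Bool.rec (Bool.rec (Bool.rec n (Nat.xor n 1) (Nat.beq (Nat.div n 2) 20)) (Nat.sub n 6) (Nat.ble 42 n && Nat.ble n 44))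
    (Nat.add n 6) (Nat.ble 36 n && Nat.ble n 38)

example : iv 36 = 42 := by decide +kernel
example : iv 40 = 41 := by decide +kernel
example : iv 41 = 40 := by decide +kernel
example : iv 44 = 38 := by decide +kernel
example : iv 39 = 39 := by decide +kernel
example : iv 45 = 45 := by decide +kernel

/-- The inverse word, in front of `acc`. -/
noncomputable def ivA (w : List ℕ) : List ℕ → List ℕ :=
  List.rec (motive := fun _ => List ℕ → List ℕ) (fun acc => acc) (fun n _ ih acc => ih (iv n :: acc)) w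

/-- Concatenation. -/
noncomputable def cat (w : List ℕ) (v : List ℕ) : List ℕ :=
  List.rec (motive := fun _ => List ℕ) v (fun n _ ih => n :: ih) w

theorem cat_eq (w v : List ℕ) : cat w v = w ++ v := by
  induction w with
  | nil => rfl
  | cons n w ih => show n :: cat w v = _; rw [ih]; rfl

/-- The inverse letters are inverse. -/
def Inv : Prop := ∀ n < 46, E (iv n) * E n = 1

/-- All letters are less than `46`. -/
def Lt (w : List ℕ) : Prop := ∀ n ∈ w, n < 46

theorem W_ivA (hI : Inv) (w acc : List ℕ) (hw : Lt w) : W (ivA w acc) = W acc * (W w)⁻¹ := by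
  induction w generalizing acc with
  | nil => show W acc = _; rw [W_nil, inv_one, mul_one]
  | cons n w ih =>
    show W (ivA w (iv n :: acc)) = _
    rw [ih _ (fun m hm => hw m (by simp [hm])), W_cons, W_cons, mul_inv_rev]
    have h := hI n (hw n (by simp))
    have h1 : E (iv n) = (E n)⁻¹ := eq_inv_of_mul_eq_one_left h
    rw [h1, mul_assoc]

/-! ### The group theory -/

section grp

variable {Γ : Type*} [Group Γ] {t s : Γ}

theorem pow_1 {t s : Γ} (ht : t * t = 1) (h : s = t) : (t * s) ^ 1 = 1 := by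
  rw [h, _root_.pow_one, ht]

/-- `s` commutes with `t`. -/
theorem pow_two (ht : t * t = 1) (hs : s * s = 1) (h : s * t = t * s) : (t * s) ^ 2 = 1 := by
  rw [_root_.pow_two]
  calc t * s * (t * s) = t * (s * t) * s := by group
    _ = (t * t) * (s * s) := by rw [h]; group
    _ = 1 := by rw [ht, hs, one_mul]

/-- `s t s` commutes with `t`. -/
theorem pow_four (ht : t * t = 1) (hs : s * s = 1) (h : (s * t * s) * t = t * (s * t * s)) : (t * s) ^ 4 = 1 := by
  have h1 : (t * s) ^ 4 = (t * (s * t * s)) ^ 2 := by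
    rw [show (4 : ℕ) = 2 * 2 from rfl, pow_mul, _root_.pow_two (t * s)]
    congr 1
    group
  rw [h1]
  refine pow_two ht ?_ h
  calc s * t * s * (s * t * s) = s * t * (s * s) * t * s := by group
    _ = 1 := by rw [hs, mul_one, mul_assoc s t t, ht, mul_one, hs]

/-- `s t s t s` commutes with `t`. -/
theorem pow_six (ht : t * t = 1) (hs : s * s = 1) (h : (s * t * s * t * s) * t = t * (s * t * s * t * s)) :
    (t * s) ^ 6 = 1 := by
  have h1 : (t * s) ^ 6 = (t * (s * t * s * t * s)) ^ 2 := by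
    rw [show (6 : ℕ) = 3 * 2 from rfl, pow_mul]
    congr 1
    rw [show (3 : ℕ) = 2 + 1 from rfl, pow_succ, _root_.pow_two]
    group
  rw [h1]
  refine pow_two ht ?_ h
  calc s * t * s * t * s * (s * t * s * t * s) = s * t * s * t * (s * s) * t * s * t * s := by group
    _ = 1 := by
      rw [hs, mul_one, mul_assoc (s * t * s) t t, ht, mul_one, mul_assoc (s * t) s s, hs, mul_one, mul_assoc s t t,
        ht, mul_one, hs]

/-- `t s t s t = s t s t s`. -/
theorem pow_five (ht : t * t = 1) (hs : s * s = 1) (h : t * s * t * s * t = s * t * s * t * s) : (t * s) ^ 5 = 1 := by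
  have h1 : (t * s) ^ 5 = (t * s * t * s * t) * (s * t * s * t * s) := by
    simp only [pow_succ, pow_zero, one_mul]
    group
  rw [h1, h]
  calc s * t * s * t * s * (s * t * s * t * s) = s * t * s * t * (s * s) * t * s * t * s := by group
    _ = 1 := by
      rw [hs, mul_one, mul_assoc (s * t * s) t t, ht, mul_one, mul_assoc (s * t) s s, hs, mul_one, mul_assoc s t t,
        ht, mul_one, hs]

end grp

/-! ### The check of a pair -/

/-- The letters of `t₀`. -/
def T0 : List ℕ := [13, 14]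

/-- `t_y a₀`, as a word with `acc` appended: `g⁻¹, t₀, g`. -/
noncomputable def cyA (g acc : List ℕ) : List ℕ := ivA g (13 :: 14 :: cat g acc)

/-- The kernel check for the pair `(a₀, W g a₀)`; `k = 0, 1, 2, 3, 4` for `n = 1, 2, 4, 6, 5`. -/
noncomputable def pairC (k : ℕ) (g : List ℕ) : Bool :=
  Nat.rec (motive := fun _ => Bool) (eqC g [])
    (fun k1 _ => Nat.rec (motive := fun _ => Bool) (fixC (ivA g []))
      (fun k2 _ => Nat.rec (motive := fun _ => Bool) (fixC (cyA g []))
        (fun k3 _ => Nat.rec (motive := fun _ => Bool) (fixC (cyA g (13 :: 14 :: ivA g [])))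
          (fun _ _ => eqC (cyA g [13, 14]) (cat g (13 :: 14 :: cyA g []))) k3) k2) k1) k

/-- The order bound belonging to `k`. -/
def bnd : ℕ → ℕ
  | 0 => 1
  | 1 => 2
  | 2 => 4
  | 3 => 6
  | _ => 5

theorem bnd_pos (k : ℕ) : 0 < bnd k := by
  unfold bnd; split <;> norm_num

theorem bnd_le (k : ℕ) : bnd k ≤ 6 := by
  unfold bnd; split <;> norm_num

theorem W_T0 (acc : List ℕ) : W (13 :: 14 :: acc) = W acc * M.t₀ := by
  rw [show (13 :: 14 :: acc : List ℕ) = [13, 14] ++ acc from rfl, W_append]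
  rfl

theorem W_cyA (hI : Inv) {g : List ℕ} (hg : Lt g) (acc : List ℕ) :
    W (cyA g acc) = W acc * (W g * M.t₀ * (W g)⁻¹) := by
  unfold cyA
  rw [W_ivA hI _ _ hg, W_T0, cat_eq, W_append]
  group

/-- **Soundness of the pair check.** -/
theorem pairC_sound (hI : Inv) (ht : M.t₀ * M.t₀ = 1) (hst : ∀ g ∈ M.G, g M.a₀ = M.a₀ → g * M.t₀ = M.t₀ * g)
    (htG : M.t₀ ∈ M.G) {k : ℕ} {g : List ℕ} (hg : Lt g) (hgG : W g ∈ M.G) (h : pairC k g = true) :
    (M.t₀ * (W g * M.t₀ * (W g)⁻¹)) ^ bnd k = 1 := by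
  have hsG : W g * M.t₀ * (W g)⁻¹ ∈ M.G := M.G.mul_mem (M.G.mul_mem hgG htG) (M.G.inv_mem hgG)
  have hs : (W g * M.t₀ * (W g)⁻¹) * (W g * M.t₀ * (W g)⁻¹) = 1 := by
    calc (W g * M.t₀ * (W g)⁻¹) * (W g * M.t₀ * (W g)⁻¹) = W g * (M.t₀ * M.t₀) * (W g)⁻¹ := by group
      _ = 1 := by rw [ht]; group
  match k, h with
  | 0, h =>
    have h1 : W g M.a₀ = M.a₀ := by
      have := eqC_sound (show eqC g [] = true from h)
      rwa [W_nil] at this
    have h2 := hst _ hgG h1
    refine pow_1 ht ?_
    rw [h2]; group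
  | 1, h =>
    have h1 := fixC_sound (show fixC (ivA g []) = true from h)
    rw [W_ivA hI _ _ hg, W_nil, one_mul] at h1
    have h2 : (W g * M.t₀ * (W g)⁻¹) M.a₀ = M.a₀ := by
      show (W g) (M.t₀ ((W g)⁻¹ M.a₀)) = M.a₀
      rw [h1]
      exact (W g).apply_symm_apply _
    exact pow_two ht hs (hst _ hsG h2)
  | 2, h =>
    have h1 := fixC_sound (show fixC (cyA g []) = true from h)
    rw [W_cyA hI hg, W_nil, one_mul] at h1
    generalize hsd : W g * M.t₀ * (W g)⁻¹ = s at hs h1 hsG ⊢
    refine pow_four ht hs (hst _ (M.G.mul_mem (M.G.mul_mem hsG htG) hsG) ?_)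
    show s (M.t₀ (s M.a₀)) = M.a₀
    rw [h1]
    exact congrArg (fun e : V ≃ₗ[ℚ] V => e M.a₀) hs
  | 3, h =>
    have h1 := fixC_sound (show fixC (cyA g (13 :: 14 :: ivA g [])) = true from h)
    rw [W_cyA hI hg, W_T0, W_ivA hI _ _ hg, W_nil, one_mul] at h1
    have h2 : (W g * M.t₀ * (W g)⁻¹) (M.t₀ ((W g * M.t₀ * (W g)⁻¹) M.a₀)) = M.t₀ ((W g * M.t₀ * (W g)⁻¹) M.a₀) := by
      have h3 := congrArg (fun x => W g x) h1
      have h4 : ∀ x : V, W g ((W g)⁻¹ x) = x := fun x => (W g).apply_symm_apply x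
      have h5 : ∀ x : V, ((W g)⁻¹ * M.t₀ * (W g * M.t₀ * (W g)⁻¹)) x =
          (W g)⁻¹ (M.t₀ ((W g * M.t₀ * (W g)⁻¹) x)) := fun x => rfl
      simp only [h5, h4] at h3
      exact h3
    generalize hsd : W g * M.t₀ * (W g)⁻¹ = s at hs h2 hsG ⊢
    refine pow_six ht hs (hst _ (M.G.mul_mem (M.G.mul_mem (M.G.mul_mem (M.G.mul_mem hsG htG) hsG) htG) hsG) ?_)
    show s (M.t₀ (s (M.t₀ (s M.a₀)))) = M.a₀
    rw [h2]
    have h6 : ∀ x : V, M.t₀ (M.t₀ x) = x := fun x => congrArg (fun e : V ≃ₗ[ℚ] V => e x) ht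
    rw [h6]
    exact congrArg (fun e : V ≃ₗ[ℚ] V => e M.a₀) hs
  | (k + 4), h =>
    have h1 := eqC_sound (show eqC (cyA g [13, 14]) (cat g (13 :: 14 :: cyA g [])) = true from h)
    rw [W_cyA hI hg, cat_eq, W_append, W_T0, W_T0, W_cyA hI hg, W_nil, one_mul, one_mul] at h1
    show (M.t₀ * (W g * M.t₀ * (W g)⁻¹)) ^ 5 = 1
    generalize hsd : W g * M.t₀ * (W g)⁻¹ = s at hs h1 hsG ⊢
    have h2 : ((s * M.t₀ * W g)⁻¹ * (M.t₀ * s)) M.a₀ = M.a₀ := by
      show (s * M.t₀ * W g)⁻¹ ((M.t₀ * s) M.a₀) = M.a₀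
      rw [h1]
      exact (s * M.t₀ * W g).symm_apply_apply _
    have h3 := hst _ (M.G.mul_mem (M.G.inv_mem (M.G.mul_mem (M.G.mul_mem hsG htG) hgG)) (M.G.mul_mem htG hsG)) h2
    have hti : M.t₀⁻¹ = M.t₀ := inv_eq_of_mul_eq_one_left ht
    have hsi : s⁻¹ = s := inv_eq_of_mul_eq_one_left hs
    refine pow_five ht hs ?_
    have h4 : (M.t₀ * s) * M.t₀ * (M.t₀ * s)⁻¹ = (s * M.t₀ * W g) * M.t₀ * (s * M.t₀ * W g)⁻¹ := by
      calc (M.t₀ * s) * M.t₀ * (M.t₀ * s)⁻¹
          = (s * M.t₀ * W g) * (((s * M.t₀ * W g)⁻¹ * (M.t₀ * s)) * M.t₀) * (M.t₀ * s)⁻¹ := by group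
        _ = (s * M.t₀ * W g) * (M.t₀ * ((s * M.t₀ * W g)⁻¹ * (M.t₀ * s))) * (M.t₀ * s)⁻¹ := by rw [h3]
        _ = _ := by group
    have h5 : (M.t₀ * s)⁻¹ = s * M.t₀ := by rw [mul_inv_rev, hti, hsi]
    have h6 : (s * M.t₀ * W g) * M.t₀ * (s * M.t₀ * W g)⁻¹ = s * M.t₀ * s * M.t₀ * s := by
      calc (s * M.t₀ * W g) * M.t₀ * (s * M.t₀ * W g)⁻¹ = s * M.t₀ * (W g * M.t₀ * (W g)⁻¹) * M.t₀⁻¹ * s⁻¹ := by group
        _ = _ := by rw [hsd, hti, hsi]
    rw [← h6, ← h4, h5]
    group

/-- All pairs `(k, u)` of the list pass the check for the word `w`. -/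
noncomputable def allP (w : List ℕ) (t : List (ℕ × List ℕ)) : Bool :=
  List.rec (motive := fun _ => Bool) true (fun p _ ih => and (pairC p.1 (cat w p.2)) ih) t

theorem allP_spec {w : List ℕ} {t : List (ℕ × List ℕ)} (h : allP w t = true) :
    ∀ p ∈ t, pairC p.1 (w ++ p.2) = true := by
  induction t with
  | nil => simp
  | cons p t ih =>
    have h' : and (pairC p.1 (cat w p.2)) (allP w t) = true := h
    rw [Bool.and_eq_true, cat_eq] at h'
    intro q hq
    rcases List.mem_cons.1 hq with rfl | hq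
    · exact h'.1
    · exact ih h'.2 q hq

end Cfsg.Agent.MonsterX.OrdChk
end

-- part: MonsterX/PairValTab
section
set_option linter.all false
open scoped Cfsg.Agent.FastGrp

/-!
# The inner products of the pair table: the data

`vT`: for the representative `m` of class `j` the numbers `256 F(a₀, y)`, `256 F(a₁, y)`, `y = W (uw j m) (d j)`.
-/

set_option autoImplicit false

namespace Cfsg.Agent.MonsterX.PairValTab

open Cfsg.Agent.MonsterX.InstData Cfsg.Agent.MonsterX.InstEval Cfsg.Agent.MonsterX.CertUTab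

/-- The table of values. -/
def vT : List (List (ℤ × ℤ)) := [
  [(0, 2048), (256, 256), (0, 0), (64, 64)],
  [(0, 256), (64, 64), (0, 0), (32, 32)],
  [(0, 64), (64, 256), (32, 32), (64, 64), (40, 40), (104, 104)],
  [(256, 32), (64, 32), (64, 64), (0, 32), (32, 32), (64, 32), (48, 48), (40, 40), (40, 40), (40, 104)],
  [(64, 64), (64, 32), (32, 32), (0, 64), (40, 40), (48, 48), (32, 32)],
  [(0, 104), (64, 40), (32, 40), (104, 64), (40, 256), (40, 40), (48, 48), (40, 40), (64, 64)],
  [(40, 64), (32, 40), (40, 32), (104, 32), (64, 40), (0, 40), (40, 40), (48, 48), (48, 40), (40, 40), (32, 32)],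
  [(40, 40), (64, 32), (48, 48), (32, 32), (40, 48)],
  [(32, 64), (40, 40), (40, 104), (64, 64), (32, 32), (40, 40), (40, 32), (40, 48), (40, 48), (48, 48), (64, 40), (40, 48), (40, 40), (64, 48)],
  [(64, 40), (48, 64), (48, 40), (0, 48), (32, 40), (40, 40), (48, 32), (40, 40), (104, 48), (40, 40), (48, 48), (64, 64)],
  [(48, 32), (32, 40), (64, 40), (40, 40), (40, 48), (64, 48), (32, 48), (40, 40), (48, 40), (48, 48), (40, 40), (32, 48)],
  [(32, 64), (64, 40), (48, 48), (40, 48), (48, 40), (40, 40), (40, 40), (64, 40), (32, 40), (40, 32), (40, 40), (48, 32), (40, 40), (48, 40), (48, 40), (48, 48), (32, 40), (40, 40), (64, 40), (64, 48), (104, 40)]]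

/-- The values of the representative `m` of class `j`. -/
def vs (j m : ℕ) : ℤ × ℤ := (vT.getD j []).getD m (0, 0)

/-- The kernel check of the values of the representative `m` of class `j`. -/
noncomputable def valC (j m : ℕ) : Bool := formIs 8 (bj j ++ uw j m) a0B (vs j m).1 (vs j m).2

/-- The kernel check of the representatives `a, …, a + k - 1` of class `j`. -/
noncomputable def valsC (j a k : ℕ) : Bool :=
  Nat.rec (motive := fun _ => Bool) true (fun i ih => and (valC j (Nat.add a i)) ih) k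

theorem valsC_spec {j a k : ℕ} (h : valsC j a k = true) : ∀ m, a ≤ m → m < a + k → valC j m = true := by
  induction k with
  | zero => intro m h1 h2; omega
  | succ k ih =>
    have h' : and (valC j (a + k)) (valsC j a k) = true := h
    rw [Bool.and_eq_true] at h'
    intro m h1 h2
    rcases Nat.lt_succ_iff_lt_or_eq.1 (show m < (a + k) + 1 by omega) with h3 | rfl
    · exact ih h'.2 m h1 h3
    · exact h'.1

end Cfsg.Agent.MonsterX.PairValTab
end

-- part: MonsterX/ProgEqT
section
set_option linter.all false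

set_option autoImplicit false
set_option Elab.async false
set_option maxRecDepth 100000

namespace Cfsg.Agent.MonsterX.ProgEqT

open Cfsg.Agent.MonsterX.ProgEqBase

theorem tau_tauInv_L : chkL [40, 41] [] = true := by decide +kernel
theorem tau_tauInv_A : chkT [40, 41] [] tsA = true := by decide +kernel
theorem tau_tauInv_B : chkT [40, 41] [] tsB = true := by decide +kernel
theorem tau_tauInv_C : chkT [40, 41] [] tsC = true := by decide +kernel
theorem tau_tauInv_D : chkT [40, 41] [] tsD = true := by decide +kernel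

/-- `τ⁻¹ τ = 1`. -/
theorem tau_tauInv : SEq [40, 41] [] := seq_of tau_tauInv_L tau_tauInv_A tau_tauInv_B tau_tauInv_C tau_tauInv_D

theorem tau_cube_L : chkL [40, 40, 40] [] = true := by decide +kernel
theorem tau_cube_A : chkT [40, 40, 40] [] tsA = true := by decide +kernel
theorem tau_cube_B : chkT [40, 40, 40] [] tsB = true := by decide +kernel
theorem tau_cube_C : chkT [40, 40, 40] [] tsC = true := by decide +kernel
theorem tau_cube_D : chkT [40, 40, 40] [] tsD = true := by decide +kernel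

/-- `τ³ = 1`. -/
theorem tau_cube : SEq [40, 40, 40] [] := seq_of tau_cube_L tau_cube_A tau_cube_B tau_cube_C tau_cube_D

theorem d0_tau_L : chkL [12, 40] [41, 12] = true := by decide +kernel
theorem d0_tau_A : chkT [12, 40] [41, 12] tsA = true := by decide +kernel
theorem d0_tau_B : chkT [12, 40] [41, 12] tsB = true := by decide +kernel
theorem d0_tau_C : chkT [12, 40] [41, 12] tsC = true := by decide +kernel
theorem d0_tau_D : chkT [12, 40] [41, 12] tsD = true := by decide +kernel

/-- `τ x_0 = x_0 τ⁻¹` for the odd `x_0`. -/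
theorem d0_tau : SEq [12, 40] [41, 12] := seq_of d0_tau_L d0_tau_A d0_tau_B d0_tau_C d0_tau_D

end Cfsg.Agent.MonsterX.ProgEqT
end

-- part: MonsterX/CertBase
section
set_option linter.all false
open scoped Cfsg.Agent.FastGrp

/-!
The base vector, the words and the monomial invariants for the certificates of the Monster model.

* `a0` = `256` times the axis of `x_{01}`;
* `wv w` = the vector of the word `w` (letters of `ProgTable`, the first letter acts first) applied to `a0`;
* `ident w₁ w₂` = kernel check of `wv w₁ = wv w₂`, `ident_sound`;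
* `inv3 w` = the three counts (zeros of the matrix off the diagonal, zeros and `±2` in the `Y ∪ Z` region).
-/

set_option autoImplicit false
set_option maxRecDepth 100000

namespace Cfsg.Agent.MonsterX.CertBase

open Cfsg.Agent.Monster.VecEngine Cfsg.Agent.Monster.VecSpace Cfsg.Agent.MonsterX.ProgBase
  Cfsg.Agent.MonsterX.ProgTable Cfsg.Agent.MonsterX.CertVec

/-- One lane. -/
noncomputable def b1 (i : ℕ) : ℕ := Nat.shiftLeft 1 i

/-- `256` times the axis of `x_{01}`. -/
noncomputable def a0 : Pl :=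
  .cons 0 (.cons 0 (.cons 0 (.cons 0 (.cons 0 (.cons 0 (.cons 0 (.cons 0
    (.cons (Nat.lor (Nat.lor (b1 61440) (b1 61441)) (Nat.lor (b1 61472) (b1 61473)))
      (.cons (Nat.lor (b1 62465) (Nat.lor (b1 61441) (b1 61472)))
        (.sgn (Nat.lor (b1 61441) (b1 61472))))))))))))

/-- The vector of a word. -/
noncomputable def wv (w : List ℕ) : Lane U → ℚ := W prog U w (vecU ℚ U a0)

/-- Kernel check of `wv w₁ = wv w₂`. -/
noncomputable def ident (w₁ w₂ : List ℕ) : Bool := chk prog a0 a0 w₁ w₂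

theorem ident_sound {w₁ w₂ : List ℕ} (h : ident w₁ w₂ = true) : wv w₁ = wv w₂ := chk_sound prog_good h

/-- The lanes of the matrix off the diagonal. -/
noncomputable def BOff : ℕ :=
  Nat.rec (motive := fun _ => ℕ) 0
    (fun s ih => Nat.lor ih (Nat.shiftLeft (Nat.xor 0xffffff (Nat.shiftLeft 1 s)) (Nat.add 61440 (Nat.mul 32 s)))) 24

/-- The lanes of `Y` and `Z`. -/
noncomputable def BYZ : ℕ :=
  Nat.shiftLeft (Nat.mul 0xffffff (Nat.div (Nat.sub (Nat.pow 2 131072) 1) (Nat.sub (Nat.pow 2 32) 1))) 131072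

/-- The blocks. -/
noncomputable def Bs : List ℕ := [BOff, BYZ]

/-- The monomial letters. -/
def isD (i : ℕ) : Bool := or (Nat.blt i 39) (and (Nat.ble 42 i) (Nat.ble i 44))

theorem monoB_lt : ∀ k, k < 39 → monoB Bs (prog (0 + k)) = true :=
  allN_spec (f := fun i => monoB Bs (prog i)) (a := 0) (n := 39) (by decide +kernel)

theorem monoB_inv : ∀ k, k < 3 → monoB Bs (prog (42 + k)) = true :=
  allN_spec (f := fun i => monoB Bs (prog i)) (a := 42) (n := 3) (by decide +kernel)

theorem monoB_of_isD {i : ℕ} (h : isD i = true) : monoB Bs (prog i) = true := by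
  unfold isD at h
  have h' : (Nat.blt i 39 || (Nat.ble 42 i && Nat.ble i 44)) = true := h
  rw [Bool.or_eq_true, Bool.and_eq_true, Nat.blt_eq, Nat.ble_eq, Nat.ble_eq] at h'
  rcases h' with h1 | ⟨h1, h2⟩
  · have := monoB_lt i h1
    rwa [Nat.zero_add] at this
  · have := monoB_inv (i - 42) (by omega)
    rwa [Nat.add_sub_cancel' h1] at this

theorem E_mem_cntGroup {i : ℕ} (h : isD i = true) : E prog U i ∈ cntGroup U Bs :=
  semE_mem_cntGroup (prog_good i) (monoB_of_isD h)

theorem U_lt : U < 2 ^ 2 ^ 18 := by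
  have h : Nat.blt U (Nat.pow 2 (Nat.pow 2 18)) = true := by decide +kernel
  rw [Nat.blt_eq] at h
  exact h

/-- Kernel check of the three counts. -/
noncomputable def invIs (w : List ℕ) (c₁ c₂ c₃ : ℕ) : Bool :=
  chkCnt 18 20 U prog a0 w [(BOff, 0, c₁), (BYZ, 0, c₂), (BYZ, 2, c₃)]

/-- The three counts. -/
noncomputable def inv3 (f : Lane U → ℚ) : ℕ × ℕ × ℕ := (cnt U BOff 0 f, cnt U BYZ 0 f, cnt U BYZ 2 f)

theorem inv3_of_mem {g : (Lane U → ℚ) ≃ₗ[ℚ] (Lane U → ℚ)} (hg : g ∈ cntGroup U Bs) (f : Lane U → ℚ) :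
    inv3 (g f) = inv3 f := by
  have h := mem_cntGroup.1 hg
  unfold inv3
  rw [h BOff (by simp [Bs]) 0 f, h BYZ (by simp [Bs]) 0 f, h BYZ (by simp [Bs]) 2 f]

theorem invIs_sound {w : List ℕ} {c₁ c₂ c₃ : ℕ} (h : invIs w c₁ c₂ c₃ = true) : inv3 (wv w) = (c₁, c₂, c₃) := by
  have h1 := chkCnt_sound (m := 18) (k := 20) U_lt prog_good h
  have e1 := h1 (BOff, 0, c₁) (by simp)
  have e2 := h1 (BYZ, 0, c₂) (by simp)
  have e3 := h1 (BYZ, 2, c₃) (by simp)
  simp only [Nat.cast_zero, Nat.cast_ofNat] at e1 e2 e3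
  unfold inv3 wv
  rw [e1, e2, e3]

end Cfsg.Agent.MonsterX.CertBase

private theorem dce_e7923a641401 : _root_.True := by
  try have : _root_.True := by simp only [_root_.Cfsg.Agent.MonsterX.CertBase.Bs.eq_1]
  exact _root_.True.intro
end
end

-- part: MonsterX/CertV
section
set_option linter.all false
open scoped Cfsg.Agent.FastGrp

/-!
The vectors of the words in the space `V`: `ax` = the base axis (norm `8`), `vv w = W w ax`.

* `vv_eq_of_ident`: vector identities from the kernel checks `ident`;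
* `inv3V`: the three counts, invariant under `N`;
* `F_ax`: the inner product with `ax` in terms of five lanes.
-/

set_option autoImplicit false
set_option maxRecDepth 100000

namespace Cfsg.Agent.MonsterX.CertV

open Cfsg.Agent.Monster.VecEngine Cfsg.Agent.Monster.VecSpace Cfsg.Agent.MonsterX.ProgBase
  Cfsg.Agent.MonsterX.ProgTable Cfsg.Agent.MonsterX.CertVec Cfsg.Agent.MonsterX.CertBase Cfsg.Agent.MonsterX.Space

/-- The base axis. -/
noncomputable def ax : V := (1 / 256 : ℚ) • vecV a0

/-- The vector of a word. -/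
noncomputable def vv (w : List ℕ) : V := Conc.W w ax

@[simp] theorem vv_nil : vv [] = ax := by
  unfold vv
  rw [Conc.W_nil]; rfl

theorem vv_append (w w' : List ℕ) : vv (w ++ w') = Conc.W w' (vv w) := by
  unfold vv
  rw [Conc.W_append]; rfl

/-- VECTOR IDENTITIES from the kernel check `ident`. -/
theorem vv_eq_of_ident {w₁ w₂ : List ℕ} (h : ident w₁ w₂ = true) : vv w₁ = vv w₂ := by
  have h' : check (w₁.map prog) a0 (w₂.map prog) a0 = true := by
    rw [← dec_eq, ← dec_eq]; exact Cfsg.Agent.Monster.VecFast.check_of h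
  have h1 := Conc.W_eq_of_check h'
  unfold vv ax
  rw [map_smul, map_smul, h1]

theorem sym_a0 : sym a0 = true := by decide +kernel

theorem W_coe' (w : List ℕ) (v : V) : (Conc.W w v : Lane U → ℚ) = CertVec.W prog U w v.1 := by
  have hg : ∀ P ∈ w.map prog, GoodW 262144 U (.sgn 0) P := by
    intro P hP
    obtain ⟨n, -, rfl⟩ := List.mem_map.1 hP
    exact prog_good n
  rw [Conc.W_coe, W_eq, wordE_apply ℚ (by norm_num) hg]

theorem E_coe' (n : ℕ) (v : V) : (Conc.E n v : Lane U → ℚ) = CertVec.E prog U n v.1 := by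
  rw [← Conc.W_single, W_coe', CertVec.W_singleton]

theorem vv_coe (w : List ℕ) : (vv w : Lane U → ℚ) = (1 / 256 : ℚ) • wv w := by
  unfold vv wv
  rw [W_coe']
  show CertVec.W prog U w ((1 / 256 : ℚ) • (vecV a0 : Lane U → ℚ)) = _
  rw [map_smul, vecV_coe sym_a0]

/-! ### The three counts -/

/-- The three counts of a vector. -/
noncomputable def inv3V (v : V) : ℕ × ℕ × ℕ := inv3 ((256 : ℚ) • v.1)

theorem inv3V_vv (w : List ℕ) : inv3V (vv w) = inv3 (wv w) := by
  unfold inv3V
  rw [vv_coe, smul_smul]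
  norm_num

theorem inv3V_E {n : ℕ} (h : isD n = true) (v : V) : inv3V (Conc.E n v) = inv3V v := by
  unfold inv3V
  rw [E_coe', ← map_smul, inv3_of_mem (E_mem_cntGroup h)]

theorem isD_of_lt {n : ℕ} (h : n < 39) : isD n = true := by
  unfold isD
  have : Nat.blt n 39 = true := by
    rw [Nat.blt_eq]; exact h
  rw [this]; rfl

/-- The three counts are invariant under `N`. -/
theorem inv3V_of_mem {g : V ≃ₗ[ℚ] V} (hg : g ∈ Conc.N) (v : V) : inv3V (g v) = inv3V v := by
  unfold Conc.N at hg
  induction hg using Subgroup.closure_induction generalizing v with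
  | mem g hg =>
    obtain ⟨n, hn, rfl⟩ := hg
    exact inv3V_E (isD_of_lt hn) v
  | one => rfl
  | mul a b _ _ ha hb => rw [LinearEquiv.mul_apply, ha, hb]
  | inv a _ ha =>
    have h := ha (a⁻¹ v)
    rw [← h, ← LinearEquiv.mul_apply, mul_inv_cancel]; rfl

end Cfsg.Agent.MonsterX.CertV
end

-- part: MonsterX/CertTab
section
set_option linter.all false

/-- decoders of the packed data (elaboration time only) -/
private noncomputable def pk61d (b S i : Nat) : Nat := Nat.mod (Nat.shiftRight S (Nat.mul b i)) (Nat.shiftLeft (nat_lit 1) b)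
private noncomputable def pk61f {α : Type} (t : Nat) (f : Nat → α) : α := Nat.rec (f Nat.zero) (fun k _ => f (Nat.succ k)) t
private noncomputable def pk61l {α : Type} (f : Nat → α) (s e : Nat) (tl : List α) : List α :=
  pk61f e fun e => Nat.rec tl (fun k ih => List.cons (pk61f (Nat.sub e (Nat.succ k)) f) ih) (Nat.sub e s)
-- part: MonsterX/CertB
section
/-!
The words of the representatives `b_j` of the orbits of `C` on the axes (applied to the base axis, the first letter acts
first), in the order 2A, 2B, 4A, 4B, 4C, 6A, 6C, 6F, 8B, 10A, 10B, 12C.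
-/

set_option autoImplicit false

namespace Cfsg.Agent.MonsterX.CertB

open Cfsg.Agent.MonsterX.CertVec

/-- The table of the words of the representatives. -/
noncomputable def bT : List (List ℕ) :=
  (by
  refine (?fq9001 : ((pk61l (fun i1 => ((fun g1 : Nat → Nat => pk61l (fun i2 => (pk61d (nat_lit 6) 
    (nat_lit 0xaeaa279a5919) (pk61d (nat_lit 3) 
    (nat_lit 0x58a13668ecd613359a3b358a6b34766b098acd66b1cf6231d9ac30b366b3580c566b3588c766b34766b34d66) i2))) (g1 i1) (g1 (Nat.succ i1)) List.nil) fun j => (pk61d (nat_lit 7) 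
    (nat_lit 0x75cf666406494c90100c000) j))) (nat_lit 0) (nat_lit 12) List.nil) : List (List ℕ))
    = ?xq9001 → (List (List ℕ))) ?hq9001; (case hq9001 => (set_option maxRecDepth 1000000 in set_option simprocs false in conv => lhs; reduce; dsimp only)); intro _; exact ?xq9001 : List (List ℕ))

/-- The word of the representative `b_j`. -/
noncomputable def bw (j : ℕ) : List ℕ := nth [] bT j

end Cfsg.Agent.MonsterX.CertB
end

-- part: MonsterX/CertTab
section
/-!
Tables for the certificates of the Monster model (letters of `ProgTable`, the first letter acts first).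

* `kj r`, `kw r` (`r < 251`): the representative of the `r`-th `D`-orbit is `k_r b_{kj r}` (`b_j` of `CertB`), `vw r` is
  its full word;
* `tauT t` (`t < 123`): `(r₀, r₁, n₁, r₂, n₂)` with `τ v_{r₀} = n₁ v_{r₁}`, `τ⁻¹ v_{r₀} = n₂ v_{r₂}`, one row for each
  `⟨D, τ⟩`-orbit;
* `inv r`: the three counts of `v_r`;
* `lw k` (`k < 30`): `(j, l)`, `l` a word fixing `b_j`.
-/

set_option autoImplicit false
set_option maxRecDepth 100000

namespace Cfsg.Agent.MonsterX.CertTab

open Cfsg.Agent.MonsterX.CertVec Cfsg.Agent.MonsterX.CertBase Cfsg.Agent.MonsterX.CertB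

/-- The `C`-orbit of the `r`-th `D`-orbit. -/
noncomputable def kj : List ℕ :=
  (by
  refine (?fq9002 : ((pk61l (fun i1 => (pk61d (nat_lit 4) 
    (nat_lit 0xbbbbbbbbbbbbbbbbbbbbbbbbbbbbbbbbbbbbbbbbbbbbbbbbbbbbbbbbbbbbbbbbbaaaaaaaaaaaaaaaaaaaaaaaaaaaaaaaaaaaaaa9999999999999999999999988888888888888888888888888888888888887777777766666666666666666666666555555555544444444444444333333333333333322222222211111000) i1)) (nat_lit 0) (nat_lit 251) List.nil) : List ℕ)
    = ?xq9002 → (List ℕ)) ?hq9002; (case hq9002 => (set_option maxRecDepth 1000000 in set_option simprocs false in conv => lhs; reduce; dsimp only)); intro _; exact ?xq9002 : List ℕ)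

/-- The words `k_r`. -/
noncomputable def kw : List (List ℕ) :=
  (by
  refine (?fq9003 : ((pk61l (fun i1 => ((fun g1 : Nat → Nat => pk61l (fun i2 => (pk61d (nat_lit 6) 
    (nat_lit 0x9e496795eaaaaa79249e0925927aab9e48a5927ae79a4adc9e496792b8279269e4ae7967ae4967ae795faa7aea9eb6e7967ad9aa79a7999aa79a7a9d9a79a7aa68e79a76ea9a766b9ebae79a77a5967ae7aaa9eb9e5aa79649e69ebaa7aa79a7aaa9eb9ea9a792796a9e69ea9a7aea9eb9e69eb9a7ae49e59e69e5967ae79259eaaa7aa7aaa9e69eb9eb76766b9eb9e69eb7679a77eb9e59ddae79679619e49e57e7967adc9ea9e69eb9ea9e69e59e59e59eb9eb9e69ea9ea9eb9e59e69eb9e69e696a9a59e5aaaaa7aaa9a7aa596792b9a7ae6927aeb9eaae79659e6927aa69eaaa7ae7967aa79a7ae7ae1927ae7ae49eb9eb66766b9eb9eb9277279a799f9ebaa76e7aea9df9e59d9aa79a7967967ae79a79a7ae7ae79a7ae7967967ae49e79679a79aa9e79677e79a77e7ae7767ae77e7aa76e79a79eb9e79279ea9e7aaa9a7aa6aa766aae79a49ebae79aa9ea9a7ae79a79e69e66a49e49dc9679276e59eb9eb9e49eb9ea9eb9e49e59e59e766596aae7aa59649e4aeb9ea9659e5967aaa9e49a7aeb9ea9a79249e59eb9ea9e7aab9e69e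7ae79aa9e7aa79aa9e7ae7aa69e7aea9eb9e7ae7aaa9e7ae7ad99e796795c9e7aa7ae79ea9ea9e79279279e59e49e79279a49279a7ae69ebaa7ae7aa6aa79ebaaa9e79a79a7ae79a79a7aa79a7967aaa9e79269e7ae7aa7aea9e7aa79a7ae79e69e79679e49e7aa79eaaea9ebaa7aa7ae79eaaa79eb9ea9eaae79e69279e49ea9e79a7a9faa79a7aaa9e59679a79259e69ea9e69279a79999e59eb9e69e49eb9eb9ea9eb9e49e49e59e79a79e49e7ae79e6aa7ae69eaaa79259eb9e69e7ae7aa7aa7aa7aaa9e7aa79679679e49e7ae7aa79eaaa69eb9eaae7ae79a7aab9eb9e69279679a79279a7aa7aa7aa79a7aab9e6967967ae7aa7aea9ea9eb9eaaa79279a49e59e69679a7ae7ae7aa7aa79a7ae7ae7aa7aa7ae6927aab9ebae79a49ea9e69eaae79a79ea9eb9e7aa7aa79ebaa79ea9e69eb9e7aa79e7aea9ea9ea9e69ea9e69ea9ea9ea) i2)) (g1 i1) (g1 (Nat.succ i1)) List.nil) fun j => (pk61d (nat_lit 10) 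
    (nat_lit 0xf33c3eefb3eb3a5e7f99e4f8de1f81def75dbf69d8f5ed6754d3f4ad1740cef36cc72cc9f22c7718c4f0ec2704bfefabd6f0bb2e8b92e0b72d8b52d0b32c6b06bdae6b5ac6aeaaea8a96a2a7e9da6e99a5e97a468ca1e829f6789ce6e9a6659865d966559464d926459063d8e6358c62e8ae28896218761985a138420d82e0982208809fd7e1f47c1ec7a1e577dda759d273dcc725c670dc06f9bc6e9b96e5b36b5a76859b6558f625845fd7a5d56f5a9655815b55d5353d4b51d434fd3b4dd344c52e4ad284912147d1d4711c461144410c4290841d07404fc3dcf23b4e8390e0370d8350d1338cb320c5308bf2f0ba2e0b72dcb32bcab29ca42849f2749c270962448c21c831fc7b1dc741c46f1b46b1ac661845c15c5313c4b11c430fc3c0e4360d0320c82c09c220781a05c1404c130380a020060180200000) j))) (nat_lit 0) (nat_lit 251) List.nil) : List (List ℕ))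
    = ?xq9003 → (List (List ℕ))) ?hq9003; (case hq9003 => (set_option maxRecDepth 1000000 in set_option simprocs false in conv => lhs; reduce; dsimp only)); intro _; exact ?xq9003 : List (List ℕ))

/-- The word of the `r`-th representative. -/
noncomputable def vw (r : ℕ) : List ℕ := bw (nth 0 kj r) ++ nth [] kw r

/-- The `τ`-identities. -/
noncomputable def tauT : List (ℕ × ℕ × List ℕ × ℕ × List ℕ) :=
  let y0 : List (ℕ × ℕ × List ℕ × ℕ × List ℕ) := (by
  refine (?fq9004 : (pk61l (fun i0 => (_root_.Prod.mk (pk61d (nat_lit 8) 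
    (nat_lit 0xf2e8dad0f0d8ccbbb9) i0) (_root_.Prod.mk (pk61d (nat_lit 8) 
    (nat_lit 0xf2dbdad0ced8bdbbb9) i0) (_root_.Prod.mk ((fun g0 : Nat → Nat => pk61l (fun i1 => (pk61d (nat_lit 6) 
    (nat_lit 0x1759244b2471420c08e281f71b6995123ce36b926964926964924aeb5d551244f38d30a2040c285f55449140f9abaa592baab92baa596aa9759551348f38c24818408102285a6544503ce926aabaab9269259165124503ca24715f6575124503e5aa592592baa59649abad759551344d2ca2051c38e079b6975944903a496a9a596a96aaa5aa696a9554d244f38d30818308071b6974d03a5924ae49a5aab92496aaa591751344f30a2481c61440c18e286079d65740daa692b92b9245544d23cb2061420238a181e6995d549034c2881808a179b65749038d92baaaaa592492b924924) i1)) (g0 i0) (g0 (Nat.succ i0)) List.nil) fun j => (pk61d (nat_lit 9) 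
    (nat_lit 0x25f0a72b0542792a8d04400) j)) (_root_.Prod.mk (pk61d (nat_lit 8) 
    (nat_lit 0xf2e8dad0cec3ddbbb9) i0) ((fun g0 : Nat → Nat => pk61l (fun i1 => (pk61d (nat_lit 6) 
    (nat_lit 0x5542ca2481c50c20408a075c6d65534903ce9aaae496a9abaaaae495548e30a1440c102171b65755444d924ae4924925aaaaa6aeba9651244c2c810602386079b5d65543ce9649659259249259249564d140f38d2451c08df79c6da6575533ce366965aabae496aaeaae4ad655340f3092c710306179c6575924503cd96a9659249649abaaaaa65d64d234a2061010206995d54d140faa6aea96a9aaaab51140f34c2071808a181f75a5d3464ae49aa9649aaaa592659514a04f3974c936381e75a5d65544913ce3450c281e75c6944d244f36a9aa96aaebaab9249649a4) i1)) (g0 i0) (g0 (Nat.succ i0)) List.nil) fun j => (pk61d (nat_lit 9) 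
    (nat_lit 0x2510370afd32742b0d84c00) j))))))) (nat_lit 0) (nat_lit 9) List.nil : List (ℕ × ℕ × List ℕ × ℕ × List ℕ))
    = ?xq9004 → (List (ℕ × ℕ × List ℕ × ℕ × List ℕ))) ?hq9004; (case hq9004 => (set_option maxRecDepth 1000000 in set_option simprocs false in conv => lhs; reduce; dsimp only)); intro _; exact ?xq9004 : List (ℕ × ℕ × List ℕ × ℕ × List ℕ))
  let y1 : List (ℕ × ℕ × List ℕ × ℕ × List ℕ) := (by
  refine (?fq9005 : (fun tl : List (ℕ × ℕ × List ℕ × ℕ × List ℕ) => pk61l (fun i0 => (_root_.Prod.mk (pk61d (nat_lit 8) 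
    (nat_lit 0xb8e9cfdcb2e5e6f3d9e2a4a2a0bebcd591b4edf6) i0) (_root_.Prod.mk (pk61d (nat_lit 8) 
    (nat_lit 0xeab7b6b3b2b0afd2d9a6a7a5a09d999291b48f8d) i0) (_root_.Prod.mk ((fun g0 : Nat → Nat => pk61l (fun i1 => (pk61d (nat_lit 6) 
    (nat_lit 0x144913cd2891020227de717550926aebaaaae4aea9aaaebaab5d449140f34c2c71850a38a179c655513491424ae4aeb92b92baaa9ab91759440e2c92050837155134903ce36aaa592496aae49649ab9175903ce34b24816285f7995d340e36b92baaa9649259245445ce51648240f01129f75b2103d41c458d54928e4607195134913aa9aaaea96a964aea9a59095cf44628b1441c058d8de7175944d24503eaae492592baaa9a496559440f2061440c18a05134903cd92496592592baea96492499545034c2ca2481c51020c08e285f79d6995934903ce366aeb9249ab92592459549034a2481c20de6da656554490aeaaa692baa6aa596a96aaea5d234a2071851020c18a175b5d651349142692baabaaa9ab92baaa95449138d30a1060e285f6da65551340e924924925aa5aaaaea9ab5d42003843501558a07da4d23ce92baabaeaaabaaa9a5aabaea5932853062cd25585e75655449136aae492b9269649245d64913ce1438e27db69655240f36596a9a5aabaabad759444e2c81060c10228607de6965544d23cdaea96a9ab92492b90c00c0175954d032385f79d64c00c01759545038c8e28607dc5d544d3040830627de71a5d65544914249a49649649aa96a40f34a24714308086079a6564d23ceaa6ae4926925aa5aa5aa5)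 i1)) (g0 i0) (g0 (Nat.succ i0)) List.nil) fun j => (pk61d (nat_lit 10) 
    (nat_lit 0x27b96a33845f2789bf669795412c41ce4308a421c6314c4208800) j)) (_root_.Prod.mk (pk61d (nat_lit 8) 
    (nat_lit 0xeae7b6dcb2b0d3aea8a6a7d1a0be99d59190edf6) i0) ((fun g0 : Nat → Nat => pk61l (fun i1 => (pk61d (nat_lit 6) 
    (nat_lit 0x1740f30b2871028df6d959551340fae4924926aeaaea965926aeb4d20c801039444536285f797592aab926aaaae492b92659344f38c2471850808e171b59550d9a5aaaaabaa69649259245d44503cc2c91c61008e279d6d44903cd926925924aeaa965544d140f38a1c51020e271a5d655349140d30b2881068dd71a6544903ce366aeaae49a4964aea9aa96429741118b3450c80553e181e6995d655140eaab925925aa692596a9655d54d24503ce2ca1c50c206379c6da6533a6aaa964964aea9a5925a8c00c01655240b20789f75b69750e9249a49249aaad75954d240f38d30b1c50c28e17de75c6d65544913a492696aaea964964aca01250e10f2d140c5c90931627de71b59244f36696aae4965aaaaaa96a9975123c92040c206281c5d644f38d964ae49649abae4965aa555238d20505f79c6da5d436bae4926aea96a9abae49254845484543c228904c16281e75a5d440f38daea965aa692bae49575944d244f34c2460e375c6da553366aaa964aebaa691430a1470e27dd6d43081c614408304081f79d71b6995ce18a3524cf5952455118e06994d23cdaeaaeaaa5aabaabaeaa8138528832281d64c2c814206381d699)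 i1)) (g0 i0) (g0 (Nat.succ i0)) List.nil) fun j => (pk61d (nat_lit 10) 
    (nat_lit 0x24789206791c56d18c59941494fd354b4258731544b0e01502c00) j))))))) (nat_lit 0) (nat_lit 20) tl)
    = ?xq9005 → (List (ℕ × ℕ × List ℕ × ℕ × List ℕ))) ?hq9005; (case hq9005 => (set_option maxRecDepth 1000000 in set_option simprocs false in conv => lhs; reduce; dsimp only)); intro _; exact ?xq9005 y0 : List (ℕ × ℕ × List ℕ × ℕ × List ℕ))
  let y2 : List (ℕ × ℕ × List ℕ × ℕ × List ℕ) := (by
  refine (?fq9006 : (fun tl : List (ℕ × ℕ × List ℕ × ℕ × List ℕ) => pk61l (fun i0 => (_root_.Prod.mk (pk61d (nat_lit 8) 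
    (nat_lit 0x9f87c47ce07a7877e3adcd737271df826ba1) i0) (_root_.Prod.mk (pk61d (nat_lit 8) 
    (nat_lit 0x9f9ac4e47bd67977ab75747372ee6ff9f46a) i0) (_root_.Prod.mk ((fun g0 : Nat → Nat => pk61l (fun i1 => (pk61d (nat_lit 6) 
    (nat_lit 0x1651340e30b2881851030810228164903cd96a964ae4926ae49649a4aea5d655140f2891c50c206285e7195944d244faab92b926aaaae494930554244d39f79d71b6995d64d1365925aabaeaaaa9aa0cf31304058a54624b4607da511aa592596aaab9269259245954d234b2851c40c102389e65759444dae49249aa964aea51240e2450838e16995d655344f364964964ae49a596a3cc04a5405044c78e281f7113aa965aaaae492b92b9249975544d03ce3238a17dc6da5542881c20c185d6565124503ebaaaaa692b92592b9249a5a965543ce30714204075c6d759244f38d92baa5924924aeb925aa6a9655444e34c1471010217d44eaaaaaabaa6aeaaea5944d24503cd3092071840830408e181c6d65544cf36692b925aaaaeaae49ab59551349140f34c02385d71b6955103ce34b2481851030638606d955349140f36596aaeaaaa9aa96aaeba9638d1413101c35c61227dc6d75954913ce36692baeaaabaaaaa65d651345038b24381e71758f364964aebaa6aeb58d08901448a55714e3108e181f75036baa596a96a9aaaaaaeaad75954d140d30b2461020c18e079d6975944d03cdaa6924925aaaaea96aaa5)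 i1)) (g0 i0) (g0 (Nat.succ i0)) List.nil) fun j => (pk61d (nat_lit 10) 
    (nat_lit 0x241869f7761b86617a56d4c4ad073b0c22c4891984c0a400) j)) (_root_.Prod.mk (pk61d (nat_lit 8) 
    (nat_lit 0x8cc286acef7aa99376adf5ec8eee9b6df4a1) i0) ((fun g0 : Nat → Nat => pk61l (fun i1 => (pk61d (nat_lit 6) 
    (nat_lit 0x5d65533cd30b2461020408e27dc5d655446596aaa6aab9249aaa974502891c61440c10226943cdaebaa596aae4964ad74d240e2061440808a181f71a59551140e366ae4926aab925aab92692455448b24818189f79b6544d240daabaeaaa5926aabae45d64d244f34c2c81c41a079d6995d64d245038d9a596a965aa6aea95228214138d1915c42c93227dc6975955133abae49649ab92b9249659245d54d244f38d2c81c60c101c5d349140daa596aaeb926aabaa6ae491651038a2481c40237de75c5d24503ce964aeaae4ad75103cd30b2892071851020e07db6995d654f3aaaea96aae4aeb9083111965d22d534e3c18a171a657595512450aa592692492592baeaaeaa9655444f3471850c10227dc6d95d649036a9aaae4aea9aa96aaeaa9755349140c1c61448e285e5d65133cd96a9a4aebaa6aaa9643443084033914a38a075c6d955349140f96592b925aa5aa695744c2ca1c41830408e17dd6d95134903ce36a9a4ae4926964965aa65944d24502ca2468a179c6d95cd92b925aabaea9aaaeb59549140f38a20614408306271a65755448f3aaaa5aabaaaaa655244f34608304089f79d6da6564509a592b92baaa9a4965a834ca38611415032285d69996aae496aaaaaabaea964)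 i1)) (g0 i0) (g0 (Nat.succ i0)) List.nil) fun j => (pk61d (nat_lit 10) 
    (nat_lit 0x26690e27801e26f5965c5554c509394c428c7e1803e07400) j))))))) (nat_lit 0) (nat_lit 18) tl)
    = ?xq9006 → (List (ℕ × ℕ × List ℕ × ℕ × List ℕ))) ?hq9006; (case hq9006 => (set_option maxRecDepth 1000000 in set_option simprocs false in conv => lhs; reduce; dsimp only)); intro _; exact ?xq9006 y1 : List (ℕ × ℕ × List ℕ × ℕ × List ℕ))
  let y3 : List (ℕ × ℕ × List ℕ × ℕ × List ℕ) := (by
  refine (?fq9007 : (fun tl : List (ℕ × ℕ × List ℕ × ℕ × List ℕ) => pk61l (fun i0 => (_root_.Prod.mk (pk61d (nat_lit 8) 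
    (nat_lit 0xebf766646362815f5e5ab5f1aa6ecbb14f60d46c) i0) (_root_.Prod.mk (pk61d (nat_lit 8) 
    (nat_lit 0x97686598bf626185f85ae156555453524f4ed46c) i0) (_root_.Prod.mk ((fun g0 : Nat → Nat => pk61l (fun i1 => (pk61d (nat_lit 6) 
    (nat_lit 0x3563d02554ca8a181d6d95523ceaab9269659259249645d655240a2070810227dd6d648f3a6aeaaebaa6aaa9655d349038b2851020e285e71a5d24503ce36baab92baa6ae49255d648c2ca2071447995d655449140eaea9a5aaaae496a5d54d24503cd2c91c30808a15d65544d03a6ae49249abaaaaa65d549140e2881470c10238a17de6544d238d9aaaeb926aaaaab5954cf34c2ca18510375c6da6553a696aaa6925964ad64490cd18c40852179d71b69648e924926aeba965421803ce5d414981c6da65551140daeaaa6aaa96459348e2ca1440c27dd69955344f38d1c50c20408e281f6da5954903cd96aaaa9aaae4ae454d2840c204085f71a65759349140f3a49abae49249a496a5d551240a1850c10227da5d551238daabaaaaa6964ae4aeb9259165123ce2c81428e26d74d23eaaaaaea965924926aa5964ad43ce1812d22845c816286075c69759140e9649a5aaaaebaaa99245034c2471020e386079a65758f36aaeb92496a9a491759349034c8a179c6d935745210e3c30480164238a079a59340e92596a9649a4964aeb9165534913ce32375c6995d54ce32075c6d9)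 i1)) (g0 i0) (g0 (Nat.succ i0)) List.nil) fun j => (pk61d (nat_lit 10) 
    (nat_lit 0x22e841f2741b26416e545374690c3a8ca29c87194470e81702800) j)) (_root_.Prod.mk (pk61d (nat_lit 8) 
    (nat_lit 0x69f7c880bf62de85895a57f1aa54cbb14f604d4c) i0) ((fun g0 : Nat → Nat => pk61l (fun i1 => (pk61d (nat_lit 6) 
    (nat_lit 0x175924081c61420628607de71655449036696aae492baa6aeb5d34913ce3092071227165544cf36a96aaaa9a59249249a496a55240c2881060817dd71b5d65544d13a5aa592596aaa69134913ce34c2450408a07dc65755240f9a5924964964ae459349138d30b28812271b6995d65134913cdaabaeaaa6aaa9413c61090154ca58548334e85f79c6955123ce9649249aa96592655108500b1d73c41a285e75a6534913aaaa6aeb92bae49a594f18d4525101c97dd71b6995944d240f38d965926ae496496491648f38d2c80c20238607de5d651240faaaae4aeb92496494c00c0165544d13cd2c281f6575955134903cd2c81440238a175c6954d140f3a6ae492baa696591651344f38c28718379c5d649140f38d925964aeb92696aaaaaeba9755345038c2c91430408e181f5d655440f3a5aa6aabaa5aaaaeb92595551345038d30a2481850c20408e07954d03ceaeb924ae49249a59011c338021328f2d432381f7195d55133659269649259269554913ce34c2ca1c614408171b6573ceaa596a9a4aeb9155134503cd2471440c20227de75a6554d11c041438158c09f6995d551340e34c24810206281f79b5944eaaeaaebaa596aaa6aa595744400d04c3835a38607dd719593425aabaea9aaaaa)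 i1)) (g0 i0) (g0 (Nat.succ i0)) List.nil) fun j => (pk61d (nat_lit 10) 
    (nat_lit 0x26b92a28825ea725a66156350d3343ceb314a12046313c4007400) j))))))) (nat_lit 0) (nat_lit 20) tl)
    = ?xq9007 → (List (ℕ × ℕ × List ℕ × ℕ × List ℕ))) ?hq9007; (case hq9007 => (set_option maxRecDepth 1000000 in set_option simprocs false in conv => lhs; reduce; dsimp only)); intro _; exact ?xq9007 y2 : List (ℕ × ℕ × List ℕ × ℕ × List ℕ))
  let y4 : List (ℕ × ℕ × List ℕ × ℕ × List ℕ) := (by
  refine (?fq9008 : (fun tl : List (ℕ × ℕ × List ℕ × ℕ × List ℕ) => pk61l (fun i0 => (_root_.Prod.mk (pk61d (nat_lit 8) 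
    (nat_lit 0x7f4ad7a39ec083444342414070c58b35fa8a3e51957e2b) i0) (_root_.Prod.mk (pk61d (nat_lit 8) 
    (nat_lit 0x4b4a494847c045679684413c38378b35348a322e2d2c5d) i0) (_root_.Prod.mk ((fun g0 : Nat → Nat => pk61l (fun i1 => (pk61d (nat_lit 6) 
    (nat_lit 0x55108704d2d73c62a37dd65551238daa5aa59649a591340e34c71b6994d23ce34920718510286071959550e3649a4965925926ae459538c2471060408a07dc5d55134503e4ae4ae492592696aae492499344118034950e0888e17dd65651349140e9ab92baabaaaae4ae496498c00c0175544d234c85e75b69551240f34920408189f75c6d755140daabaeaaeb926aaa9913ce30b28608301e71b6975955134903e6aeb925926aab92492b92495751240f34c1c60e386075a65651240e36b925aabaa5aa5aa69242045034114d23d754786079c6d63cd9a492baea9659261113d40c158c54524d4a385f7995544d09249649aaaeaa901cd31319155689f7195d649140f3a49249aaaebaa5a8d1891d008f4968e285b6554cf365964aea9aaac949150401735528c4138de75b6975944913a4ae4aeba964913ce34c0238606da3003005d64903ce34c8a175c6d551238d30b1c61028e281b6975944d140f38daebaa692b90c00c01349140f38d32381f79d71959540e30b20718308085d6d95d53ce3080c204081f79c5d551344f3abae4ae4965aaa5944d240f1820c08e28607de7575544903e496496a96aaaaaa55d655349140f1a181d69959551240d964925aa69255944c504a5490d71846d748f9659249abaa5926)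 i1)) (g0 i0) (g0 (Nat.succ i0)) List.nil) fun j => (pk61d (nat_lit 10) 
    (nat_lit 0x9d25793a2e825e374db36356a5312d43cf535cca2e499218761603606800) j)) (_root_.Prod.mk (pk61d (nat_lit 8) 
    (nat_lit 0x7f4ad7a39e4683c1c7c9885b70c53635fa335c51957e5d) i0) ((fun g0 : Nat → Nat => pk61l (fun i1 => (pk61d (nat_lit 6) 
    (nat_lit 0x34c2060a079a51340e3491c50830617dd71655348f38c2c91850c28e179d6da34c2c51020c102375c6da6543092c50e385d6d75123cd28814202389f6974d03e49a492492baa692b5954d23ce3061440c201e75c6da5d340f38c2c920718508101d71a655512450aaa9649259249aa5d551349138c2c920402281e75759340f38d9249249ab92596491651348e34c2450830607de75655344e9259269649649aa59551344f38c24614201f71a6575503ce36a965aa6aaaaa6a9649038d2020207dd65440f924aebaa6965aaa08621728c2451e28607de75a5d44503ce34c2070607d959544f38c2881c50810227975943ce36aaabaa5aaaa975923ce3492c81448e281b5cc2881850408a079d6575954cf38d2071430627de71b6964d03cdaeba9759348c2ca2071850df79b5d54d2464965aabaa5aa55d44503ce34c14711f75c0543135cd4195d445034c1c60df79b14f35210254a50824c45f75a6534aa965926aeb)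 i1)) (g0 i0) (g0 (Nat.succ i0)) List.nil) fun j => (pk61d (nat_lit 9) 
    (nat_lit 0xed74b87b0d0e5ef568a348e08e3652e9588f401ccb23c170983400) j))))))) (nat_lit 0) (nat_lit 23) tl)
    = ?xq9008 → (List (ℕ × ℕ × List ℕ × ℕ × List ℕ))) ?hq9008; (case hq9008 => (set_option maxRecDepth 1000000 in set_option simprocs false in conv => lhs; reduce; dsimp only)); intro _; exact ?xq9008 y3 : List (ℕ × ℕ × List ℕ × ℕ × List ℕ))
  (by
  refine (?fq9009 : (fun tl : List (ℕ × ℕ × List ℕ × ℕ × List ℕ) => pk61l (fun i0 => (_root_.Prod.mk (pk61d (nat_lit 8) 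
    (nat_lit 0xc63f9c502322ca591e31ba7d3b943a1615242658392f2517140a21110904080100) i0) (_root_.Prod.mk (pk61d (nat_lit 8) 
    (nat_lit 0xc63f9c502322201f301dba7d3b94181615131258392f0d17140a21110504080300) i0) (_root_.Prod.mk ((fun g0 : Nat → Nat => pk61l (fun i1 => (pk61d (nat_lit 6) 
    (nat_lit 0x55444c79b65759448c8607de75b69238d30071b5d44d238c20308085751349038d30814708181e6da5d64d240e965aa6aa5964ae45513ce20709648e3040c189e7564d140faeaaeaaaa9a496a9955124503cd30089f79d71755340f36b92592bae4926aea5913cd30a2481060d95d651348e36a9649a4aeb9165134913ce14304085f75c6da5944913a6925926965a954d138c02168c00c01655449140c8e175b64c00c0175544d234c75a65140f30c3465c244e4238a17de7195d242baeaaabaaa9644cf32281e75b64e31f5d44d140f3071830a07de71b69959348f38d92b925964aeba815084d529081d71a5d44503649abaabaab92495344f38d31344d31649140c64c00c01349038d31951244f3a6aeb92ba9032179b65548f38c55444c7dd6cc00c01654e34c30030055444f34c40c44c7cc00c00c) i1)) (g0 i0) (g0 (Nat.succ i0)) List.nil) fun j => (pk61d (nat_lit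 9) 
    (nat_lit 0x34199c6e1af75aa9ce634ff70b6592bb5ba712690379549e4b228bc52240e8501408028000000) j)) (_root_.Prod.mk (pk61d (nat_lit 8) 
    (nat_lit 0x2a2928272322ca593d311c1b1a193a16152412100f0e250c0b0a07060904020300) i0) ((fun g0 : Nat → Nat => pk61l (fun i1 => (pk61d (nat_lit 6) 
    (nat_lit 0x1755240e2040238a07de71a65449138dae49abaea964ae495755245034706179c6da5d65534903e5926aab92b9269645d650d3080c20408a079c5d65524503abaea9a49269245d64d140f34c1c50810217d75954cd96aaeaaea9a49144d24503860607dd6da65551140f36496a964924ae491449140f38d2061430816d75544d138c20408381c6da44c1c20c17db6994025453523011c60091206da5d65544d245038d964964925aaa5d54d038d3070c205f6da6404d50d63143a38a181759551348f36a96496a96aaa6a975944d03ce16281e75c6da6575954503eaaeaaa596aae495548f38d1060408a079a6565524503cd96a96aaa5aa59245d65544cf38d14306281f71b6995134a492b92692544c1c61417de7594d034606281d6c509f75a55449138d3081c181f64d08c3d050e1888975954d13a4ae4964aea9653003005d65544503ce3227de75c68f36492496aaa6a8c00c0103ce2018e27da5d4491366aea965925a8c00c0133ce34c81d6995544d140f366964926aea5d54cf3030816da6575953c60839ab91338d30781e75c6574914249249249abaab55444d11f75c6d54d038d3236995113ceaa592b92bae44ce34c08305b69944c05934c)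 i1)) (g0 i0) (g0 (Nat.succ i0)) List.nil) fun j => (pk61d (nat_lit 10) 
    (nat_lit 0x94e33851f6765bb6b59e6517258d45495063a8e035cd2314ac23c751684f1142e09410040060080200000) j))))))) (nat_lit 0) (nat_lit 33) tl)
    = ?xq9009 → (List (ℕ × ℕ × List ℕ × ℕ × List ℕ))) ?hq9009; (case hq9009 => (set_option maxRecDepth 1000000 in set_option simprocs false in conv => lhs; reduce; dsimp only)); intro _; exact ?xq9009 y4 : List (ℕ × ℕ × List ℕ × ℕ × List ℕ))

/-- The row `t`. -/
noncomputable def tauRow (t : ℕ) : ℕ × ℕ × List ℕ × ℕ × List ℕ := nth (0, 0, [], 0, []) tauT t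

/-- `r₀` -/
noncomputable def t0 (t : ℕ) : ℕ := (tauRow t).1
/-- `r₁` -/
noncomputable def t1 (t : ℕ) : ℕ := (tauRow t).2.1
/-- `n₁` -/
noncomputable def n1 (t : ℕ) : List ℕ := (tauRow t).2.2.1
/-- `r₂` -/
noncomputable def t2 (t : ℕ) : ℕ := (tauRow t).2.2.2.1
/-- `n₂` -/
noncomputable def n2 (t : ℕ) : List ℕ := (tauRow t).2.2.2.2

/-- The two identities of the row `t`. -/
noncomputable def tauOK (t : ℕ) : Bool :=
  and (ident (vw (t0 t) ++ [40]) (vw (t1 t) ++ n1 t)) (ident (vw (t0 t) ++ [41]) (vw (t2 t) ++ n2 t))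

/-- The three counts of the representatives. -/
noncomputable def inv : List (ℕ × ℕ × ℕ) :=
  (by
  refine (?fq9010 : ((pk61l (fun i1 => (_root_.Prod.mk (pk61d (nat_lit 10) 
    (nat_lit 0x10040100448f03a8f02e8d02d8bc348c42b0d2300c43a8ba3a8e6310e6358b0280c2301003c0b0318c63b0c0400d836100338ba360e4360c6378c061214748c07220040198301006e1006d1983000000208330bc378d8280b43e110680ba380ca378de310b8350d4398c0300e0400c0350cc659006820830100001a0301b880208210d238094210dc3498840000281cc20150691b04004030150001ce7f0ca2e8b42a0b4210a02d0b0280b82d10020058401002b0d8380ce6e08038140540ee401006f100831e078208842284011846118782188622840080300c00000026070200804011844148401a0779a4821a0801e08882000100000c0001a47c208889184611846100401e086218861e0862288a08c41100400e82b900300007c1c078218701f08998c000004e138739f08722846100782188a0007c226) i1) (_root_.Prod.mk (pk61d (nat_lit 17) 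
    (nat_lit 0x3c721d618e62467ec38b4da22ad0d0654332bf15ad6cbf0688db43c1c91cd554673e32a6d9440cbf9650db2a9992c0cf5c678d329815890d0d6684a3a431984ccbb665ee32f59936ccc46781435b51ca26f248654832a2d9180cad664b032f8da1aacc86564b47c021100d5807800473a1e03ce480662838cc1eb70f09e679c3270197e0c9a0641e49a019280cbf665edb29ed5bece30865f6316015880cb1b65eb32f459fb4d0b768312b201aac4cbec64b832eb99430c9607798329e19ef0c98071783bb419701187868c638ff9985cea3068da3c90236f122906ae833759f520c94066063575192acc96083704238198991800653733001d160f0c0847034fd19fe8d0b086704e1e27920cabb6648b46559eb0cf4a73c832aa194c0cc96682aba5c99818f72c664c23e01cd50f25466203260195b0cc407800341c9a094e3806600355c1c750f4d47e8037fa2490114008a00340024d0116e0656732dd99300b17065d632401ffe0f8708a00356a1a120d0a880e04600198a0ca6064d0334f1fb80d1b86720395021a00f500a2743d4028d40f500a35052c029dd8da58661e3e7023000cf907ce03d4028d4146a0a77623c018c0100006c00324023000c00040005d802ee0173c0b8005c002ff80c9006c00460023000d800820046001a0012000be805da02ed017a00b9005d402ff90b000900048002e0017c00bb005f802ff817fffc0006000300018000c0006000300018000)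 i1) (pk61d (nat_lit 17) 
    (nat_lit 0x20a30fb6c83a65140219594228a1a054c829f0196a8a6705096285e109649d0052d42a6115420a694550a2a60158e0a498526c2ad419c50a1a051b41fe994ca0a858535829a615530a610407426c01074c7ec854c42a6315a20a7b8563829a114308a5f0663c15b00bdb89c40415a1530107d884a8532021e58f560802451502aa414d40ac505500138015940a6a8535a2a6d195c087ba53582c4019c80a914535c29af14840a1bc50fc338813950a6b056442a2215450ac9041b62a6a14900ac8043dc210414dc05c005058215794ff07eb050481fb10b00055004e40291e0cd88aca053502724153b0ac903315188e94e205728550c29a81016080c42f63278c14560a3802d4b0bd005f40a9d453262843149a0a4f840dd2a7415760a648514e1fee94dc07d2c53cc3c00106cc7dd453602b3015370a6c040882878144c087b05340273010bac7be43170228d898005e902d88288009c006000548429aa15880c74053782b200f00080002d94273014600a1c02f6e15f214e80ac5056a829800c578a1205368213e0b6387b8015881fc005f007c1016400a2404c0098c053401abf0bbb0a380334e1f0405f002c8015003c00160005e804c002a600ac40b800800000000000000000000000000000ad804e0017000be009c002fa01640154005120000000000000000000000000000000c00026001500000000000000000000000000000000000000000000000000000000000000)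 i1)))) (nat_lit 0) (nat_lit 251) List.nil) : List (ℕ × ℕ × ℕ))
    = ?xq9010 → (List (ℕ × ℕ × ℕ))) ?hq9010; (case hq9010 => (set_option maxRecDepth 1000000 in set_option simprocs false in conv => lhs; reduce; dsimp only)); intro _; exact ?xq9010 : List (ℕ × ℕ × ℕ))

/-- The check of the three counts. -/
noncomputable def invOK (r : ℕ) : Bool :=
  invIs (vw r) (nth (0, 0, 0) inv r).1 (nth (0, 0, 0) inv r).2.1 (nth (0, 0, 0) inv r).2.2

end Cfsg.Agent.MonsterX.CertTab
end
end
end
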